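import Groth.Agent.AlgSpQC10.WeakFin
import Groth.Agent.AlgSpDec.EtStalkAb
import Groth.Agent.AlgSpPts.OpenSub

/-!
# Maps of coherent modules which are injective or surjective on a stalk
-/

universe u

set_option autoImplicit false
set_option linter.style.haveILetI false
set_option linter.unusedSectionVars false
set_option backward.isDefEq.respectTransparency false
set_option backward.isDefEq.respectTransparency.types false

open CategoryTheory CategoryTheory.Limits AlgebraicGeometry Opposite TensorProduct AlgSp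
open Groth.Agent.AlgSpDec Groth.Agent.AlgSpDec.EtStalkElts

namespace Groth.Agent.AlgSpQC10

variable {S : Scheme.{u}} {X : Sp S}

/-- Restriction of sections. -/
noncomputable abbrev rs (M : ModEt X) {E E' : EtOver X} (f : E' ⟶ E) : Msec M E →+ Msec M E' :=
  QCart.sres (QCart.psh (R := OEt X) M) f

/-- A morphism of modules on sections. -/
noncomputable abbrev ap {G F : ModEt X} (φ : G ⟶ F) (E : EtOver X) : Msec G E →ₗ[A E] Msec F E :=
  QCart.appO (O := (OEt X).obj) (P := QCart.psh (R := OEt X) G) (Q := QCart.psh (R := OEt X) F) φ.val E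

theorem ap_rs {G F : ModEt X} (φ : G ⟶ F) {E E' : EtOver X} (f : E' ⟶ E) (x : Msec G E) :
    ap φ E' (rs G f x) = rs F f (ap φ E x) :=
  QCart.app_sres (O := (OEt X).obj) (P := QCart.psh (R := OEt X) G) (Q := QCart.psh (R := OEt X) F) φ.val f x

theorem rs_rs (M : ModEt X) {E E' E'' : EtOver X} (f : E' ⟶ E) (g : E'' ⟶ E') (x : Msec M E) :
    rs M g (rs M f x) = rs M (g ≫ f) x :=
  QCart.sres_sres (QCart.psh (R := OEt X) M) f g x

variable {p : FieldPt X}

/-- The germ of a section. -/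
noncomputable def gm (M : ModEt X) (N : EtNbhd p) : Msec M N.1 →+ ↥(stalkEt p ((toAbEt X).obj M)) :=
  (stalkEtι p ((toAbEt X).obj M) N).hom

theorem gm_rs (M : ModEt X) {N N' : EtNbhd p} (g : N' ⟶ N) (x : Msec M N.1) :
    gm M N' (rs M g.val x) = gm M N x :=
  ConcreteCategory.congr_hom (colimit.w (stalkEtDiagram p ((toAbEt X).obj M)) g.op) x

/-- A morphism of modules on stalks. -/
noncomputable def stalkHom {G F : ModEt X} (φ : G ⟶ F) (p : FieldPt X) :
    ↥(stalkEt p ((toAbEt X).obj G)) →+ ↥(stalkEt p ((toAbEt X).obj F)) :=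
  ((stalkEtFunctor AddCommGrpCat.{u + 1} p).map ((toAbEt X).map φ)).hom

theorem stalkHom_gm {G F : ModEt X} (φ : G ⟶ F) (N : EtNbhd p) (x : Msec G N.1) :
    stalkHom φ p (gm G N x) = gm F N (ap φ N.1 x) :=
  ConcreteCategory.congr_hom (ι_colimMap (Functor.whiskerLeft (EtNbhd.toEtOver p).op
    ((toAbEt X).map φ).hom) (op N)) x

variable (hX : IsAlgSpace X)

theorem exists_aff_to (N : EtNbhd p) :
    ∃ (N' : EtNbhd p) (_ : N' ⟶ N), IsAffine N'.1.obj.left.left := by
  obtain ⟨W, hW, hxW, -⟩ := exists_isAffineOpen_mem_and_subset (U := (⊤ : N.1.obj.left.left.Opens))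
    (x := base p N) trivial
  obtain ⟨M, g, e, -⟩ := exists_open p N W hxW
  haveI : IsAffine W.toScheme := hW
  exact ⟨M, g, IsAffine.of_isIso e.hom⟩

variable (hp : p.IsGeometric)
include hX hp

theorem exists_aff_under (N N' : EtNbhd p) :
    ∃ (N'' : EtNbhd p) (_ : N'' ⟶ N) (_ : N'' ⟶ N'), IsAffine N''.1.obj.left.left := by
  obtain ⟨W, a, b, -⟩ := exists_cone_obj p N N'
  obtain ⟨N'', c, hc⟩ := exists_aff_to W
  exact ⟨N'', c ≫ a, c ≫ b, hc⟩

theorem exists_gm (M : ModEt X) (z : ↥(stalkEt p ((toAbEt X).obj M))) :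
    ∃ (N : EtNbhd p) (σ : Msec M N.1), gm M N σ = z :=
  EtStalkAb.exists_rep _ hX hp z

theorem gm_eq_zero_iff (M : ModEt X) (N : EtNbhd p) (σ : Msec M N.1) :
    gm M N σ = 0 ↔ ∃ (N' : EtNbhd p) (g : N' ⟶ N), rs M g.val σ = 0 :=
  EtStalkAb.stalkι_eq_zero_iff ((toAbEt X).obj M) hX hp N σ

/-- Finitely many properties which hold eventually hold on a common affine neighbourhood. -/
theorem exists_common (N₀ : EtNbhd p) (h₀ : IsAffine N₀.1.obj.left.left) {ι : Type*}
    (P : ι → ∀ N : EtNbhd p, (N ⟶ N₀) → Prop)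
    (hP : ∀ (i : ι) (N N' : EtNbhd p) (f : N ⟶ N₀) (g : N' ⟶ N), P i N f → P i N' (g ≫ f))
    (h : ∀ i, ∃ (N : EtNbhd p) (f : N ⟶ N₀), P i N f) (s : Finset ι) :
    ∃ (N : EtNbhd p) (f : N ⟶ N₀), IsAffine N.1.obj.left.left ∧ ∀ i ∈ s, P i N f := by
  classical
  induction s using Finset.induction_on with
  | empty => exact ⟨N₀, 𝟙 _, h₀, fun i hi => absurd hi (Finset.notMem_empty i)⟩
  | insert a t _ ih =>
    obtain ⟨N, f, -, hN⟩ := ih
    obtain ⟨N₁, f₁, hN₁⟩ := h a
    obtain ⟨N₂, g, g₁, -⟩ := exists_cone_obj p N N₁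
    obtain ⟨N₃, k, hk⟩ := exists_cone_map p (g ≫ f) (g₁ ≫ f₁)
    obtain ⟨N₄, l, hl⟩ := exists_aff_to N₃
    refine ⟨N₄, ((l ≫ k) ≫ g) ≫ f, hl, fun i hi => ?_⟩
    rcases Finset.mem_insert.1 hi with rfl | hi
    · have e : ((l ≫ k) ≫ g) ≫ f = ((l ≫ k) ≫ g₁) ≫ f₁ := by
        simp only [Category.assoc, hk]
      rw [e]
      exact hP _ _ _ _ _ hN₁
    · exact hP _ _ _ _ _ (hN i hi)

variable (hXN : IsLocNoethSp X) {G F : ModEt X}

omit hp hX in
theorem surjective_ap_of_map [F.IsQuasicoherent] (φ : G ⟶ F) {E E' : EtOver X} [hE : IsAffine E.obj.left.left]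
    [hE' : IsAffine E'.obj.left.left] (g : E' ⟶ E) (hs : Function.Surjective (ap φ E)) :
    Function.Surjective (ap φ E') := by
  intro y
  obtain ⟨z, hz⟩ := (isCart F hE hE' g).2 (QCart.toSec g (QCart.psh (R := OEt X) F) y)
  obtain ⟨w, rfl⟩ := LinearMap.lTensor_surjective (QCart.Rg (OEt X).obj g) hs z
  exact ⟨QCart.bcMap g (QCart.psh (R := OEt X) G) w,
    (QCart.bcMap_natural (O := (OEt X).obj) φ.val g w).trans hz⟩

omit hp hX in
theorem injective_ap_of_ker [G.IsQuasicoherent] [F.IsQuasicoherent] (φ : G ⟶ F) {E E' : EtOver X}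
    [hE : IsAffine E.obj.left.left] [hE' : IsAffine E'.obj.left.left] (g : E' ⟶ E)
    (hk : ∀ x ∈ LinearMap.ker (ap φ E), rs G g x = 0) : Function.Injective (ap φ E') := by
  rw [injective_iff_map_eq_zero]
  intro y hy
  obtain ⟨w, hw⟩ := (isCart G hE hE' g).2 (QCart.toSec g (QCart.psh (R := OEt X) G) y)
  haveI := QCart.algebraMap_flat X hE hE' g
  have h0 : (ap φ E).lTensor (QCart.Rg (OEt X).obj g) w = 0 := by
    refine (isCart F hE hE' g).1 ?_
    rw [map_zero, ← QCart.bcMap_natural (O := (OEt X).obj) φ.val g w, hw]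
    exact hy
  obtain ⟨v, rfl⟩ := (Module.Flat.lTensor_exact (QCart.Rg (OEt X).obj g)
    (LinearMap.exact_subtype_ker_map (ap φ E)) w).1 h0
  refine hw.symm.trans ?_
  clear hw h0
  induction v using TensorProduct.induction_on with
  | zero => simp only [map_zero]
  | add a b ha hb =>
    simp only [map_add]
    rw [ha, hb]
    exact add_zero _
  | tmul b x =>
    rw [LinearMap.lTensor_tmul, QCart.bcMap_tmul, QCart.res_apply]
    have hx : rs G g (x : Msec G E) = 0 := hk x x.2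
    show b • QCart.toSec g (QCart.psh (R := OEt X) G) (rs G g (x : Msec G E)) = _
    rw [hx]
    exact smul_zero b

omit hp hX in
theorem injective_ap_of_map [G.IsQuasicoherent] [F.IsQuasicoherent] (φ : G ⟶ F) {E E' : EtOver X}
    [IsAffine E.obj.left.left] [IsAffine E'.obj.left.left] (g : E' ⟶ E) (hi : Function.Injective (ap φ E)) :
    Function.Injective (ap φ E') :=
  injective_ap_of_ker φ g fun x hx => by
    rw [hi (show ap φ E x = ap φ E 0 by rw [map_zero]; exact hx), map_zero]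

include hXN

omit hXN in
/-- Surjectivity on a stalk spreads to a neighbourhood. -/
theorem exists_surjective [F.IsQuasicoherent] [F.IsFiniteType] (φ : G ⟶ F)
    (h : Function.Surjective (stalkHom φ p)) :
    ∃ N : EtNbhd p, IsAffine N.1.obj.left.left ∧ Function.Surjective (ap φ N.1) := by
  obtain ⟨N⟩ := exists_etNbhd p hX hp
  obtain ⟨N₀, -, h₀⟩ := exists_aff_to N
  haveI := h₀
  obtain ⟨s, hs⟩ := (finite_Msec F N₀.1).fg_top
  obtain ⟨N₁, f, h₁, hN₁⟩ := exists_common hX hp N₀ h₀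
    (fun (x : Msec F N₀.1) (N : EtNbhd p) (f : N ⟶ N₀) => rs F f.val x ∈ LinearMap.range (ap φ N.1))
    (fun x N N' f g hx => by
      obtain ⟨t, ht⟩ := hx
      refine ⟨rs G g.val t, ?_⟩
      rw [ap_rs, ht, rs_rs]
      rfl)
    (fun x => by
      obtain ⟨z, hz⟩ := h (gm F N₀ x)
      obtain ⟨N₂, t, rfl⟩ := exists_gm hX hp G z
      obtain ⟨N₃, a, b, -⟩ := exists_cone_obj p N₀ N₂
      have h3 : gm F N₃ (rs F a.val x - ap φ N₃.1 (rs G b.val t)) = 0 := by
        rw [map_sub, gm_rs, ← stalkHom_gm, gm_rs, hz, sub_self]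
      obtain ⟨N₄, c, hc⟩ := (gm_eq_zero_iff hX hp F N₃ _).1 h3
      rw [map_sub, sub_eq_zero, ← ap_rs, rs_rs] at hc
      exact ⟨N₄, c ≫ a, _, hc.symm⟩) s
  haveI := h₁
  refine ⟨N₁, h₁, fun y => ?_⟩
  obtain ⟨z, hz⟩ := (isCart F h₀ h₁ f.val).2 (QCart.toSec f.val (QCart.psh (R := OEt X) F) y)
  suffices hy : ∀ z, QCart.bcMap f.val (QCart.psh (R := OEt X) F) z ∈ LinearMap.range
      (QCart.appSec (O := (OEt X).obj) φ.val f.val) by
    obtain ⟨w, hw⟩ := hy z
    exact ⟨w, hw.trans hz⟩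
  intro z
  induction z using TensorProduct.induction_on with
  | zero => simp only [map_zero]; exact Submodule.zero_mem _
  | add a b ha hb => rw [map_add]; exact Submodule.add_mem _ ha hb
  | tmul b x =>
    rw [QCart.bcMap_tmul]
    refine Submodule.smul_mem _ b ?_
    have hx : x ∈ Submodule.span (A N₀.1) (s : Set (Msec F N₀.1)) := hs ▸ Submodule.mem_top
    induction hx using Submodule.span_induction with
    | mem x hx => exact hN₁ x hx
    | zero => simp only [map_zero]; exact Submodule.zero_mem _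
    | add x y _ _ ha hb => rw [map_add]; exact Submodule.add_mem _ ha hb
    | smul a x _ ha => rw [map_smul]; exact Submodule.smul_of_tower_mem _ a ha

/-- Injectivity on a stalk spreads to a neighbourhood. -/
theorem exists_injective_under [G.IsQuasicoherent] [G.IsFiniteType] [F.IsQuasicoherent] (φ : G ⟶ F)
    (h : Function.Injective (stalkHom φ p)) (N₀ : EtNbhd p) (h₀ : IsAffine N₀.1.obj.left.left) :
    ∃ (N : EtNbhd p) (_ : N ⟶ N₀), IsAffine N.1.obj.left.left ∧ Function.Injective (ap φ N.1) := by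
  haveI := h₀
  haveI := isNoetherianRing_A hXN N₀.1
  haveI := finite_Msec G N₀.1
  haveI : IsNoetherian (A N₀.1) (Msec G N₀.1) := isNoetherian_of_isNoetherianRing_of_finite _ _
  obtain ⟨s, hs⟩ := IsNoetherian.noetherian (LinearMap.ker (ap φ N₀.1))
  obtain ⟨N₁, f, h₁, hN₁⟩ := exists_common hX hp N₀ h₀
    (fun (x : {x : Msec G N₀.1 // x ∈ LinearMap.ker (ap φ N₀.1)}) (N : EtNbhd p) (f : N ⟶ N₀) =>
      rs G f.val x.1 = 0)
    (fun x N N' f g hx => by
      show rs G (g.val ≫ f.val) _ = 0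
      rw [← rs_rs, hx, map_zero])
    (fun x => by
      refine (gm_eq_zero_iff hX hp G N₀ x.1).1 (h ?_)
      rw [stalkHom_gm, LinearMap.mem_ker.1 x.2, map_zero, map_zero])
    (s.attach.map ⟨fun (x : {x // x ∈ s}) =>
        (⟨x.1, hs.le (Submodule.subset_span x.2)⟩ : {x : Msec G N₀.1 // x ∈ LinearMap.ker (ap φ N₀.1)}),
      fun x y hxy => Subtype.ext (Subtype.ext_iff.1 hxy :)⟩)
  haveI := h₁
  refine ⟨N₁, f, h₁, injective_ap_of_ker φ f.val fun x hx => ?_⟩
  rw [← hs] at hx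
  induction hx using Submodule.span_induction with
  | mem x hx => exact hN₁ ⟨x, hs.le (Submodule.subset_span hx)⟩ (Finset.mem_map.2 ⟨⟨x, hx⟩, Finset.mem_attach _ _, rfl⟩)
  | zero => exact map_zero _
  | add x y _ _ ha hb => rw [map_add, ha, hb, add_zero]
  | smul a x _ ha =>
    show QCart.sres (QCart.psh (R := OEt X) G) f.val (a • x) = 0
    rw [QCart.sres_smul, show QCart.sres (QCart.psh (R := OEt X) G) f.val x = 0 from ha]
    exact smul_zero _

omit hXN hp in
/-- The open subspace below an etale chart. -/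
theorem exists_open_sub (hX' : IsAlgSpace X) (E : EtOver X) :
    ∃ (X' : AlgSp.Space S) (j : X' ⟶ (⟨X, hX'⟩ : AlgSp.Space S)), RepWith @IsOpenImmersion j.hom ∧
      Set.range (Points.map j.hom) = Set.range (Points.ofPt E.obj.hom) := by
  obtain ⟨W, j, hW, hj, hr⟩ := AlgSpPts.exists_open_subspace hX' (AlgSpLib.isOpenMap_ofPt E.property).isOpen_range
  exact ⟨⟨W, hW⟩, ObjectProperty.homMk j, hj, hr⟩

omit hXN in
theorem exists_nbhd_over {E : EtOver X} (h : Points.mk p ∈ Set.range (Points.ofPt E.obj.hom)) :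
    ∃ l : (FieldPt.liftsTo p).obj E, True := by
  obtain ⟨u, hu⟩ := h
  obtain ⟨l, -⟩ := EtStalkStrict.exists_nbhd hX hp E.property hu
  exact ⟨l, trivial⟩

omit hXN in
theorem stalkHom_surjective_of_nbhd [F.IsQuasicoherent] (φ : G ⟶ F) (N₀ : EtNbhd p)
    [IsAffine N₀.1.obj.left.left] (h : Function.Surjective (ap φ N₀.1)) : Function.Surjective (stalkHom φ p) := by
  intro z
  obtain ⟨N, σ, rfl⟩ := exists_gm hX hp F z
  obtain ⟨N', a, b, hN'⟩ := exists_aff_under hX hp N₀ N
  obtain ⟨t, ht⟩ := surjective_ap_of_map φ a.val h (rs F b.val σ)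
  exact ⟨gm G N' t, by rw [stalkHom_gm, ht, gm_rs]⟩

omit hp hXN

/-- Injectivity on an affine chart gives injectivity over the image of the chart. -/
theorem injective_ap_of_range [G.IsQuasicoherent] [F.IsQuasicoherent] (φ : G ⟶ F) {E₀ : EtOver X}
    [IsAffine E₀.obj.left.left] (h : Function.Injective (ap φ E₀)) (E : EtOver X)
    (hE : Set.range (Points.ofPt E.obj.hom) ⊆ Set.range (Points.ofPt E₀.obj.hom)) :
    Function.Injective (ap φ E) := by
  rw [injective_iff_map_eq_zero]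
  intro x hx
  let T : Sieve E :=
    { arrows := fun Y f => rs G f x = 0
      downward_closed := fun {Y Z} f hf g => by
        show rs G (g ≫ f) x = 0
        rw [← rs_rs, hf, map_zero] }
  suffices hT : T ∈ etTop X E from QCart.sres_ext_of_mem G hT x 0 fun W f hf => hf.trans (map_zero _).symm
  refine EtPoint.mem_etTop_of_lifts hX T fun q hq l => ?_
  have hmem : Points.mk q ∈ Set.range (Points.ofPt E₀.obj.hom) :=
    hE ⟨base q ⟨E, l⟩, ofPt_base q ⟨E, l⟩⟩
  obtain ⟨l₀, -⟩ := exists_nbhd_over hX hq hmem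
  obtain ⟨N, a, b, hN⟩ := exists_aff_under hX hq (⟨E, l⟩ : EtNbhd q) ⟨E₀, l₀⟩
  refine ⟨N.1, a.val, ?_, N.2, a.property⟩
  apply injective_ap_of_map φ b.val h
  rw [ap_rs, hx, map_zero, map_zero]

/-- Bijectivity on an affine chart gives bijectivity over the image of the chart. -/
theorem bijective_ap_of_range [G.IsQuasicoherent] [F.IsQuasicoherent] (φ : G ⟶ F) {E₀ : EtOver X}
    [IsAffine E₀.obj.left.left] (h : Function.Bijective (ap φ E₀)) (E : EtOver X)
    (hE : Set.range (Points.ofPt E.obj.hom) ⊆ Set.range (Points.ofPt E₀.obj.hom)) :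
    Function.Bijective (ap φ E) := by
  refine ⟨injective_ap_of_range hX φ h.1 E hE, fun y => ?_⟩
  let T : Sieve E :=
    { arrows := fun Y f => ∃ t, ap φ Y t = rs F f y
      downward_closed := fun {Y Z} f hf g => by
        obtain ⟨t, ht⟩ := hf
        exact ⟨rs G g t, by rw [ap_rs, ht, rs_rs]⟩ }
  have hT : T ∈ etTop X E := by
    refine EtPoint.mem_etTop_of_lifts hX T fun q hq l => ?_
    have hmem : Points.mk q ∈ Set.range (Points.ofPt E₀.obj.hom) :=
      hE ⟨base q ⟨E, l⟩, ofPt_base q ⟨E, l⟩⟩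
    obtain ⟨l₀, -⟩ := exists_nbhd_over hX hq hmem
    obtain ⟨N, a, b, hN⟩ := exists_aff_under hX hq (⟨E, l⟩ : EtNbhd q) ⟨E₀, l₀⟩
    exact ⟨N.1, a.val, surjective_ap_of_map φ b.val h.2 _, N.2, a.property⟩
  choose t ht using fun i : Σ Y, {f : Y ⟶ E // T f} => i.2.2
  have hS : Sieve.ofArrows _ (fun i : Σ Y, {f : Y ⟶ E // T f} => i.2.1) ∈ etTop X E :=
    (etTop X).superset_covering (fun Y f hf => (Sieve.mem_ofArrows_iff _ _ _).2
      ⟨⟨Y, f, hf⟩, 𝟙 _, (Category.id_comp f).symm⟩) hT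
  have hsub : ∀ {W : EtOver X} (f : W ⟶ E),
      Set.range (Points.ofPt W.obj.hom) ⊆ Set.range (Points.ofPt E₀.obj.hom) := fun {W} f => by
    refine subset_trans ?_ hE
    rintro _ ⟨w, rfl⟩
    refine ⟨f.hom.left.left w, ?_⟩
    rw [← EtOver.w f, AlgSpLib.ofPt_comp]
  obtain ⟨s, hs⟩ := QCart.exists_glue_sheaf (R := OEt X) G hS t fun W i j a b e => by
    apply injective_ap_of_range hX φ h.1 W (hsub (a ≫ i.2.1))
    rw [ap_rs, ap_rs, ht, ht, rs_rs, rs_rs, e]
  refine ⟨s, QCart.ext_of_ofArrows F hS _ _ fun i => ?_⟩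
  show rs F i.2.1 (ap φ E s) = rs F i.2.1 y
  rw [← ap_rs, hs, ht]

end Groth.Agent.AlgSpQC10
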