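import Groth.Agent.QCart.Quasi

/-!
# Cartesian sheaves of modules of finite type have finite sections on affine objects
-/

universe w v₁ u₁

set_option autoImplicit false
set_option linter.style.haveILetI false
set_option linter.unusedSectionVars false
set_option backward.isDefEq.respectTransparency false
set_option backward.isDefEq.respectTransparency.types false

open CategoryTheory CategoryTheory.Limits Opposite TensorProduct Groth.Agent.QCart

namespace Groth.Agent.AlgSpQC10

variable {C : Type u₁} [Category.{v₁} C] {J : GrothendieckTopology C}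

/-- Finiteness of a module of sections descends along a cover. -/
theorem finite_of_cover {O : Cᵒᵖ ⥤ CommRingCat.{w}} {b : AffBasis J O} {P : PresheafOfModules.{w} (RR O)}
    (hP : b.IsCart P) {E : C} (hE : b.aff E) (c : Cover J O b.aff E)
    (h : ∀ i, Module.Finite (O.obj (op (c.Z i))) (P.obj (op (c.Z i)))) :
    Module.Finite (O.obj (op E)) (P.obj (op E)) := by
  classical
  let A := O.obj (op E)
  have hgen : ∀ i, ∃ s : Finset (P.obj (op E)), ∀ z : Rg O (c.m i) ⊗[A] P.obj (op E),
      z ∈ LinearMap.range ((Submodule.span A (s : Set (P.obj (op E)))).subtype.lTensor (Rg O (c.m i))) := by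
    intro i
    haveI : Module.Finite (Rg O (c.m i)) (Sec P (c.m i)) := h i
    let e := LinearEquiv.ofBijective (bcMap (c.m i) P) (hP hE (c.aff_Z i) (c.m i))
    haveI : Module.Finite (Rg O (c.m i)) (Rg O (c.m i) ⊗[A] P.obj (op E)) := Module.Finite.equiv e.symm
    obtain ⟨t, ht⟩ := (Module.finite_def.1 ‹Module.Finite (Rg O (c.m i)) (Rg O (c.m i) ⊗[A] P.obj (op E))›)
    choose m hm using fun z : Rg O (c.m i) ⊗[A] P.obj (op E) => TensorProduct.exists_finset z
    let s : Finset (P.obj (op E)) := t.biUnion fun z => (m z).image Prod.snd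
    refine ⟨s, fun z => ?_⟩
    let L := ((Submodule.span A (s : Set (P.obj (op E)))).subtype).baseChange (Rg O (c.m i))
    show z ∈ LinearMap.range L
    refine (show Submodule.span (Rg O (c.m i)) (t : Set _) ≤ LinearMap.range L from Submodule.span_le.2 ?_) (ht ▸ Submodule.mem_top)
    intro y hy
    rw [hm y]
    refine Submodule.sum_mem _ fun p hp => ⟨p.1 ⊗ₜ ⟨p.2, Submodule.subset_span ?_⟩, rfl⟩
    exact Finset.mem_biUnion.2 ⟨y, hy, Finset.mem_image.2 ⟨p, hp, rfl⟩⟩
  choose s hs using hgen
  refine ⟨⟨Finset.univ.biUnion s, ?_⟩⟩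
  rw [eq_top_iff]
  intro x _
  let N := Submodule.span A ((Finset.univ.biUnion s : Finset (P.obj (op E))) : Set (P.obj (op E)))
  show x ∈ N
  rw [← N.range_subtype]
  refine mem_range_of_cover c N.subtype x fun i => ?_
  have hle : Submodule.span A (s i : Set (P.obj (op E))) ≤ N :=
    Submodule.span_mono (by intro y hy; exact Finset.mem_biUnion.2 ⟨i, Finset.mem_univ i, hy⟩)
  obtain ⟨y, hy⟩ := hs i ((1 : Rg O (c.m i)) ⊗ₜ[A] x)
  exact ⟨(Submodule.inclusion hle).lTensor _ y, by
    rw [← LinearMap.comp_apply, ← LinearMap.lTensor_comp, Submodule.subtype_comp_inclusion, hy]⟩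

variable [J.HasSheafCompose (forget₂ CommRingCat.{w} RingCat.{w})]
  [J.HasSheafCompose (CategoryTheory.forget AddCommGrpCat.{w})]
  [HasSheafify J AddCommGrpCat.{w}] [J.WEqualsLocallyBijective AddCommGrpCat.{w}]
  {R : Sheaf J CommRingCat.{w}}

/-- Sections on affine objects of a finitely generated cartesian sheaf are finite. -/
theorem finite_of_generatingSections {b : AffBasis J R.obj} {M : SheafOfModules.{w} (RS R)}
    (hM : b.IsCart (psh M)) (σ : M.GeneratingSections) [σ.IsFiniteType] {E : C} (hE : b.aff E) :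
    Module.Finite (R.obj.obj (op E)) ((psh M).obj (op E)) := by
  classical
  haveI : Fintype σ.I := Fintype.ofFinite _
  let F := SheafOfModules.free (R := RS R) σ.I
  let hF := SheafOfModules.isColimitFreeCofan (R := RS R) σ.I
  let ι : σ.I → (SheafOfModules.unit (RS R) ⟶ F) := SheafOfModules.ιFree
  let π : σ.I → (F ⟶ SheafOfModules.unit (RS R)) := fun i =>
    hF.desc (Cofan.mk _ fun j => if i = j then 𝟙 _ else 0)
  have hπ : ∀ i j, ι j ≫ π i = if i = j then 𝟙 _ else 0 := fun i j => hF.fac _ ⟨j⟩
  have hid : ∑ i, π i ≫ ι i = 𝟙 F := by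
    refine hF.hom_ext fun ⟨j⟩ => ?_
    show ι j ≫ _ = ι j ≫ 𝟙 F
    rw [Preadditive.comp_sum, Category.comp_id, Finset.sum_eq_single j]
    · rw [← Category.assoc, hπ, if_pos rfl, Category.id_comp]
    · intro i _ hij
      rw [← Category.assoc, hπ, if_neg hij, zero_comp]
    · intro h; exact absurd (Finset.mem_univ j) h
  let S := ShortComplex.mk (kernel.ι σ.π) σ.π (kernel.condition σ.π)
  have hS : S.ShortExact :=
    { exact := ShortComplex.exact_kernel σ.π
      mono_f := inferInstanceAs (Mono (kernel.ι σ.π))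
      epi_g := inferInstanceAs (Epi σ.π) }
  have hker : b.IsCart (psh S.X₁) := (b.isCart_free σ.I).kernel σ.π hM
  let one : (psh (SheafOfModules.unit (RS R))).obj (op E) := (1 : R.obj.obj (op E))
  let gen : σ.I → (psh M).obj (op E) := fun i => (phom σ.π).app (op E) ((phom (ι i)).app (op E) one)
  refine ⟨⟨Finset.univ.image gen, ?_⟩⟩
  rw [eq_top_iff]
  intro y _
  obtain ⟨x, rfl⟩ := hker.surjective_app hS hE y
  have hx : x = ∑ i, (phom (ι i)).app (op E) ((phom (π i)).app (op E) x) := by
    let Φ : (F ⟶ F) →+ (psh F).obj (op E) :=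
      AddMonoidHom.mk' (fun f => (phom f).app (op E) x) fun _ _ => rfl
    have h := congrArg Φ hid
    rw [map_sum] at h
    exact h.symm
  show (phom σ.π).app (op E) x ∈ _
  rw [hx, map_sum]
  refine Submodule.sum_mem _ fun i _ => ?_
  let a : R.obj.obj (op E) := (phom (π i)).app (op E) x
  have ha : (phom (π i)).app (op E) x = a • one := (mul_one a).symm
  rw [ha, app_smul', app_smul']
  refine Submodule.smul_mem _ a (Submodule.subset_span ?_)
  exact Finset.mem_coe.2 (Finset.mem_image.2 ⟨i, Finset.mem_univ i, rfl⟩)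

variable [∀ U : C, (J.over U).HasSheafCompose (forget₂ CommRingCat.{w} RingCat.{w})]
  [∀ U : C, (J.over U).HasSheafCompose (CategoryTheory.forget AddCommGrpCat.{w})]
  [∀ U : C, HasSheafify (J.over U) AddCommGrpCat.{w}]
  [∀ U : C, (J.over U).WEqualsLocallyBijective AddCommGrpCat.{w}]

/-- Sections on affine objects of a quasi-coherent sheaf of finite type are finite. -/
theorem finite_sections {b : AffBasis J R.obj} {M : SheafOfModules.{w} (RS R)} (hM : b.IsCart (psh M))
    [M.IsFiniteType] {E : C} (hE : b.aff E) : Module.Finite (R.obj.obj (op E)) ((psh M).obj (op E)) := by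
  obtain ⟨σ, hσ⟩ := SheafOfModules.IsFiniteType.exists_localGeneratorsData M
  obtain ⟨c, hc⟩ := b.cover hE _ (σ.coversTop E)
  refine finite_of_cover hM hE c fun k => ?_
  obtain ⟨i, ⟨u⟩⟩ := (Sieve.mem_ofObjects_iff ..).1 (hc k)
  haveI := hσ.isFiniteType i
  exact finite_of_generatingSections (R := R.over (σ.X i)) (hM.over (σ.X i)) (σ.generators i)
    (E := Over.mk u) (c.aff_Z k)

end Groth.Agent.AlgSpQC10
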