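import Groth.Agent.AlgSpQC10.Weak
import Groth.Agent.AlgSpDec.Fibres
import Mathlib.AlgebraicGeometry.Morphisms.Finite

/-!
# Weakly associated points of direct images along affine morphisms
-/

universe u

set_option autoImplicit false
set_option linter.style.haveILetI false
set_option backward.isDefEq.respectTransparency false
set_option backward.isDefEq.respectTransparency.types false

open CategoryTheory CategoryTheory.Limits AlgebraicGeometry Opposite TensorProduct AlgSp

namespace Groth.Agent.AlgSpQC10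

variable {S : Scheme.{u}} {X Y : Sp S}

theorem exists_affine_chart (hX : IsAlgSpace X) (x : Points X) :
    ∃ (E : EtOver X) (_ : IsAffine E.obj.left.left) (w : E.obj.left.left), Points.ofPt E.obj.hom w = x := by
  obtain ⟨U, a, ha, has⟩ := hX.atlas
  obtain ⟨v, rfl⟩ := AlgSpLib.surjective_ofPt has x
  obtain ⟨O, hO, hvO, -⟩ := exists_isAffineOpen_mem_and_subset (U := (⊤ : U.left.Opens)) (x := v) trivial
  let P : EtOver X := EtOver.mk a ha
  exact ⟨AlgSpDec.etOpen P O, (hO : IsAffine O.toScheme), (⟨v, hvO⟩ : O.toScheme), AlgSpLib.ofPt_comp _ _ _⟩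

variable {f : X ⟶ Y} (hf : Representable f)

theorem exists_iso_bcObj {E : EtOver Y} {W : Over S} {i : W ⟶ E.obj.left} {fst : (yon S).obj W ⟶ X}
    (sq : IsPullback fst ((yon S).map i) f E.obj.hom) :
    ∃ e : W ≅ (EtOver.bcObj hf E).obj.left, e.hom ≫ EtOver.bcπ hf E = i :=
  ⟨(yon S).preimageIso (sq.isoIsPullback _ _ (EtOver.isPullback_bcObj hf E)), (yon S).map_injective (by
    rw [Functor.map_comp, Functor.preimageIso_hom, Functor.map_preimage, IsPullback.isoIsPullback_hom_snd])⟩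

theorem isAffine_bcObj (haff : IsAffineMor f) (E : EtOver Y) [hE : IsAffine E.obj.left.left] :
    IsAffine (EtOver.bcObj hf E).obj.left.left := by
  obtain ⟨W, i, fst, sq, hW⟩ := haff hE E.obj.hom
  obtain ⟨e, -⟩ := exists_iso_bcObj hf sq
  haveI : IsAffine ((CategoryTheory.Over.forget S).obj W) := hW
  exact IsAffine.of_isIso ((CategoryTheory.Over.forget S).mapIso e).inv

theorem isFinite_bcπ (hfin : IsFiniteMor f) (E : EtOver Y) [hE : IsAffine E.obj.left.left] :
    IsAffine (EtOver.bcObj hf E).obj.left.left ∧ IsFinite (EtOver.bcπ hf E).left := by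
  obtain ⟨W, i, fst, sq, hW, hi⟩ := hfin hE E.obj.hom
  obtain ⟨e, he⟩ := exists_iso_bcObj hf sq
  haveI : IsAffine ((CategoryTheory.Over.forget S).obj W) := hW
  refine ⟨IsAffine.of_isIso ((CategoryTheory.Over.forget S).mapIso e).inv, ?_⟩
  rw [← MorphismProperty.cancel_left_of_respectsIso @IsFinite e.hom.left, ← Over.comp_left, he]
  exact hi

/-- The map of functions along the projection of a base change. -/
noncomputable def φ (E : EtOver Y) : A E ⟶ A (EtOver.bcObj hf E) :=
  (BigSite.O Scheme.etalePrecoverage S).obj.map (hf.snd E.obj.hom).op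

theorem comap_φ_pt (E : EtOver Y) (z : (EtOver.bcObj hf E).obj.left.left) :
    (pt (EtOver.bcObj hf E) z).comap (φ hf E).hom = pt E ((EtOver.bcπ hf E).left z) := by
  ext a
  show (EtOver.bcπ hf E).left.appTop a.down ∈ primeAtPt _ z ↔ a.down ∈ primeAtPt _ _
  rw [← Ideal.mem_comap, comap_primeAtPt]
  exact Iff.rfl

theorem annEl_push (M : ModEt X) (E : EtOver Y) (s : Msec ((pushModEt hf).obj M) E) :
    WeakAss.annEl (A E) s =
      (WeakAss.annEl (A (EtOver.bcObj hf E)) (show Msec M (EtOver.bcObj hf E) from s)).comap (φ hf E).hom := by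
  ext a
  refine WeakAss.mem_annEl.trans (Iff.trans ?_ WeakAss.mem_annEl.symm)
  exact Iff.rfl

theorem map_ofPt_bcObj (E : EtOver Y) (z : (EtOver.bcObj hf E).obj.left.left) :
    Points.map f (Points.ofPt (EtOver.bcObj hf E).obj.hom z) = Points.ofPt E.obj.hom ((EtOver.bcπ hf E).left z) := by
  rw [Points.map_ofPt, (EtOver.isPullback_bcObj hf E).w, AlgSpLib.ofPt_comp]

/-- Weakly associated points of a direct image along an affine morphism come from the source. -/
theorem weakAssEt_push_subset (haff : IsAffineMor f) (M : ModEt X) :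
    WeakAssEt ((pushModEt hf).obj M) ⊆ Points.map f '' WeakAssEt M := by
  rintro _ ⟨E, hE, w, rfl, hw⟩
  haveI := isAffine_bcObj hf haff E
  obtain ⟨s, hs⟩ := (isWeakAssOn_iff _ E w).1 hw
  let sW : Msec M (EtOver.bcObj hf E) := s
  have hs' : pt E w ∈ ((WeakAss.annEl (A (EtOver.bcObj hf E)) sW).comap (φ hf E).hom).minimalPrimes := by
    have h0 : pt E w ∈ (WeakAss.annEl (A E) s).minimalPrimes := hs
    rwa [annEl_push] at h0
  obtain ⟨q, hq, hqe⟩ := Ideal.exists_minimalPrimes_comap_eq _ _ hs'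
  haveI := hq.1.1
  obtain ⟨z, rfl⟩ := exists_pt_eq (EtOver.bcObj hf E) q
  refine ⟨_, ⟨EtOver.bcObj hf E, inferInstance, z, rfl, (isWeakAssOn_iff _ _ z).2 ⟨sW, hq⟩⟩, ?_⟩
  rw [map_ofPt_bcObj]
  rw [comap_φ_pt] at hqe
  refine congrArg (Points.ofPt E.obj.hom) ?_
  have h := congrArg (fun I : Ideal (A E) => I.comap ULift.ringEquiv.{u, u + 1}.symm.toRingHom) hqe
  simp only [pt] at h
  have e : ∀ I : Ideal Γ(E.obj.left.left, ⊤),
      (I.comap ULift.ringEquiv.{u, u + 1}.toRingHom).comap ULift.ringEquiv.{u, u + 1}.symm.toRingHom = I := fun I => by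
    ext a; exact Iff.rfl
  rw [e, e, AlgSpLib.Cartier.primeAtPt_eq, AlgSpLib.Cartier.primeAtPt_eq] at h
  have h' := (isAffineOpen_top E.obj.left.left).fromSpec_primeIdealOf ⟨(EtOver.bcπ hf E).left z, trivial⟩
  have h'' := (isAffineOpen_top E.obj.left.left).fromSpec_primeIdealOf ⟨w, trivial⟩
  rw [PrimeSpectrum.ext h] at h'
  exact h'.symm.trans h''

theorem map_mem_weakAssEt_push (hY : IsAlgSpace Y) (M : ModEt X) [M.IsQuasicoherent] {x : Points X}
    (hx : x ∈ WeakAssEt M)
    (h : ∀ (E : EtOver Y) [IsAffine E.obj.left.left] (z : (EtOver.bcObj hf E).obj.left.left),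
      (∃ _ : IsAffine (EtOver.bcObj hf E).obj.left.left,
        pt (EtOver.bcObj hf E) z ∈ FlatCA.weakAss (A (EtOver.bcObj hf E)) (Msec M (EtOver.bcObj hf E))) →
      pt E ((EtOver.bcπ hf E).left z) ∈ FlatCA.weakAss (A E) (Msec ((pushModEt hf).obj M) E))
    (haff : IsAffineMor f) : Points.map f x ∈ WeakAssEt ((pushModEt hf).obj M) := by
  obtain ⟨E, hE, w, hw⟩ := exists_affine_chart hY (Points.map f x)
  haveI := isAffine_bcObj hf haff E
  obtain ⟨z₀, hz₁, hz₂⟩ := AlgSpLib.exists_point_of_isPullback (EtOver.isPullback_bcObj hf E)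
    (x := x) (y := Points.ofScheme E.obj.left w) (by rw [← hw, Points.ofPt_eq_map_ofScheme])
  obtain ⟨z, rfl⟩ : ∃ z, Points.ofScheme (EtOver.bcObj hf E).obj.left z = z₀ :=
    ⟨Points.toScheme _ z₀, Points.ofScheme_toScheme _ z₀⟩
  rw [← Points.ofPt_eq_map_ofScheme] at hz₁
  subst hz₁
  refine ⟨E, hE, (EtOver.bcπ hf E).left z, (map_ofPt_bcObj hf E z).symm, (isWeakAssOn_iff _ E _).2 ?_⟩
  exact h E z ⟨inferInstance, (isWeakAssOn_iff _ _ z).1 ((mem_weakAssEt_iff M z).1 hx)⟩

theorem weakAssEt_push_of_finite (hY : IsAlgSpace Y) (hfin : IsFiniteMor f) (haff : IsAffineMor f)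
    (M : ModEt X) [M.IsQuasicoherent] :
    WeakAssEt ((pushModEt hf).obj M) = Points.map f '' WeakAssEt M := by
  refine (weakAssEt_push_subset hf haff M).antisymm ?_
  rintro _ ⟨x, hx, rfl⟩
  refine map_mem_weakAssEt_push hf hY M hx (fun E hE z hz => ?_) haff
  obtain ⟨hW, hz⟩ := hz
  obtain ⟨-, hπ⟩ := isFinite_bcπ hf hfin E
  let B := A (EtOver.bcObj hf E)
  letI : Algebra (A E) B := (φ hf E).hom.toAlgebra
  haveI : Module.Finite (A E) B := by
    have h0 : (EtOver.bcπ hf E).left.appTop.hom.Finite :=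
      ((HasAffineProperty.iff_of_isAffine (P := @IsFinite)).1 hπ).2
    exact ((RingHom.Finite.of_surjective
      (ULift.ringEquiv.{u, u + 1} (R := Γ((EtOver.bcObj hf E).obj.left.left, ⊤))).symm.toRingHom
      (ULift.ringEquiv.{u, u + 1} (R := Γ((EtOver.bcObj hf E).obj.left.left, ⊤))).symm.surjective).comp h0).comp
      (RingHom.Finite.of_surjective (ULift.ringEquiv.{u, u + 1} (R := Γ(E.obj.left.left, ⊤))).toRingHom
        (ULift.ringEquiv.{u, u + 1} (R := Γ(E.obj.left.left, ⊤))).surjective)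
  haveI : (pt (EtOver.bcObj hf E) z).LiesOver (pt E ((EtOver.bcπ hf E).left z)) := ⟨(comap_φ_pt hf E z).symm⟩
  obtain ⟨x', hx'⟩ := Triage.WeakAssFin.exists_minimal_under (A := A E) (B := B)
    (p := pt E ((EtOver.bcπ hf E).left z)) hz
  refine WeakAss.mem_weakAss_iff.2 ⟨x', ?_⟩
  rw [annEl_push]
  exact hx'

theorem weakAssEt_push_of_noetherian (hY : IsAlgSpace Y) (haff : IsAffineMor f) (hX : IsLocNoethSp X)
    (M : ModEt X) [M.IsQuasicoherent] :
    WeakAssEt ((pushModEt hf).obj M) = Points.map f '' WeakAssEt M := by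
  refine (weakAssEt_push_subset hf haff M).antisymm ?_
  rintro _ ⟨x, hx, rfl⟩
  refine map_mem_weakAssEt_push hf hY M hx (fun E hE z hz => ?_) haff
  obtain ⟨hW, hz⟩ := hz
  haveI : IsLocallyNoetherian (EtOver.bcObj hf E).obj.left.left :=
    AlgSpDec.isLocallyNoetherian_chart (EtOver.bcObj hf E).property hX
  haveI : IsNoetherianRing Γ((EtOver.bcObj hf E).obj.left.left, ⊤) :=
    IsLocallyNoetherian.component_noetherian ⟨⊤, isAffineOpen_top _⟩
  haveI : IsNoetherianRing (A (EtOver.bcObj hf E)) := isNoetherianRing_of_ringEquiv Γ((EtOver.bcObj hf E).obj.left.left, ⊤)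
    (ULift.ringEquiv.{u, u + 1} (R := Γ((EtOver.bcObj hf E).obj.left.left, ⊤))).symm
  obtain ⟨-, m, hm⟩ := WeakAss.mem_ass_iff.1
    (WeakAss.mem_ass_of_mem_weakAss_of_fg (IsNoetherian.noetherian _) hz)
  refine WeakAss.mem_weakAss_iff.2 ⟨m, ?_⟩
  rw [annEl_push, ← hm, comap_φ_pt, Ideal.minimalPrimes_eq_subsingleton_self, Set.mem_singleton_iff]

end Groth.Agent.AlgSpQC10
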