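import Groth.Agent.AlgSpQC10.Weak
import Groth.Agent.AlgSpQC10.Push
import Groth.Agent.AlgSpQC10.FT
import Groth.Agent.AlgSpDec.Fibres
import Groth.Agent.AssPtX.Noeth

/-!
# Finiteness of associated points of coherent modules
-/

universe u

set_option autoImplicit false
set_option linter.style.haveILetI false
set_option backward.isDefEq.respectTransparency false
set_option backward.isDefEq.respectTransparency.types false

open CategoryTheory CategoryTheory.Limits AlgebraicGeometry Opposite AlgSp

namespace Groth.Agent.AlgSpQC10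

variable {S : Scheme.{u}} {X : Sp S}

theorem pt_injective (E : EtOver X) [IsAffine E.obj.left.left] : Function.Injective (pt E) := by
  intro v w h
  have h' : primeAtPt E.obj.left.left v = primeAtPt E.obj.left.left w :=
    Ideal.comap_injective_of_surjective _ ULift.ringEquiv.{u, u + 1}.surjective h
  rw [AlgSpLib.Cartier.primeAtPt_eq, AlgSpLib.Cartier.primeAtPt_eq] at h'
  have h1 := (isAffineOpen_top E.obj.left.left).fromSpec_primeIdealOf ⟨v, trivial⟩
  have h2 := (isAffineOpen_top E.obj.left.left).fromSpec_primeIdealOf ⟨w, trivial⟩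
  rw [PrimeSpectrum.ext h'] at h1
  exact h1.symm.trans h2

theorem isNoetherianRing_A (hX : IsLocNoethSp X) (E : EtOver X) [IsAffine E.obj.left.left] :
    IsNoetherianRing (A E) := by
  haveI : IsLocallyNoetherian E.obj.left.left := AlgSpDec.isLocallyNoetherian_chart E.property hX
  haveI : IsNoetherianRing Γ(E.obj.left.left, ⊤) := IsLocallyNoetherian.component_noetherian ⟨⊤, isAffineOpen_top _⟩
  exact isNoetherianRing_of_ringEquiv Γ(E.obj.left.left, ⊤)
    (ULift.ringEquiv.{u, u + 1} (R := Γ(E.obj.left.left, ⊤))).symm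

theorem finite_Msec (M : ModEt X) [M.IsQuasicoherent] [M.IsFiniteType] (E : EtOver X)
    [hE : IsAffine E.obj.left.left] : Module.Finite (A E) (Msec M E) :=
  finite_sections (R := OEt X) (b := QCart.etBasis X) (isCart M) hE

theorem finite_weakAssEt_inter (hXs : IsAlgSpace X) (hX : IsLocNoethSp X) (M : ModEt X) [M.IsQuasicoherent]
    [M.IsFiniteType] (W : Set (Points X)) (hWo : IsOpen W) (hWc : IsCompact W) :
    (WeakAssEt M ∩ W).Finite := by
  choose E hE w hw using fun x : Points X => exists_affine_chart hXs x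
  obtain ⟨t, ht⟩ := hWc.elim_finite_subcover (fun x => Set.range (Points.ofPt (E x).obj.hom))
    (fun x => (AlgSpLib.isOpenMap_ofPt (E x).property).isOpen_range) fun x _ => Set.mem_iUnion.2 ⟨x, w x, hw x⟩
  refine Set.Finite.subset (s := ⋃ x ∈ t, WeakAssEt M ∩ Set.range (Points.ofPt (E x).obj.hom))
    (t.finite_toSet.biUnion fun x _ => ?_) fun y hy => ?_
  · haveI := hE x
    haveI := isNoetherianRing_A hX (E x)
    haveI := finite_Msec M (E x)
    refine Set.Finite.subset (s := Points.ofPt (E x).obj.hom '' (pt (E x) ⁻¹' associatedPrimes (A (E x)) (Msec M (E x))))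
      (((associatedPrimes.finite (A (E x)) (Msec M (E x))).preimage (pt_injective (E x)).injOn).image _) ?_
    rintro _ ⟨h, v, rfl⟩
    exact ⟨v, AssPtX.weakAss_subset_associatedPrimes
      ((isWeakAssOn_iff _ _ v).1 ((mem_weakAssEt_iff M v).1 h)), rfl⟩
  · obtain ⟨x, hx, hxy⟩ := Set.mem_iUnion₂.1 (ht hy.2)
    exact Set.mem_iUnion₂.2 ⟨x, hx, hy.1, hxy⟩

end Groth.Agent.AlgSpQC10
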