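import Groth.Agent.AlgSpQC10.DerDetect
import Groth.Agent.H9Misc.TFactor
import Groth.Agent.SiteBase.DLim.Rlim
import Groth.Prelude.Def_CohCx
import Mathlib.Algebra.Homology.DerivedCategory.Ext.Basic

/-!
# Maps from shifted objects and cohomology objects
-/

universe w w' v u

set_option autoImplicit false
set_option linter.style.haveILetI false
set_option backward.isDefEq.respectTransparency false
set_option backward.isDefEq.respectTransparency.types false

open CategoryTheory CategoryTheory.Limits Pretriangulated Abelian DerivedCategory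

namespace Groth.Agent.AlgSpQC10

variable {A : Type u} [Category.{v} A] [Abelian A] [HasDerivedCategory.{w} A]

local notation "H" => DerivedCategory.homologyFunctor A
local notation "S" => DerivedCategory.singleFunctor A
local notation "tS" => (DerivedCategory.TStructure.t (C := A))

/-- The map on cohomology of a map from a shifted object. -/
noncomputable def h0m {P : A} {m : ℤ} {K : DerivedCategory A} (x : (S m).obj P ⟶ K) : P ⟶ (H m).obj K :=
  (singleFunctorCompHomologyFunctorIso A m).inv.app P ≫ (H m).map x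

theorem h0m_comp {P : A} {m : ℤ} {K K' : DerivedCategory A} (x : (S m).obj P ⟶ K) (g : K ⟶ K') :
    h0m (x ≫ g) = h0m x ≫ (H m).map g := by
  rw [h0m, h0m, Functor.map_comp, Category.assoc]

theorem h0m_map_comp {P Q : A} {m : ℤ} {K : DerivedCategory A} (ψ : P ⟶ Q) (x : (S m).obj Q ⟶ K) :
    h0m ((S m).map ψ ≫ x) = ψ ≫ h0m x := by
  dsimp only [h0m]
  rw [Functor.map_comp, ← Category.assoc, ← Category.assoc]
  exact congrArg (· ≫ (H m).map x) ((singleFunctorCompHomologyFunctorIso A m).inv.naturality ψ).symm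

theorem h0m_sub {P : A} {m : ℤ} {K : DerivedCategory A} (x y : (S m).obj P ⟶ K) :
    h0m (x - y) = h0m x - h0m y := by
  rw [h0m, h0m, h0m, Functor.map_sub, Preadditive.comp_sub]

theorem h0m_zero {P : A} {m : ℤ} {K : DerivedCategory A} : h0m (0 : (S m).obj P ⟶ K) = 0 := by
  rw [h0m, Functor.map_zero, comp_zero]

/-- In the lowest degree maps are maps on cohomology. -/
theorem bijective_h0m_of_isGE (P : A) (m : ℤ) (K : DerivedCategory A) [K.IsGE m] :
    Function.Bijective (h0m : ((S m).obj P ⟶ K) → (P ⟶ (H m).obj K)) := by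
  refine ⟨fun x y hxy => sub_eq_zero.1 (H9Misc.zero_of_homologyMap m _ ?_), fun g => ?_⟩
  · rw [← cancel_epi ((singleFunctorCompHomologyFunctorIso A m).inv.app P), comp_zero]
    show h0m (x - y) = 0
    rw [h0m_sub, sub_eq_zero]
    exact hxy
  · let N := ((tS).truncLT (m + 1)).obj K
    let ι : N ⟶ K := ((tS).truncLTι (m + 1)).app K
    haveI : N.IsLE m := (tS).isLE_truncLT_obj ..
    haveI : IsIso ((H m).map ι) := H9Misc.isIso_map_truncLTι (m + 1) m (by omega) K
    haveI : N.IsGE m := (isGE_iff _ _).2 fun i hi =>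
      have := H9Misc.isIso_map_truncLTι (m + 1) i (by omega) K
      (isZero_of_isGE K m i hi).of_iso (asIso ((H i).map ι))
    obtain ⟨Y, ⟨e⟩⟩ := exists_iso_singleFunctor_obj_of_isGE_of_isLE N m
    let i₀ : Y ≅ (H m).obj K :=
      ((singleFunctorCompHomologyFunctorIso A m).app Y).symm ≪≫ (H m).mapIso e.symm ≪≫ asIso ((H m).map ι)
    refine ⟨(S m).map (g ≫ i₀.inv) ≫ e.inv ≫ ι, ?_⟩
    have e0 : h0m (e.inv ≫ ι) = i₀.hom := by
      rw [h0m, Functor.map_comp]
      rfl
    rw [h0m_map_comp, e0, Category.assoc, Iso.inv_hom_id, Category.comp_id]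

/-- Every cohomology object is covered by maps from shifted objects. -/
theorem exists_epi_h0m (K : DerivedCategory A) (m : ℤ) :
    ∃ (Z : A) (u : (S m).obj Z ⟶ K), Epi (h0m u) := by
  obtain ⟨L, ⟨e⟩⟩ : ∃ L, Nonempty (DerivedCategory.Q.obj L ≅ K) :=
    ⟨_, ⟨DerivedCategory.Q.objObjPreimageIso K⟩⟩
  let f : (HomologicalComplex.single A (ComplexShape.up ℤ) m).obj (L.cycles m) ⟶ L :=
    HomologicalComplex.mkHomFromSingle (L.iCycles m) fun i _ => L.iCycles_d m i
  let e' := (SingleFunctors.evaluation A (DerivedCategory A) m).mapIso (DerivedCategory.singleFunctorsPostcompQIso A)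
  haveI : Epi (HomologicalComplex.homologyMap f m) := by
    have hc : HomologicalComplex.cyclesMap f m =
        (HomologicalComplex.singleObjCyclesSelfIso (ComplexShape.up ℤ) m (L.cycles m)).hom := by
      rw [← cancel_mono (L.iCycles m), HomologicalComplex.cyclesMap_i,
        HomologicalComplex.mkHomFromSingle_f, ← Category.assoc, HomologicalComplex.singleObjCyclesSelfIso_hom]
    have : Epi (HomologicalComplex.cyclesMap f m ≫ L.homologyπ m) := by
      rw [hc]
      exact epi_comp _ _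
    rw [← HomologicalComplex.homologyπ_naturality] at this
    exact epi_of_epi (HomologicalComplex.homologyπ _ m) _
  haveI : Epi ((H m).map (DerivedCategory.Q.map f)) :=
    ((MorphismProperty.epimorphisms A).arrow_mk_iso_iff
      (Arrow.isoMk ((DerivedCategory.homologyFunctorFactors A m).app _)
        ((DerivedCategory.homologyFunctorFactors A m).app _)
        ((DerivedCategory.homologyFunctorFactors A m).hom.naturality f).symm)).2
      (inferInstanceAs (Epi (HomologicalComplex.homologyMap f m)))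
  refine ⟨L.cycles m, e'.hom.app _ ≫ DerivedCategory.Q.map f ≫ e.hom, ?_⟩
  rw [h0m, Functor.map_comp, Functor.map_comp]
  infer_instance

variable [HasExt.{w'} A]

/-- No higher extensions out of `P`. -/
def NoExt (P M : A) : Prop := ∀ j : ℕ, Subsingleton (Ext.{w'} P M (j + 1))

theorem noExt_of_isZero (P : A) {M : A} (hM : IsZero M) : NoExt.{w'} P M := fun j =>
  subsingleton_of_forall_eq 0 fun x => by
    rw [← x.comp_mk₀_id, hM.eq_of_src (𝟙 M) 0, Ext.mk₀_zero, Ext.comp_zero]

theorem noExt_of_iso (P : A) {M M' : A} (e : M ≅ M') (h : NoExt.{w'} P M) : NoExt.{w'} P M' := fun j =>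
  haveI := h j
  subsingleton_of_forall_eq 0 fun x => by
    rw [← x.comp_mk₀_id, ← e.inv_hom_id, ← Ext.mk₀_comp_mk₀, ← Ext.comp_assoc_of_third_deg_zero,
      Subsingleton.elim (x.comp (Ext.mk₀ e.inv) (add_zero _)) 0, Ext.zero_comp]

omit [HasExt.{w'} A] in
theorem subsingleton_hom_of_iso {X X' Y Y' : DerivedCategory A} (e : X ≅ X') (e' : Y ≅ Y')
    (h : Subsingleton (X' ⟶ Y')) : Subsingleton (X ⟶ Y) :=
  (e.homCongr e').subsingleton

theorem subsingleton_hom_single (P M : A) (k : ℕ) (h : Subsingleton (Ext.{w'} P M k)) (m a : ℤ)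
    (hma : m = a + k) : Subsingleton ((S m).obj P ⟶ (S a).obj M) := by
  let e₁ : ((S m).obj P)⟦m⟧ ≅ (S 0).obj P := ((singleFunctors A).shiftIso m 0 m (by omega)).app P
  let e₂ : ((S a).obj M)⟦m⟧ ≅ ((S 0).obj M)⟦(k : ℤ)⟧ :=
    (shiftFunctorAdd' (DerivedCategory A) a (k : ℤ) m (by omega)).app _ ≪≫
      (shiftFunctor _ (k : ℤ)).mapIso (((singleFunctors A).shiftIso a 0 a (by omega)).app M)
  exact (((Functor.FullyFaithful.ofFullyFaithful (shiftFunctor (DerivedCategory A) m)).homEquiv.trans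
    (e₁.homCongr e₂)).trans Ext.homEquiv.symm).subsingleton

/-- For an object bounded below without higher extensions into its cohomology, maps are maps on cohomology. -/
theorem bijective_h0m_of_noExt (P : A) (a : ℤ) (K : DerivedCategory A) [K.IsGE a]
    (h : ∀ q, NoExt.{w'} P ((H q).obj K)) (m : ℤ) :
    Function.Bijective (h0m : ((S m).obj P ⟶ K) → (P ⟶ (H m).obj K)) := by
  suffices key : ∀ (d : ℕ) (a : ℤ) (K : DerivedCategory A), K.IsGE a → m ≤ a + d →
      (∀ q, NoExt.{w'} P ((H q).obj K)) →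
      Function.Bijective (h0m : ((S m).obj P ⟶ K) → (P ⟶ (H m).obj K)) from
    key (m - a).toNat a K inferInstance (by omega) h
  intro d
  induction d with
  | zero =>
    intro a K _ hm _
    haveI : K.IsGE m := (tS).isGE_of_ge K m a (by omega)
    exact bijective_h0m_of_isGE P m K
  | succ d ih =>
    intro a K hK hm h
    by_cases hle : m ≤ a
    · haveI : K.IsGE m := (tS).isGE_of_ge K m a hle
      exact bijective_h0m_of_isGE P m K
    let N := ((tS).truncLT (a + 1)).obj K
    haveI : N.IsLE a := (tS).isLE_truncLT_obj ..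
    haveI : N.IsGE a := (isGE_iff _ _).2 fun i hi =>
      have := H9Misc.isIso_map_truncLTι (a + 1) i (by omega) K
      (isZero_of_isGE K a i hi).of_iso (asIso ((H i).map (((tS).truncLTι (a + 1)).app K)))
    obtain ⟨Y, ⟨e⟩⟩ := exists_iso_singleFunctor_obj_of_isGE_of_isLE N a
    have := H9Misc.isIso_map_truncLTι (a + 1) a (by omega) K
    let eY : Y ≅ (H a).obj K := ((singleFunctorCompHomologyFunctorIso A a).app Y).symm ≪≫
      (H a).mapIso e.symm ≪≫ asIso ((H a).map (((tS).truncLTι (a + 1)).app K))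
    obtain ⟨k, hk⟩ : ∃ k : ℕ, m = a + (k + 1 : ℕ) := ⟨(m - a - 1).toNat, by omega⟩
    have s0 : Subsingleton ((S m).obj P ⟶ N) :=
      subsingleton_hom_of_iso (Iso.refl _) (e ≪≫ (S a).mapIso eY)
        (subsingleton_hom_single P _ (k + 1) (h a k) m a hk)
    have s1 : Subsingleton ((S m).obj P ⟶ N⟦(1 : ℤ)⟧) :=
      subsingleton_hom_of_iso (Iso.refl _) ((shiftFunctor _ (1 : ℤ)).mapIso (e ≪≫ (S a).mapIso eY) ≪≫
        ((singleFunctors A).shiftIso (1 : ℤ) (a - 1) a (by omega)).app _)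
        (subsingleton_hom_single P _ (k + 1 + 1) (h a (k + 1)) m (a - 1) (by omega))
    have hT := (tS).triangleLTGE_distinguished (a + 1) K
    let π := ((tS).truncGEπ (a + 1)).app K
    have hb : Function.Bijective fun x : (S m).obj P ⟶ K => x ≫ π := by
      refine ⟨fun x y hxy => sub_eq_zero.1 ?_, fun x => ?_⟩
      · obtain ⟨z, hz⟩ := Triangle.coyoneda_exact₂ _ hT (x - y)
          ((Preadditive.sub_comp _ _ _).trans (sub_eq_zero.2 hxy))
        rw [hz, @Subsingleton.elim _ s0 z 0]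
        exact zero_comp
      · obtain ⟨z, hz⟩ := Triangle.coyoneda_exact₃ _ hT x (@Subsingleton.elim _ s1 _ _)
        exact ⟨z, hz.symm⟩
    have hiso := H9Misc.isIso_map_truncGEπ (a + 1) m (by omega) K
    haveI hge : (((tS).truncGE (a + 1)).obj K).IsGE (a + 1) := (tS).isGE_truncGE_obj ..
    have ihK := ih (a + 1) _ hge (by omega) fun q => by
      by_cases hq : a + 1 ≤ q
      · have := H9Misc.isIso_map_truncGEπ (a + 1) q hq K
        intro j
        haveI : Subsingleton (Ext.{w'} P ((H q).obj ((𝟭 (DerivedCategory A)).obj K)) (j + 1)) := h q j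
        exact subsingleton_of_forall_eq 0 fun x => by
          rw [← x.comp_mk₀_id, ← IsIso.inv_hom_id ((H q).map (((tS).truncGEπ (a + 1)).app K)), ← Ext.mk₀_comp_mk₀,
            ← Ext.comp_assoc_of_third_deg_zero,
            Subsingleton.elim (x.comp (Ext.mk₀ (inv _)) (add_zero _)) 0, Ext.zero_comp]
      · exact noExt_of_isZero P (isZero_of_isGE _ (a + 1) q (by omega))
    have hb' : Function.Bijective fun φ : P ⟶ (H m).obj K => φ ≫ (H m).map π :=
      ((asIso ((H m).map π)).homToEquiv).bijective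
    refine (Function.Bijective.of_comp_iff' hb' _).1 ?_
    have : (fun φ : P ⟶ (H m).obj K => φ ≫ (H m).map π) ∘ h0m =
        h0m ∘ fun x : (S m).obj P ⟶ K => x ≫ π := funext fun x => (h0m_comp x π).symm
    rw [this]
    exact ihK.comp hb

section Rlim

omit [HasExt.{w'} A]

variable {K : ℕ → DerivedCategory A} {t : ∀ n, K (n + 1) ⟶ K n} [HasProduct K] {L : DerivedCategory A}
  {a : ∀ n, L ⟶ K n}

theorem rlim_comp (hL : CohCx.IsRlimVia K t L a) (n : ℕ) : a (n + 1) ≫ t n = a n := by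
  obtain ⟨c, hc⟩ := hL
  have h : (Pi.lift a ≫ Pi.lift fun n => Pi.π K n - Pi.π K (n + 1) ≫ t n) ≫ Pi.π K n = 0 ≫ Pi.π K n :=
    congrArg (· ≫ Pi.π K n) (comp_distTriang_mor_zero₁₂ _ hc)
  rw [Category.assoc, Pi.lift_π, Preadditive.comp_sub, Pi.lift_π_assoc, Pi.lift_π, zero_comp, sub_eq_zero] at h
  exact h.symm

/-- A map into a derived limit with vanishing components is zero when the tower has no `lim¹`. -/
theorem rlim_hom_eq_zero (hL : CohCx.IsRlimVia K t L a) (P : A) (m : ℤ)
    (hb : ∀ n, Function.Bijective (h0m : ((S (m - 1)).obj P ⟶ K n) → (P ⟶ (H (m - 1)).obj (K n))))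
    (N : ℕ) (hs : ∀ n, N ≤ n → Function.Surjective fun φ : P ⟶ (H (m - 1)).obj (K (n + 1)) => φ ≫ (H (m - 1)).map (t n))
    (x : (S m).obj P ⟶ L) (hx : ∀ n, x ≫ a n = 0) : x = 0 := by
  obtain ⟨c, hc⟩ := hL
  obtain ⟨y, hy⟩ := Triangle.coyoneda_exact₁ _ hc (x⟦(1 : ℤ)⟧') (by
    show x⟦(1 : ℤ)⟧' ≫ (Pi.lift a)⟦(1 : ℤ)⟧' = 0
    rw [← Functor.map_comp, show x ≫ Pi.lift a = 0 from Pi.hom_ext _ _ fun n => by
      rw [Category.assoc, Pi.lift_π, hx, zero_comp], Functor.map_zero])
  let e : ((S m).obj P)⟦(1 : ℤ)⟧ ≅ (S (m - 1)).obj P :=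
    ((singleFunctors A).shiftIso (1 : ℤ) (m - 1) m (by omega)).app P
  obtain ⟨z, hz⟩ := Groth.Agent.DLim.limOne_of_eventually_surjective N (fun n => (S (m - 1)).obj P ⟶ K n)
    (fun n => Preadditive.rightComp _ (t n)) (fun n hn b => by
      obtain ⟨φ, hφ⟩ := hs n hn (h0m b)
      obtain ⟨b', rfl⟩ := (hb (n + 1)).2 φ
      exact ⟨b', (hb n).1 ((h0m_comp b' (t n)).trans hφ)⟩)
    (fun n => e.inv ≫ y ≫ Pi.π K n)
  have hd : (e.hom ≫ Pi.lift z) ≫ (Pi.lift fun n => Pi.π K n - Pi.π K (n + 1) ≫ t n) = y := by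
    refine Pi.hom_ext _ _ fun n => ?_
    rw [Category.assoc, Category.assoc, Pi.lift_π, Preadditive.comp_sub, Pi.lift_π, Pi.lift_π_assoc]
    exact (congrArg (e.hom ≫ ·) (hz n)).trans (Iso.hom_inv_id_assoc e _)
  apply (shiftFunctor (DerivedCategory A) (1 : ℤ)).map_injective
  rw [hy, Functor.map_zero, ← hd, Category.assoc]
  exact (congrArg ((e.hom ≫ Pi.lift z) ≫ ·) (comp_distTriang_mor_zero₂₃ _ hc)).trans comp_zero

/-- A compatible family of classes is a class of the derived limit. -/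
theorem rlim_exists_h0m (hL : CohCx.IsRlimVia K t L a) (P : A) (m : ℤ)
    (hb : ∀ n, Function.Bijective (h0m : ((S m).obj P ⟶ K n) → (P ⟶ (H m).obj (K n))))
    (φ : ∀ n, P ⟶ (H m).obj (K n)) (hφ : ∀ n, φ (n + 1) ≫ (H m).map (t n) = φ n) :
    ∃ x : (S m).obj P ⟶ L, ∀ n, h0m x ≫ (H m).map (a n) = φ n := by
  choose x hx using fun n => (hb n).2 (φ n)
  obtain ⟨c, hc⟩ := hL
  obtain ⟨y, hy⟩ := Triangle.coyoneda_exact₂ _ hc (Pi.lift x) (Pi.hom_ext _ _ fun n => by
    show (Pi.lift x ≫ Pi.lift fun n => Pi.π K n - Pi.π K (n + 1) ≫ t n) ≫ Pi.π K n = 0 ≫ Pi.π K n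
    rw [Category.assoc, Pi.lift_π, Preadditive.comp_sub, Pi.lift_π_assoc, Pi.lift_π, zero_comp, sub_eq_zero]
    exact (hb n).1 (by rw [h0m_comp, hx, hx, hφ]))
  refine ⟨y, fun n => ?_⟩
  rw [← h0m_comp, ← hx n]
  refine congrArg h0m ?_
  calc y ≫ a n = (y ≫ Pi.lift a) ≫ Pi.π K n := by rw [Category.assoc, Pi.lift_π]
    _ = Pi.lift x ≫ Pi.π K n := (congrArg (· ≫ Pi.π K n) hy).symm
    _ = x n := Pi.lift_π _ _

end Rlim

end Groth.Agent.AlgSpQC10
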