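import Groth.Agent.AlgSpQC10.SeqExact
import Groth.Agent.AlgSpQC10.H0m
import Groth.Agent.DSites.Rlim

/-!
# Cohomology modules of unbounded complexes with acyclic cohomology on affine objects
-/

universe u w

set_option autoImplicit false
set_option linter.style.haveILetI false
set_option linter.unusedSectionVars false
set_option backward.isDefEq.respectTransparency false
set_option backward.isDefEq.respectTransparency.types false

open CategoryTheory CategoryTheory.Limits Opposite Pretriangulated Abelian Groth.Agent.QCart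

namespace Groth.Agent.AlgSpQC10

variable {C : Type (u + 1)} [Category.{u} C] [HasPullbacks C] {J : GrothendieckTopology C}
  [HasSheafify J AddCommGrpCat.{u + 1}] [J.WEqualsLocallyBijective AddCommGrpCat.{u + 1}]
  [J.HasSheafCompose (CategoryTheory.forget AddCommGrpCat.{u + 1})]
  [J.HasSheafCompose (forget₂ CommRingCat.{u + 1} RingCat.{u + 1})]
  {R : Sheaf J CommRingCat.{u + 1}}

/-- Affine refinements detect morphisms of modules. -/
theorem hom_ext_shRep (b : AffBasis J R.obj) {X Y : SheafOfModules.{u + 1} (RS R)} (k k' : X ⟶ Y)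
    (h : ∀ W : C, b.aff W → ∀ φ : shRep R W ⟶ X, φ ≫ k = φ ≫ k') : k = k' := by
  refine SheafOfModules.hom_ext (PresheafOfModules.hom_ext fun V => ModuleCat.hom_ext (LinearMap.ext fun y => ?_))
  refine sres_ext_of_mem Y (b.dense V.unop) _ _ ?_
  rintro W' f ⟨W, i, q, hW, rfl⟩
  rw [← sres_sres, ← sres_sres]
  refine congrArg _ ?_
  refine (app_sres (phom k) q y).symm.trans (Eq.trans ?_ (app_sres (phom k') q y))
  obtain ⟨φ, hφ⟩ := (shRepEquiv W X).surjective (sres (psh X) q y)
  rw [← hφ, ← shRepEquiv_comp, ← shRepEquiv_comp, h W hW φ]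

/-- A morphism bijective on maps from free modules on affine objects is an isomorphism. -/
theorem isIso_of_bijective_shRep (b : AffBasis J R.obj) {X Y : SheafOfModules.{u + 1} (RS R)} (g : X ⟶ Y)
    (h : ∀ W : C, b.aff W → Function.Bijective fun φ : shRep R W ⟶ X => φ ≫ g) : IsIso g := by
  haveI : Mono g := ⟨fun {Z} k k' e => hom_ext_shRep b k k' fun W hW φ => (h W hW).1 (by
    simp only [Category.assoc, e])⟩
  haveI : Epi g := epi_of_lift_shRep (b := b) g fun W hW φ => (h W hW).2 φ
  exact isIso_of_mono_of_epi g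

variable [HasDerivedCategory.{w} (SheafOfModules.{u + 1} (RS R))]


/-- Locally, classes of cohomology modules come from maps in the derived category. -/
theorem exists_h0m_local (K : DerivedCategory (SheafOfModules.{u + 1} (RS R))) (m : ℤ) {W : C} (φ : shRep R W ⟶ (DerivedCategory.homologyFunctor (SheafOfModules.{u + 1} (RS R)) m).obj K) :
    ∃ Sv ∈ J W, ∀ ⦃V : C⦄ (f : V ⟶ W), Sv f →
      ∃ x : (DerivedCategory.singleFunctor (SheafOfModules.{u + 1} (RS R)) m).obj (shRep R V) ⟶ K, h0m x = shRepMap f ≫ φ := by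
  obtain ⟨Z, u, hu⟩ := exists_epi_h0m K m
  haveI : Epi ((SheafOfModules.toSheaf (RS R)).map (h0m u)) := inferInstance
  have hloc : Presheaf.IsLocallySurjective J ((SheafOfModules.toSheaf (RS R)).map (h0m u)).hom :=
    (Sheaf.isLocallySurjective_iff_epi' AddCommGrpCat.{u + 1} ((SheafOfModules.toSheaf (RS R)).map (h0m u))).2
      inferInstance
  refine ⟨_, hloc.imageSieve_mem (U := W) (shRepEquiv W _ φ), fun V f hf => ?_⟩
  obtain ⟨z, hz⟩ := hf
  refine ⟨(DerivedCategory.singleFunctor (SheafOfModules.{u + 1} (RS R)) m).map ((shRepEquiv V Z).symm z) ≫ u, ?_⟩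
  refine (h0m_map_comp _ _).trans ((shRepEquiv V _).injective ?_)
  rw [shRepEquiv_comp, Equiv.apply_symm_apply, shRepEquiv_map_comp]
  exact hz

/-- Classes of a derived limit on an affine refinement are detected by the tower. -/
theorem eq_zero_of_rlim_comp (b : AffBasis J R.obj) {K : ℕ → DerivedCategory (SheafOfModules.{u + 1} (RS R))} {t : ∀ n, K (n + 1) ⟶ K n}
    [HasProduct K] {L : DerivedCategory (SheafOfModules.{u + 1} (RS R))} {a : ∀ n, L ⟶ K n} (hL : CohCx.IsRlimVia K t L a) (m : ℤ)
    (hb : ∀ (W : C), b.aff W → ∀ (n : ℕ) (j : ℤ), Function.Bijective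
      (h0m : ((DerivedCategory.singleFunctor (SheafOfModules.{u + 1} (RS R)) j).obj (shRep R W) ⟶ K n) → (shRep R W ⟶ (DerivedCategory.homologyFunctor (SheafOfModules.{u + 1} (RS R)) j).obj (K n))))
    (hs : ∀ (W : C), b.aff W → ∃ N : ℕ, ∀ n, N ≤ n →
      Function.Surjective fun φ : shRep R W ⟶ (DerivedCategory.homologyFunctor (SheafOfModules.{u + 1} (RS R)) (m - 1)).obj (K (n + 1)) => φ ≫ (DerivedCategory.homologyFunctor (SheafOfModules.{u + 1} (RS R)) (m - 1)).map (t n))
    {W : C} (φ : shRep R W ⟶ (DerivedCategory.homologyFunctor (SheafOfModules.{u + 1} (RS R)) m).obj L) (hφ : ∀ n, φ ≫ (DerivedCategory.homologyFunctor (SheafOfModules.{u + 1} (RS R)) m).map (a n) = 0) : φ = 0 := by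
  obtain ⟨Sv, hSv, hlift⟩ := exists_h0m_local L m φ
  have key : ∀ ⦃V : C⦄ (f : V ⟶ W) (hf : Sv f) ⦃W' : C⦄ (g : W' ⟶ V), b.aff W' → shRepMap g ≫ shRepMap f ≫ φ = 0 :=
    fun V f hf W' g hW' => by
      obtain ⟨x, hx⟩ := hlift f hf
      obtain ⟨N, hN⟩ := hs W' hW'
      let x' := (DerivedCategory.singleFunctor (SheafOfModules.{u + 1} (RS R)) m).map (shRepMap g) ≫ x
      have hx' : h0m x' = shRepMap g ≫ shRepMap f ≫ φ := by rw [h0m_map_comp, hx]
      have hz : x' = 0 := rlim_hom_eq_zero hL (shRep R W') m (fun n => hb W' hW' n (m - 1)) N hN x' fun n =>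
        (hb W' hW' n m).1 (by
          rw [h0m_comp, hx', h0m_zero, Category.assoc, Category.assoc, hφ, comp_zero, comp_zero])
      rw [← hx', hz, h0m_zero]
  have zero : ∀ (V : C), shRepEquiv V ((DerivedCategory.homologyFunctor (SheafOfModules.{u + 1} (RS R)) m).obj L) 0 = 0 := fun V => by
    have h := shRepEquiv_add (W := V) (0 : shRep R V ⟶ (DerivedCategory.homologyFunctor (SheafOfModules.{u + 1} (RS R)) m).obj L) 0
    rw [add_zero] at h
    exact left_eq_add.1 h
  refine (shRepEquiv W _).injective ((sres_ext_of_mem _ hSv _ _ fun V f hf => ?_))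
  rw [← shRepEquiv_map_comp, ← shRepEquiv_map_comp, comp_zero, zero]
  refine sres_ext_of_mem _ (b.dense V) _ _ ?_
  rintro W'' g ⟨W', i, q, hW', rfl⟩
  rw [← sres_sres, ← sres_sres, ← shRepEquiv_map_comp, key f hf q hW', zero, map_zero]
  let M' := psh ((DerivedCategory.homologyFunctor (SheafOfModules.{u + 1} (RS R)) m).obj L)
  exact ((congrArg (sres M' i) (map_zero (sres M' q))).trans (map_zero (sres M' i))).symm

/-- Sections of the cohomology of a derived limit are compatible families of sections. -/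
theorem sections_rlim (b : AffBasis J R.obj) {K : ℕ → DerivedCategory (SheafOfModules.{u + 1} (RS R))}
    {t : ∀ n, K (n + 1) ⟶ K n} [HasProduct K] {L : DerivedCategory (SheafOfModules.{u + 1} (RS R))}
    {a : ∀ n, L ⟶ K n} (hL : CohCx.IsRlimVia K t L a) (q : ℤ)
    (hb : ∀ (W : C), b.aff W → ∀ (n : ℕ) (j : ℤ), Function.Bijective
      (h0m : ((DerivedCategory.singleFunctor (SheafOfModules.{u + 1} (RS R)) j).obj (shRep R W) ⟶ K n) →
        (shRep R W ⟶ (DerivedCategory.homologyFunctor (SheafOfModules.{u + 1} (RS R)) j).obj (K n))))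
    (hs : ∀ (W : C), b.aff W → ∃ N : ℕ, ∀ n, N ≤ n → Function.Surjective
      fun φ : shRep R W ⟶ (DerivedCategory.homologyFunctor (SheafOfModules.{u + 1} (RS R)) (q - 1)).obj (K (n + 1)) =>
        φ ≫ (DerivedCategory.homologyFunctor (SheafOfModules.{u + 1} (RS R)) (q - 1)).map (t n))
    (W : C) :
    (∀ s s' : (psh ((DerivedCategory.homologyFunctor (SheafOfModules.{u + 1} (RS R)) q).obj L)).obj (op W),
      (∀ n, (phom ((DerivedCategory.homologyFunctor (SheafOfModules.{u + 1} (RS R)) q).map (a n))).app (op W) s =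
        (phom ((DerivedCategory.homologyFunctor (SheafOfModules.{u + 1} (RS R)) q).map (a n))).app (op W) s') → s = s') ∧
    ∀ x : ∀ n, (psh ((DerivedCategory.homologyFunctor (SheafOfModules.{u + 1} (RS R)) q).obj (K n))).obj (op W),
      (∀ n, (phom ((DerivedCategory.homologyFunctor (SheafOfModules.{u + 1} (RS R)) q).map (t n))).app (op W) (x (n + 1)) = x n) →
      ∃ s : (psh ((DerivedCategory.homologyFunctor (SheafOfModules.{u + 1} (RS R)) q).obj L)).obj (op W),
        ∀ n, (phom ((DerivedCategory.homologyFunctor (SheafOfModules.{u + 1} (RS R)) q).map (a n))).app (op W) s = x n := by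
  let HF := DerivedCategory.homologyFunctor (SheafOfModules.{u + 1} (RS R)) q
  have hinj : ∀ (V : C) (s s' : (psh (HF.obj L)).obj (op V)),
      (∀ n, (phom (HF.map (a n))).app (op V) s = (phom (HF.map (a n))).app (op V) s') → s = s' := fun V s s' h => by
    apply (shRepEquiv V (HF.obj L)).symm.injective
    refine sub_eq_zero.1 (eq_zero_of_rlim_comp b hL q hb hs _ fun n => ?_)
    rw [Preadditive.sub_comp, sub_eq_zero]
    apply (shRepEquiv V (HF.obj (K n))).injective
    rw [shRepEquiv_comp, shRepEquiv_comp, Equiv.apply_symm_apply, Equiv.apply_symm_apply]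
    exact h n
  refine ⟨fun s s' h => hinj W s s' h, fun x hx => ?_⟩
  let ι := Σ V : C, { _f : V ⟶ W // b.aff V }
  let Z : ι → C := fun i => i.1
  let m : ∀ i : ι, Z i ⟶ W := fun i => i.2.1
  have hcov : Sieve.ofArrows Z m ∈ J W := by
    refine J.superset_covering ?_ (b.dense W)
    refine (Sieve.generate_le_iff _ _).2 fun V f hV => ?_
    exact Sieve.le_generate _ _ _ (Presieve.ofArrows.mk (⟨V, f, hV⟩ : ι))
  have hloc : ∀ i : ι, ∃ s : (psh (HF.obj L)).obj (op (Z i)),
      ∀ n, (phom (HF.map (a n))).app (op (Z i)) s = sres (psh (HF.obj (K n))) (m i) (x n) := fun i => by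
    obtain ⟨y, hy⟩ := rlim_exists_h0m hL (shRep R (Z i)) q (fun n => hb (Z i) i.2.2 n q)
      (fun n => (shRepEquiv (Z i) (HF.obj (K n))).symm (sres (psh (HF.obj (K n))) (m i) (x n)))
      (fun n => (shRepEquiv (Z i) (HF.obj (K n))).injective (by
        rw [shRepEquiv_comp, Equiv.apply_symm_apply, Equiv.apply_symm_apply]
        exact (app_sres (phom (HF.map (t n))) (m i) (x (n + 1))).trans (congrArg _ (hx n))))
    refine ⟨shRepEquiv (Z i) (HF.obj L) (h0m y), fun n => ?_⟩
    exact (shRepEquiv_comp (h0m y) (HF.map (a n))).symm.trans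
      ((congrArg _ (hy n)).trans (Equiv.apply_symm_apply _ _))
  choose sl hsl using hloc
  obtain ⟨s, hs'⟩ := exists_glue_sheaf (HF.obj L) hcov sl fun V i j f f' e => hinj V _ _ fun n => by
    rw [app_sres, app_sres, hsl, hsl, sres_sres, sres_sres, e]
  refine ⟨s, fun n => ext_of_ofArrows (HF.obj (K n)) hcov _ _ fun i => ?_⟩
  rw [← app_sres, hs', hsl]

variable [HasExt.{u + 1} (SheafOfModules.{u + 1} (RS R))]

theorem isIso_H_truncTowerMap (E : DerivedCategory (SheafOfModules.{u + 1} (RS R))) (n : ℕ) (q : ℤ) (hq : -(n : ℤ) ≤ q) :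
    IsIso ((DerivedCategory.homologyFunctor (SheafOfModules.{u + 1} (RS R)) q).map (CohCx.truncTowerMap E n)) := by
  have e := congrArg (DerivedCategory.homologyFunctor (SheafOfModules.{u + 1} (RS R)) q).map (DerivedCategory.TStructure.t.π_natTransTruncGEOfLE_app
    (-((n + 1 : ℕ) : ℤ)) (-(n : ℤ)) (by omega) E)
  rw [Functor.map_comp] at e
  have := H9Misc.isIso_map_truncGEπ (-((n + 1 : ℕ) : ℤ)) q (by omega) E
  have := H9Misc.isIso_map_truncGEπ (-(n : ℤ)) q hq E
  exact IsIso.of_isIso_fac_left e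

theorem toTruncTower_map (E : DerivedCategory (SheafOfModules.{u + 1} (RS R))) (n : ℕ) :
    CohCx.toTruncTower E (n + 1) ≫ CohCx.truncTowerMap E n = CohCx.toTruncTower E n :=
  DerivedCategory.TStructure.t.π_natTransTruncGEOfLE_app _ _ (by omega) E

theorem bijective_h0m_truncTower (E : DerivedCategory (SheafOfModules.{u + 1} (RS R))) {W : C}
    (h : ∀ q, NoExt.{u + 1} (shRep R W) ((DerivedCategory.homologyFunctor (SheafOfModules.{u + 1} (RS R)) q).obj E)) (n : ℕ) (j : ℤ) :
    Function.Bijective (h0m : ((DerivedCategory.singleFunctor (SheafOfModules.{u + 1} (RS R)) j).obj (shRep R W) ⟶ CohCx.truncTower E n) →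
      (shRep R W ⟶ (DerivedCategory.homologyFunctor (SheafOfModules.{u + 1} (RS R)) j).obj (CohCx.truncTower E n))) := by
  haveI hge : (CohCx.truncTower E n).IsGE (-(n : ℤ)) := DerivedCategory.TStructure.t.isGE_truncGE_obj ..
  refine bijective_h0m_of_noExt.{w, u + 1} _ (-(n : ℤ)) _ (fun q => ?_) j
  by_cases hq : -(n : ℤ) ≤ q
  · have := H9Misc.isIso_map_truncGEπ (-(n : ℤ)) q hq E
    exact noExt_of_iso _ (asIso ((DerivedCategory.homologyFunctor (SheafOfModules.{u + 1} (RS R)) q).map (CohCx.toTruncTower E n))) (h q)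
  · exact noExt_of_isZero _ ((CohCx.truncTower E n).isZero_of_isGE (-(n : ℤ)) q (by omega))

/-- An object whose cohomology modules have no higher extensions on affine objects is the derived limit of
its truncations. -/
theorem isRlimVia_truncTower (b : AffBasis J R.obj) (E : DerivedCategory (SheafOfModules.{u + 1} (RS R))) [HasProduct (CohCx.truncTower E)]
    (h : ∀ W : C, b.aff W → ∀ q, NoExt.{u + 1} (shRep R W) ((DerivedCategory.homologyFunctor (SheafOfModules.{u + 1} (RS R)) q).obj E)) :
    CohCx.IsRlimVia (CohCx.truncTower E) (CohCx.truncTowerMap E) E (CohCx.toTruncTower E) := by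
  obtain ⟨L, a, e, hL, hea, hfin⟩ :=
    DSites.exists_rlim_lift _ (CohCx.truncTowerMap E) (CohCx.toTruncTower E) (toTruncTower_map E)
  refine hfin ((DerivedCategory.isIso_iff _ e).2 fun m => ?_)
  obtain ⟨n₀, hn₀⟩ : ∃ n : ℕ, -(n : ℤ) ≤ m := ⟨(-m).toNat, by omega⟩
  have hb := fun W hW => bijective_h0m_truncTower E (h W hW)
  have hcomp : ∀ n, (DerivedCategory.homologyFunctor (SheafOfModules.{u + 1} (RS R)) m).map e ≫ (DerivedCategory.homologyFunctor (SheafOfModules.{u + 1} (RS R)) m).map (a n) = (DerivedCategory.homologyFunctor (SheafOfModules.{u + 1} (RS R)) m).map (CohCx.toTruncTower E n) := fun n => by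
    rw [← Functor.map_comp, hea]
  have ht : ∀ n, (DerivedCategory.homologyFunctor (SheafOfModules.{u + 1} (RS R)) m).map (a (n + 1)) ≫ (DerivedCategory.homologyFunctor (SheafOfModules.{u + 1} (RS R)) m).map (CohCx.truncTowerMap E n) = (DerivedCategory.homologyFunctor (SheafOfModules.{u + 1} (RS R)) m).map (a n) := fun n => by
    rw [← Functor.map_comp, rlim_comp hL]
  haveI := H9Misc.isIso_map_truncGEπ (-(n₀ : ℤ)) m hn₀ E
  have hiso : IsIso ((DerivedCategory.homologyFunctor (SheafOfModules.{u + 1} (RS R)) m).map (a n₀)) := isIso_of_bijective_shRep b _ fun W hW => by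
    refine ⟨fun φ φ' hφ => sub_eq_zero.1 ?_, fun φ => ?_⟩
    · have h0 : (φ - φ') ≫ (DerivedCategory.homologyFunctor (SheafOfModules.{u + 1} (RS R)) m).map (a n₀) = 0 := by
        rw [Preadditive.sub_comp, sub_eq_zero]
        exact hφ
      have hup : ∀ k, (φ - φ') ≫ (DerivedCategory.homologyFunctor (SheafOfModules.{u + 1} (RS R)) m).map (a (n₀ + k)) = 0 := fun k => by
        induction k with
        | zero => exact h0
        | succ k ih =>
          haveI := isIso_H_truncTowerMap E (n₀ + k) m (by omega)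
          refine (cancel_mono ((DerivedCategory.homologyFunctor (SheafOfModules.{u + 1} (RS R)) m).map
            (CohCx.truncTowerMap E (n₀ + k)))).1 ?_
          show ((φ - φ') ≫ (DerivedCategory.homologyFunctor (SheafOfModules.{u + 1} (RS R)) m).map (a (n₀ + k + 1))) ≫
            _ = _
          rw [Category.assoc, ht, ih, zero_comp]
      have hdown : ∀ k n, (φ - φ') ≫ (DerivedCategory.homologyFunctor (SheafOfModules.{u + 1} (RS R)) m).map (a (n + k)) = 0 → (φ - φ') ≫ (DerivedCategory.homologyFunctor (SheafOfModules.{u + 1} (RS R)) m).map (a n) = 0 := fun k => by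
        induction k with
        | zero => exact fun n hn => hn
        | succ k ih =>
          refine fun n hn => ih n ?_
          have hn' : (φ - φ') ≫ (DerivedCategory.homologyFunctor (SheafOfModules.{u + 1} (RS R)) m).map
            (a (n + k + 1)) = 0 := hn
          rw [← ht, ← Category.assoc, hn', zero_comp]
      refine eq_zero_of_rlim_comp b hL m hb (fun W' hW' => ⟨(1 - m).toNat, fun n hn ψ => ?_⟩) _ fun n =>
        hdown n₀ n (by rw [Nat.add_comm]; exact hup n)
      haveI := isIso_H_truncTowerMap E n (m - 1) (by omega)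
      exact ⟨ψ ≫ inv ((DerivedCategory.homologyFunctor (SheafOfModules.{u + 1} (RS R)) (m - 1)).map (CohCx.truncTowerMap E n)), by
        simp only [Category.assoc, IsIso.inv_hom_id, Category.comp_id]⟩
    · let φE := φ ≫ inv ((DerivedCategory.homologyFunctor (SheafOfModules.{u + 1} (RS R)) m).map (CohCx.toTruncTower E n₀))
      obtain ⟨x, hx⟩ := rlim_exists_h0m hL (shRep R W) m (fun n => hb W hW n m)
        (fun n => φE ≫ (DerivedCategory.homologyFunctor (SheafOfModules.{u + 1} (RS R)) m).map (CohCx.toTruncTower E n)) fun n => by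
          rw [Category.assoc, ← Functor.map_comp, toTruncTower_map]
      refine ⟨h0m x, (hx n₀).trans ?_⟩
      simp only [φE, Category.assoc, IsIso.inv_hom_id, Category.comp_id]
  exact IsIso.of_isIso_fac_right (hcomp n₀)

/-- Maps from free modules on affine objects into an object with acyclic cohomology are sections of cohomology. -/
theorem bijective_h0m_shRep (b : AffBasis J R.obj) (E : DerivedCategory (SheafOfModules.{u + 1} (RS R))) [HasProduct (CohCx.truncTower E)]
    (h : ∀ W : C, b.aff W → ∀ q, NoExt.{u + 1} (shRep R W) ((DerivedCategory.homologyFunctor (SheafOfModules.{u + 1} (RS R)) q).obj E)) {W : C} (hW : b.aff W) (m : ℤ) :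
    Function.Bijective (h0m : ((DerivedCategory.singleFunctor (SheafOfModules.{u + 1} (RS R)) m).obj (shRep R W) ⟶ E) →
      (shRep R W ⟶ (DerivedCategory.homologyFunctor (SheafOfModules.{u + 1} (RS R)) m).obj E)) := by
  have hL := isRlimVia_truncTower b E h
  have hb := fun n j => bijective_h0m_truncTower E (h W hW) n j
  refine ⟨fun x y hxy => sub_eq_zero.1 (rlim_hom_eq_zero hL _ m (fun n => hb n (m - 1)) (1 - m).toNat
    (fun n hn ψ => ?_) _ fun n => (hb n m).1 ?_), fun φ => ?_⟩
  · haveI := isIso_H_truncTowerMap E n (m - 1) (by omega)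
    exact ⟨ψ ≫ inv ((DerivedCategory.homologyFunctor (SheafOfModules.{u + 1} (RS R)) (m - 1)).map (CohCx.truncTowerMap E n)), by
      simp only [Category.assoc, IsIso.inv_hom_id, Category.comp_id]⟩
  · rw [h0m_comp, h0m_zero, h0m_sub, hxy, sub_self, zero_comp]
  · obtain ⟨n₀, hn₀⟩ : ∃ n : ℕ, -(n : ℤ) ≤ m := ⟨(-m).toNat, by omega⟩
    obtain ⟨x, hx⟩ := rlim_exists_h0m hL (shRep R W) m (fun n => hb n m)
      (fun n => φ ≫ (DerivedCategory.homologyFunctor (SheafOfModules.{u + 1} (RS R)) m).map (CohCx.toTruncTower E n)) fun n => by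
        rw [Category.assoc, ← Functor.map_comp, toTruncTower_map]
    haveI := H9Misc.isIso_map_truncGEπ (-(n₀ : ℤ)) m hn₀ E
    exact ⟨x, (cancel_mono ((DerivedCategory.homologyFunctor (SheafOfModules.{u + 1} (RS R)) m).map (CohCx.toTruncTower E n₀))).1 (hx n₀)⟩

end Groth.Agent.AlgSpQC10
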