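import Groth.Agent.AlgSpDec.EtPointConservative
import Groth.Prelude.Def_AlgSpOX2
import Mathlib.Algebra.Category.Grp.Zero
import Mathlib.CategoryTheory.Sites.SheafCohomology.Basic

/-!
# Global sections of a direct image along a representable morphism
-/

universe u

set_option autoImplicit false
set_option linter.style.haveILetI false
set_option backward.isDefEq.respectTransparency false
set_option backward.isDefEq.respectTransparency.types false

open CategoryTheory CategoryTheory.Limits AlgebraicGeometry Opposite AlgSp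
open Groth.Agent.AlgSpDec Groth.Agent.AlgSpDec.EtStalkElts

namespace Groth.Agent.AlgSpQC10

noncomputable section

variable {S : Scheme.{u}}

/-- The constant sheaf of integers. -/
abbrev cstZ (X : Sp S) : AbEt X :=
  (constantSheaf (etTop X) AddCommGrpCat.{u + 1}).obj (AddCommGrpCat.of (ULift.{u + 1} ℤ))

/-- The constant presheaf of integers. -/
abbrev preZ (X : Sp S) : (EtOver X)ᵒᵖ ⥤ AddCommGrpCat.{u + 1} :=
  (Functor.const _).obj (AddCommGrpCat.of (ULift.{u + 1} ℤ))

variable {X : Sp S}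

/-- The value at an object of a map out of the constant sheaf. -/
def evZ {G : AbEt X} (φ : cstZ X ⟶ G) (W : EtOver X) : G.obj.obj (op W) :=
  (((sheafificationAdjunction (etTop X) AddCommGrpCat.{u + 1}).homEquiv (preZ X) G φ).app (op W)).hom ⟨1⟩

theorem evZ_res {G : AbEt X} (φ : cstZ X ⟶ G) {W W' : EtOver X} (g : W' ⟶ W) :
    (G.obj.map g.op).hom (evZ φ W) = evZ φ W' :=
  (ConcreteCategory.congr_hom
    (((sheafificationAdjunction (etTop X) AddCommGrpCat.{u + 1}).homEquiv (preZ X) G φ).naturality g.op)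
      (⟨1⟩ : ULift.{u + 1} ℤ)).symm

theorem evZ_ext {G : AbEt X} {φ ψ : cstZ X ⟶ G} (h : ∀ W, evZ φ W = evZ ψ W) : φ = ψ := by
  refine ((sheafificationAdjunction (etTop X) AddCommGrpCat.{u + 1}).homEquiv (preZ X) G).injective ?_
  refine NatTrans.ext (funext fun W => ?_)
  exact (AddCommGrpCat.uliftZMultiplesAddEquiv _).injective (h W.unop)

theorem exists_evZ (G : AbEt X) (s : ∀ W, G.obj.obj (op W))
    (hs : ∀ (W W' : EtOver X) (g : W' ⟶ W), (G.obj.map g.op).hom (s W) = s W') :
    ∃ φ : cstZ X ⟶ G, ∀ W, evZ φ W = s W := by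
  let η : preZ X ⟶ G.obj :=
    { app := fun W => (AddCommGrpCat.uliftZMultiplesAddEquiv _).symm (s W.unop)
      naturality := fun W W' g => by
        apply (AddCommGrpCat.uliftZMultiplesAddEquiv _).injective
        refine ((AddCommGrpCat.uliftZMultiplesAddEquiv _).apply_symm_apply (s W'.unop)).trans ?_
        refine (hs W.unop W'.unop g.unop).symm.trans ?_
        exact congrArg (G.obj.map g).hom
          ((AddCommGrpCat.uliftZMultiplesAddEquiv _).apply_symm_apply (s W.unop)).symm }
  refine ⟨((sheafificationAdjunction (etTop X) AddCommGrpCat.{u + 1}).homEquiv (preZ X) G).symm η, fun W => ?_⟩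
  show (((sheafificationAdjunction _ _).homEquiv (preZ X) G _).app (op W)).hom ⟨1⟩ = _
  rw [Equiv.apply_symm_apply]
  exact (AddCommGrpCat.uliftZMultiplesAddEquiv _).apply_symm_apply (s W)

variable {Y : Sp S} {f : X ⟶ Y} (hf : Representable f)

/-- The comparison map of constant sheaves. -/
def cstPush : cstZ Y ⟶ (pushEt hf AddCommGrpCat.{u + 1}).obj (cstZ X) :=
  ((sheafificationAdjunction (etTop Y) AddCommGrpCat.{u + 1}).homEquiv (preZ Y) _).symm
    (Functor.whiskerLeft (EtOver.bc hf).op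
      ((sheafificationAdjunction (etTop X) AddCommGrpCat.{u + 1}).unit.app (preZ X)) :)

/-- Maps out of the constant sheaf, pushed forward. -/
def pushZ (G : AbEt X) : (cstZ X ⟶ G) →+ (cstZ Y ⟶ (pushEt hf AddCommGrpCat.{u + 1}).obj G) :=
  AddMonoidHom.mk' (fun φ => cstPush hf ≫ (pushEt hf AddCommGrpCat.{u + 1}).map φ) fun φ ψ => by
    rw [Functor.map_add, Preadditive.comp_add]

theorem evZ_pushZ {G : AbEt X} (φ : cstZ X ⟶ G) (E : EtOver Y) :
    evZ (pushZ hf G φ) E = evZ φ ((EtOver.bc hf).obj E) := by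
  show (((sheafificationAdjunction _ _).homEquiv (preZ Y) _ (cstPush hf ≫ _)).app (op E)).hom ⟨1⟩ = _
  rw [Adjunction.homEquiv_naturality_right, cstPush, Equiv.apply_symm_apply]
  rw [evZ, Adjunction.homEquiv_unit]
  rfl

variable (hX : IsAlgSpace X) (hY : IsAlgSpace Y)

theorem exists_atlasObj (hY : IsAlgSpace Y) : ∃ U : EtOver Y, Function.Surjective (Points.ofPt U.obj.hom) := by
  obtain ⟨U, a, ha, has⟩ := hY.atlas
  exact ⟨EtOver.mk a ha, AlgSpLib.surjective_ofPt has⟩

/-- The objects mapping to the base change of an atlas cover every object. -/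
def bcSieve (U : EtOver Y) (W : EtOver X) : Sieve W where
  arrows W' _ := Nonempty (W' ⟶ (EtOver.bc hf).obj U)
  downward_closed := fun ⟨a⟩ g => ⟨g ≫ a⟩

include hX hY in
theorem bcSieve_mem {U : EtOver Y} (hU : Function.Surjective (Points.ofPt U.obj.hom)) (W : EtOver X) :
    bcSieve hf U W ∈ etTop X W := by
  refine EtPoint.mem_etTop_of_lifts hX _ fun q hq l => ?_
  obtain ⟨u, hu⟩ := hU (Points.mk (q.map f))
  obtain ⟨m, -⟩ := EtStalkStrict.exists_nbhd hY (show (q.map f).IsGeometric from hq) U.property hu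
  let m' : (FieldPt.liftsTo q).obj ((EtOver.bc hf).obj U) :=
    ⟨hf.lift q.toHom m.1 ((FieldPt.toHom_map f q).symm.trans m.2.symm), hf.lift_fst _ _ _⟩
  let e₁ : EtNbhd q := ⟨W, l⟩
  let e₂ : EtNbhd q := ⟨(EtOver.bc hf).obj U, m'⟩
  obtain ⟨N, a, b, -⟩ := exists_cone_obj q e₁ e₂
  exact ⟨N.1, a.val, ⟨b.val⟩, N.2, a.property⟩

theorem res_eq_of_two {G : AbEt X} (t : ∀ E : EtOver Y, G.obj.obj (op ((EtOver.bc hf).obj E)))
    (ht : ∀ (E E' : EtOver Y) (g : E' ⟶ E), (G.obj.map ((EtOver.bc hf).map g).op).hom (t E) = t E')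
    {U : EtOver Y} {W : EtOver X} (a b : W ⟶ (EtOver.bc hf).obj U) :
    (G.obj.map a.op).hom (t U) = (G.obj.map b.op).hom (t U) := by
  let P := EtOver.prodObj U U
  let a' : W.obj.left ⟶ U.obj.left := a.hom.left ≫ hf.snd U.obj.hom
  let b' : W.obj.left ⟶ U.obj.left := b.hom.left ≫ hf.snd U.obj.hom
  have hab : ∀ k : W ⟶ (EtOver.bc hf).obj U,
      (yon S).map (k.hom.left ≫ hf.snd U.obj.hom) ≫ U.obj.hom = W.obj.hom ≫ f := fun k => by
    rw [Functor.map_comp, Category.assoc, ← hf.w, ← Category.assoc]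
    exact congrArg (fun m => m ≫ f) (EtOver.w k)
  let l : W.obj.left ⟶ P.obj.left := U.property.1.lift' b' a' ((hab b).trans (hab a).symm)
  have hl : W.obj.hom ≫ f = (yon S).map l ≫ P.obj.hom := by
    show _ = (yon S).map l ≫ (yon S).map (U.property.1.snd U.obj.hom) ≫ U.obj.hom
    rw [← Category.assoc, ← Functor.map_comp, Functor.relativelyRepresentable.lift'_snd]
    exact (hab a).symm
  let c : W ⟶ (EtOver.bc hf).obj P := EtOver.homMk (hf.lift W.obj.hom l hl) (hf.lift_fst _ _ _)
  have hc : ∀ (k : W ⟶ (EtOver.bc hf).obj U) (π : P ⟶ U), l ≫ π.hom.left = k.hom.left ≫ hf.snd U.obj.hom →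
      c ≫ (EtOver.bc hf).map π = k := fun k π hπ => EtOver.hom_ext _ _ (hf.hom_ext
    (by
      show (yon S).map (hf.lift W.obj.hom l hl ≫ (EtOver.bcMap hf π).hom.left) ≫ _ = _
      rw [Functor.map_comp, Category.assoc, EtOver.map_bcMap_fst, hf.lift_fst]
      exact (EtOver.w k).symm)
    (by
      show (hf.lift W.obj.hom l hl ≫ (EtOver.bcMap hf π).hom.left) ≫ _ = _
      rw [Category.assoc, EtOver.bcMap_snd, ← Category.assoc, hf.lift_snd, hπ]))
  rw [← hc a (EtOver.prodFst U U) (Functor.relativelyRepresentable.lift'_snd _ _ _ _),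
    ← hc b (EtOver.prodSnd U U) (Functor.relativelyRepresentable.lift'_fst _ _ _ _), op_comp, op_comp,
    Functor.map_comp, Functor.map_comp]
  exact congrArg (G.obj.map c.op).hom ((ht U P (EtOver.prodFst U U)).trans (ht U P (EtOver.prodSnd U U)).symm)

include hX hY in
/-- Global sections of a direct image. -/
theorem bijective_pushZ (G : AbEt X) : Function.Bijective (pushZ hf G) := by
  obtain ⟨U, hU⟩ := exists_atlasObj hY
  have hsh : Presieve.IsSheaf (etTop X) (G.obj ⋙ CategoryTheory.forget AddCommGrpCat.{u + 1}) :=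
    (isSheaf_iff_isSheaf_of_type _ _).1
      ((sheafCompose (etTop X) (CategoryTheory.forget AddCommGrpCat.{u + 1})).obj G).property
  constructor
  · intro φ ψ h
    refine evZ_ext fun W => ((hsh _ (bcSieve_mem hf hX hY hU W)).isSeparatedFor).ext fun W' g hg => ?_
    obtain ⟨a⟩ := hg
    show (G.obj.map g.op).hom (evZ φ W) = (G.obj.map g.op).hom (evZ ψ W)
    rw [evZ_res, evZ_res, ← evZ_res φ a, ← evZ_res ψ a, ← evZ_pushZ, ← evZ_pushZ, h]
  · intro χ
    let t : ∀ E : EtOver Y, G.obj.obj (op ((EtOver.bc hf).obj E)) := fun E => evZ χ E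
    have ht : ∀ (E E' : EtOver Y) (g : E' ⟶ E),
        (G.obj.map ((EtOver.bc hf).map g).op).hom (t E) = t E' := fun E E' g => evZ_res χ g
    let fam : ∀ W : EtOver X, Presieve.FamilyOfElements
        (G.obj ⋙ CategoryTheory.forget AddCommGrpCat.{u + 1}) (bcSieve hf U W).arrows := fun W W' _ hg =>
      (G.obj.map hg.some.op).hom (t U)
    have hfam : ∀ W, (fam W).Compatible := fun W W₁ W₂ Z g₁ g₂ _ _ h₁ h₂ _ => by
      show (G.obj.map g₁.op).hom ((G.obj.map h₁.some.op).hom (t U)) =
        (G.obj.map g₂.op).hom ((G.obj.map h₂.some.op).hom (t U))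
      rw [← ConcreteCategory.comp_apply, ← ConcreteCategory.comp_apply, ← Functor.map_comp, ← Functor.map_comp,
        ← op_comp, ← op_comp]
      exact res_eq_of_two hf t ht _ _
    choose s hs hu using fun W => hsh _ (bcSieve_mem hf hX hY hU W) (fam W) (hfam W)
    have key : ∀ (W : EtOver X) (a : W ⟶ (EtOver.bc hf).obj U), s W = (G.obj.map a.op).hom (t U) := fun W a =>
      (hu W _ fun W' g hg => by
        show (G.obj.map g.op).hom ((G.obj.map a.op).hom (t U)) = (G.obj.map hg.some.op).hom (t U)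
        rw [← ConcreteCategory.comp_apply, ← Functor.map_comp, ← op_comp]
        exact res_eq_of_two hf t ht _ _).symm
    have hnat : ∀ (W W' : EtOver X) (g : W' ⟶ W), (G.obj.map g.op).hom (s W) = s W' := fun W W' g => by
      refine ((hsh _ (bcSieve_mem hf hX hY hU W')).isSeparatedFor).ext fun V k hk => ?_
      obtain ⟨a⟩ := hk
      show (G.obj.map k.op).hom ((G.obj.map g.op).hom (s W)) = (G.obj.map k.op).hom (s W')
      rw [← ConcreteCategory.comp_apply, ← Functor.map_comp, ← op_comp]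
      refine (hs W (k ≫ g) ⟨a⟩).trans (Eq.trans ?_ (hs W' k ⟨a⟩).symm)
      exact res_eq_of_two hf t ht _ _
    obtain ⟨φ, hφ⟩ := exists_evZ G s hnat
    refine ⟨φ, evZ_ext fun E => ?_⟩
    rw [evZ_pushZ, hφ]
    refine ((hsh _ (bcSieve_mem hf hX hY hU _)).isSeparatedFor).ext fun V k hk => ?_
    obtain ⟨a⟩ := hk
    show (G.obj.map k.op).hom (s _) = (G.obj.map k.op).hom (t E)
    rw [hnat, key V a]
    let P := EtOver.prodObj E U
    let e' : V.obj.left ⟶ E.obj.left := k.hom.left ≫ hf.snd E.obj.hom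
    let u' : V.obj.left ⟶ U.obj.left := a.hom.left ≫ hf.snd U.obj.hom
    have he' : (yon S).map e' ≫ E.obj.hom = V.obj.hom ≫ f := by
      rw [Functor.map_comp, Category.assoc, ← hf.w, ← Category.assoc]
      exact congrArg (fun m => m ≫ f) (EtOver.w k)
    have hu' : (yon S).map u' ≫ U.obj.hom = V.obj.hom ≫ f := by
      rw [Functor.map_comp, Category.assoc, ← hf.w, ← Category.assoc]
      exact congrArg (fun m => m ≫ f) (EtOver.w a)
    let l : V.obj.left ⟶ P.obj.left := U.property.1.lift' u' e' (hu'.trans he'.symm)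
    have hl : V.obj.hom ≫ f = (yon S).map l ≫ P.obj.hom := by
      show _ = (yon S).map l ≫ (yon S).map (U.property.1.snd E.obj.hom) ≫ E.obj.hom
      rw [← Category.assoc, ← Functor.map_comp, Functor.relativelyRepresentable.lift'_snd]
      exact he'.symm
    let c : V ⟶ (EtOver.bc hf).obj P := EtOver.homMk (hf.lift V.obj.hom l hl) (hf.lift_fst _ _ _)
    have hc : ∀ {B : EtOver Y} (m : V ⟶ (EtOver.bc hf).obj B) (π : P ⟶ B),
        l ≫ π.hom.left = m.hom.left ≫ hf.snd B.obj.hom → c ≫ (EtOver.bc hf).map π = m :=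
      fun {B} m π hπ => EtOver.hom_ext _ _ (hf.hom_ext
        (by
          show (yon S).map (hf.lift V.obj.hom l hl ≫ (EtOver.bcMap hf π).hom.left) ≫ _ = _
          rw [Functor.map_comp, Category.assoc, EtOver.map_bcMap_fst, hf.lift_fst]
          exact (EtOver.w m).symm)
        (by
          show (hf.lift V.obj.hom l hl ≫ (EtOver.bcMap hf π).hom.left) ≫ _ = _
          rw [Category.assoc, EtOver.bcMap_snd, ← Category.assoc, hf.lift_snd, hπ]))
    rw [← hc k (EtOver.prodFst E U) (Functor.relativelyRepresentable.lift'_snd _ _ _ _),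
      ← hc a (EtOver.prodSnd E U) (Functor.relativelyRepresentable.lift'_fst _ _ _ _), op_comp, op_comp,
      Functor.map_comp, Functor.map_comp]
    exact congrArg (G.obj.map c.op).hom ((ht U P (EtOver.prodSnd E U)).trans (ht E P (EtOver.prodFst E U)).symm)

end

end Groth.Agent.AlgSpQC10
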