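import Groth.Agent.AlgSpDec.EtStalkAb
import Groth.Prelude.Def_AlgSpOX2
import Mathlib.CategoryTheory.Adjunction.Mates
import Mathlib.CategoryTheory.Preadditive.Injective.Basic

/-!
# Direct images of injective abelian sheaves along representable morphisms are injective
-/

universe u

set_option autoImplicit false
set_option linter.style.haveILetI false
set_option backward.isDefEq.respectTransparency false
set_option backward.isDefEq.respectTransparency.types false

open CategoryTheory CategoryTheory.Limits AlgebraicGeometry Opposite AlgSp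
open Groth.Agent.AlgSpDec

namespace Groth.Agent.AlgSpQC10

noncomputable section

variable {S : Scheme.{u}} {X Y : Sp S} {f : X ⟶ Y} (hf : Representable f)

/-- Lifts of a point to the base change of a chart are lifts of its image to the chart. -/
def liftsToBcEquiv (p : FieldPt X) (E : EtOver Y) :
    (FieldPt.liftsTo p).obj ((EtOver.bc hf).obj E) ≃ (FieldPt.liftsTo (p.map f)).obj E where
  toFun l := ⟨l.1 ≫ hf.snd E.obj.hom, by
    rw [Functor.map_comp, Category.assoc, ← hf.w, ← Category.assoc, FieldPt.toHom_map]
    exact congrArg (fun k : (yon S).obj p.pt ⟶ X => k ≫ f) l.2⟩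
  invFun l := ⟨hf.lift p.toHom l.1 ((FieldPt.toHom_map f p).symm.trans l.2.symm), hf.lift_fst _ _ _⟩
  left_inv l := Subtype.ext (hf.hom_ext ((hf.lift_fst _ _ _).trans l.2.symm) (hf.lift_snd _ _ _))
  right_inv l := Subtype.ext (hf.lift_snd _ _ _)

/-- The fibre functor of a point through base change. -/
def bcFiberIso (p : FieldPt X) :
    EtOver.bc hf ⋙ FieldPt.liftsTo p ≅ FieldPt.liftsTo (p.map f) :=
  NatIso.ofComponents (fun E => (liftsToBcEquiv hf p E).toIso) fun {E E'} g => by
    ext l
    exact Subtype.ext ((Category.assoc _ _ _).trans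
      ((congrArg (fun k => l.1 ≫ k) (EtOver.bcMap_snd hf g)).trans (Category.assoc _ _ _).symm))

variable {p : FieldPt X} (hX : IsAlgSpace X) (hY : IsAlgSpace Y) (hp : p.IsGeometric)

/-- Direct image of skyscraper presheaves. -/
def skyPreIso :
    (EtPoint.point hX p hp).skyscraperPresheafFunctor (A := AddCommGrpCat.{u + 1}) ⋙
        (Functor.whiskeringLeft _ _ _).obj (EtOver.bc hf).op ≅
      (EtPoint.point hY (p.map f) (show IsAlgClosed p.K from hp)).skyscraperPresheafFunctor :=
  NatIso.ofComponents
    (fun M => NatIso.ofComponents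
      (fun E => ((piFunctor.{u} (C := AddCommGrpCat.{u + 1})).flip.mapIso
        ((NatIso.op (bcFiberIso hf p).symm).app E)).app M)
      (fun {E E'} g => by
        have h := congrArg (fun k => (piFunctor.{u} (C := AddCommGrpCat.{u + 1})).flip.map k)
          ((NatIso.op (bcFiberIso hf p).symm).hom.naturality g)
        simp only [Functor.map_comp] at h
        exact congrArg (fun k => k.app M) h))
    (fun {M M'} φ => by
      ext E : 2
      exact ((piFunctor.{u} (C := AddCommGrpCat.{u + 1})).flip.map
        ((NatIso.op (bcFiberIso hf p).symm).hom.app E)).naturality φ)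

/-- Direct image of skyscraper sheaves. -/
def skyIso [HasProducts.{u} AddCommGrpCat.{u + 1}] [HasColimitsOfSize.{u, u} AddCommGrpCat.{u + 1}] :
    (EtPoint.point hX p hp).skyscraperSheafFunctor ⋙ pushEt hf AddCommGrpCat.{u + 1} ≅
      (EtPoint.point hY (p.map f) (show IsAlgClosed p.K from hp)).skyscraperSheafFunctor :=
  NatIso.ofComponents
    (fun M => (fullyFaithfulSheafToPresheaf _ _).preimageIso ((skyPreIso hf hX hY hp).app M))
    (fun φ => (fullyFaithfulSheafToPresheaf _ _).map_injective (by
      simp only [Functor.map_comp, Functor.FullyFaithful.preimageIso_hom, Functor.FullyFaithful.map_preimage]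
      exact (skyPreIso hf hX hY hp).hom.naturality φ))

instance isRightAdjoint_pushEt :
    ((EtOver.bc hf).sheafPushforwardContinuous AddCommGrpCat.{u + 1} (etTop Y) (etTop X)).IsRightAdjoint :=
  inferInstance

include hX hY in
/-- Inverse image of abelian sheaves preserves monomorphisms. -/
theorem preservesMono_pullEt : (pullEt hf AddCommGrpCat.{u + 1}).PreservesMonomorphisms where
  preserves {F G} φ hφ := by
    haveI : HasColimitsOfSize.{u, u} AddCommGrpCat.{u + 1} := hasColimitsOfSizeShrink.{u, u, u + 1, u + 1} _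
    haveI : AB5OfSize.{u, u} AddCommGrpCat.{u + 1} := AB5OfSize_shrink.{u, u, u + 1, u + 1} _
    haveI : HasProducts.{u} AddCommGrpCat.{u + 1} := inferInstance
    refine Preadditive.mono_of_kernel_zero ((IsZero.iff_id_eq_zero _).2 ?_ |>.eq_of_src _ _)
    refine (IsZero.iff_id_eq_zero _).1 (EtStalkAb.isZero_of_stalks _ hX fun q hq => ?_)
    let Φ := EtPoint.point hX q hq
    let Ψ := EtPoint.point hY (q.map f) (show IsAlgClosed q.K from hq)
    let e : Ψ.sheafFiber ≅ pullEt hf AddCommGrpCat.{u + 1} ⋙ Φ.sheafFiber :=
      (conjugateIsoEquiv ((pullPushAdjEt hf AddCommGrpCat.{u + 1}).comp Φ.skyscraperSheafAdjunction)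
        Ψ.skyscraperSheafAdjunction).symm (skyIso hf hX hY hq)
    haveI := EtPoint.preservesFiniteLimits_stalkEtFunctor AddCommGrpCat.{u + 1} hX hq
    haveI := EtPoint.preservesFiniteLimits_stalkEtFunctor AddCommGrpCat.{u + 1} hY
      (show (q.map f).IsGeometric from hq)
    haveI : Mono (Ψ.sheafFiber.map φ) :=
      inferInstanceAs (Mono ((stalkEtFunctor AddCommGrpCat.{u + 1} (q.map f)).map φ))
    haveI : Mono ((pullEt hf AddCommGrpCat.{u + 1} ⋙ Φ.sheafFiber).map φ) := by
      rw [← NatIso.naturality_1 e φ]
      infer_instance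
    haveI : Mono ((stalkEtFunctor AddCommGrpCat.{u + 1} q).map ((pullEt hf AddCommGrpCat.{u + 1}).map φ)) :=
      inferInstanceAs (Mono ((pullEt hf AddCommGrpCat.{u + 1} ⋙ Φ.sheafFiber).map φ))
    exact AddCommGrpCat.subsingleton_of_isZero ((isZero_kernel_of_mono _).of_iso
      (PreservesKernel.iso (stalkEtFunctor AddCommGrpCat.{u + 1} q) ((pullEt hf AddCommGrpCat.{u + 1}).map φ)))

include hX hY in
/-- Direct images of injective abelian sheaves are injective. -/
theorem injective_pushEt (I : AbEt X) [Injective I] : Injective ((pushEt hf AddCommGrpCat.{u + 1}).obj I) :=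
  haveI := preservesMono_pullEt hf hX hY
  Injective.injective_of_adjoint (pullPushAdjEt hf AddCommGrpCat.{u + 1}) I

end

end Groth.Agent.AlgSpQC10
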