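import Groth.Agent.AlgSpQC10.Vanish
import Groth.Agent.AlgSpQC10.PushInj
import Groth.Agent.AlgSpQC10.GammaPush
import Groth.Agent.AlgSpQC10.Push
import Groth.Agent.SiteBase.LerayDegen

/-!
# Cohomology of quasi-coherent modules and affine direct images
-/

universe u

set_option autoImplicit false
set_option linter.style.haveILetI false
set_option backward.isDefEq.respectTransparency false
set_option backward.isDefEq.respectTransparency.types false

open CategoryTheory CategoryTheory.Limits AlgebraicGeometry Opposite AlgSp Abelian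

namespace Groth.Agent.AlgSpQC10

noncomputable section

variable {S : Scheme.{u}} {X Y : Sp S} {f : X ⟶ Y} (hf : Representable f)

/-- Cech acyclic sheaves have exact direct images along affine morphisms. -/
theorem shortExact_map_pushEt (haff : IsAffineMor f) (hX : IsAlgSpace X) (hY : IsAlgSpace Y)
    (T : ShortComplex (AbEt X)) (hT : T.ShortExact) (h1 : IsCechAcyclic (QCart.etBasis X) T.X₁) :
    (T.map (pushEt hf AddCommGrpCat.{u + 1})).ShortExact := by
  haveI := hT.mono_f
  haveI : (pushEt hf AddCommGrpCat.{u + 1}).IsRightAdjoint :=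
    (pullPushAdjEt hf AddCommGrpCat.{u + 1}).isRightAdjoint
  haveI : Mono (T.map (pushEt hf AddCommGrpCat.{u + 1})).f :=
    inferInstanceAs (Mono ((pushEt hf AddCommGrpCat.{u + 1}).map T.f))
  have hepi : Epi (T.map (pushEt hf AddCommGrpCat.{u + 1})).g := by
    show Epi ((pushEt hf AddCommGrpCat.{u + 1}).map T.g)
    refine (Sheaf.isLocallySurjective_iff_epi' AddCommGrpCat.{u + 1}
      ((pushEt hf AddCommGrpCat.{u + 1}).map T.g : _ ⟶ _)).1 ⟨fun {E} z => ?_⟩
    refine (etTop Y).superset_covering ?_ (QCart.dense_isAff Y E)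
    refine (Sieve.generate_le_iff _ _).2 fun W g hW => ?_
    haveI : IsAffine W.obj.left.left := hW
    obtain ⟨y, hy⟩ := sections_surjective T hT h1 (E := (EtOver.bc hf).obj W) (isAffine_bcObj hf haff W)
      ((T.X₃.obj.map ((EtOver.bc hf).map g).op).hom z)
    exact ⟨y, hy⟩
  exact
    { exact := ShortComplex.exact_of_f_is_kernel _
        (KernelFork.mapIsLimit _ hT.fIsKernel (pushEt hf AddCommGrpCat.{u + 1}))
      epi_g := hepi }

/-- The comparison of global sections. -/
def pushH₀ (hX : IsAlgSpace X) (hY : IsAlgSpace Y) (G : AbEt X) :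
    Ext.{u + 1} (cstZ X) G 0 ≃+ Ext.{u + 1} (cstZ Y) ((pushEt hf AddCommGrpCat.{u + 1}).obj G) 0 :=
  (Ext.addEquiv₀.trans (AddEquiv.ofBijective _ (bijective_pushZ hf hX hY G))).trans Ext.addEquiv₀.symm

theorem pushH₀_natural (hX : IsAlgSpace X) (hY : IsAlgSpace Y) {G G' : AbEt X} (φ : G ⟶ G')
    (y : Ext.{u + 1} (cstZ X) G 0) :
    pushH₀ hf hX hY G' (y.comp (Ext.mk₀ φ) (add_zero 0)) =
      (pushH₀ hf hX hY G y).comp (Ext.mk₀ ((pushEt hf AddCommGrpCat.{u + 1}).map φ)) (add_zero 0) := by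
  obtain ⟨ψ, rfl⟩ := (Ext.mk₀_bijective _ _).2 y
  rw [Ext.mk₀_comp_mk₀]
  simp only [pushH₀, AddEquiv.trans_apply]
  rw [Ext.addEquiv₀_symm_apply, Ext.addEquiv₀_symm_apply, Ext.mk₀_comp_mk₀]
  congr 1
  simp only [AddEquiv.ofBijective_apply]
  have h : ∀ {H : AbEt X} (χ : cstZ X ⟶ H), Ext.addEquiv₀ (Ext.mk₀.{u + 1} χ) = χ := fun χ =>
    Ext.addEquiv₀.apply_symm_apply χ
  rw [h, h]
  show cstPush hf ≫ (pushEt hf AddCommGrpCat.{u + 1}).map (ψ ≫ φ) = (cstPush hf ≫ _) ≫ _
  rw [Functor.map_comp, Category.assoc]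

/-- Cohomology does not change under direct image along an affine morphism, for Čech acyclic sheaves. -/
theorem nonempty_H_addEquiv (haff : IsAffineMor f) (hX : IsAlgSpace X) (hY : IsAlgSpace Y) (F : AbEt X)
    (hF : IsCechAcyclic (QCart.etBasis X) F) (i : ℕ) :
    Nonempty (HEt X F i ≃+ HEt Y ((pushEt hf AddCommGrpCat.{u + 1}).obj F) i) :=
  LerayDegen.ext_equiv_of_class (cstZ X) (cstZ Y) (pushEt hf AddCommGrpCat.{u + 1})
    (fun I _ => injective_pushEt hf hX hY I) (pushH₀ hf hX hY) (fun φ y => pushH₀_natural hf hX hY φ y)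
    (IsCechAcyclic (QCart.etBasis X))
    (fun {T} hT h1 _ => isCechAcyclic_X₃ T hT (fun e h => isAff_of_iso e h) h1 (isCechAcyclic_of_injective T.X₂))
    (fun {T} hT h1 _ => shortExact_map_pushEt hf haff hX hY T hT h1) F hF i

end

end Groth.Agent.AlgSpQC10
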