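import Groth.Agent.AlgSpQC10.Cech
import Groth.Agent.EtFound.CechSurjGen
import Groth.Agent.SiteBase.AbSecExact
import Mathlib.Algebra.Homology.DerivedCategory.Ext.EnoughInjectives
import Mathlib.Algebra.Category.Grp.Zero
import Mathlib.CategoryTheory.Limits.Constructions.Over.Basic
import Mathlib.CategoryTheory.Sites.SheafCohomology.Basic

/-!
# Cartan's criterion on a site with a basis of affine objects
-/

universe w w' v₁ u₁

set_option autoImplicit false
set_option linter.style.haveILetI false
set_option linter.unusedSectionVars false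
set_option backward.isDefEq.respectTransparency false
set_option backward.isDefEq.respectTransparency.types false

open CategoryTheory CategoryTheory.Limits Opposite Abelian Groth.Agent.QCart Groth.Agent.EtFound

namespace Groth.Agent.AlgSpQC10

theorem hasFiniteProducts_over {C : Type u₁} [Category.{v₁} C] [HasPullbacks C] (E : C) :
    HasFiniteProducts (Over E) :=
  haveI : HasBinaryProducts (Over E) := CategoryTheory.Over.ConstructProducts.over_binaryProduct_of_pullback
  hasFiniteProducts_of_has_binary_and_terminal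

variable {C : Type u₁} [Category.{v₁} C] [LocallySmall.{w} C] [HasPullbacks C] {J : GrothendieckTopology C}
  {O : Cᵒᵖ ⥤ CommRingCat.{w}} (b : AffBasis J O)
  [HasSheafify J AddCommGrpCat.{w}] [J.HasSheafCompose (CategoryTheory.forget AddCommGrpCat.{w})]
  [J.WEqualsLocallyBijective AddCommGrpCat.{w}]

/-- No higher Čech cohomology on covers of affine objects. -/
def IsCechAcyclic (G : Sheaf J AddCommGrpCat.{w}) : Prop :=
  ∀ (E : C) [HasFiniteProducts (Over E)], b.aff E → ∀ (c : Cover J O b.aff E) (p : ℕ),
    IsZero (EtCech.cechH (cFam c) G.obj (p + 1))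

variable {b}

/-- A cartesian sheaf of modules is Čech acyclic. -/
theorem isCechAcyclic_of_isCart (hiso : ∀ {W W' : C}, (W ≅ W') → b.aff W' → b.aff W)
    (G : Sheaf J AddCommGrpCat.{w}) (M : PresheafOfModules.{w} (RR O)) (e : M.presheaf = G.obj)
    (hM : b.IsCart M) : IsCechAcyclic b G := by
  intro E _ hE c p
  rw [← e]
  exact (HomologicalComplex.exactAt_iff_isZero_homology _ _).1 (exactAt_cech_of_isCart c M hiso hM hE p)

theorem isCechAcyclic_of_injective (I : Sheaf J AddCommGrpCat.{w}) [Injective I] : IsCechAcyclic b I := by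
  intro E _ _ c p
  haveI : Injective I.obj :=
    Injective.injective_of_adjoint (sheafificationAdjunction J AddCommGrpCat.{w}) I
  exact CechInjGen.isZero_cechH_injective _ I.obj p

variable (S : ShortComplex (Sheaf J AddCommGrpCat.{w})) (hS : S.ShortExact)

include hS

theorem sections_surjective (h1 : IsCechAcyclic b S.X₁) {E : C} (hE : b.aff E) :
    Function.Surjective (S.g.hom.app (op E)).hom := by
  intro z
  haveI := hasFiniteProducts_over E
  haveI := hS.mono_f
  haveI := hS.epi_g
  have hloc : Presheaf.IsLocallySurjective J S.g.hom :=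
    (Sheaf.isLocallySurjective_iff_epi' AddCommGrpCat.{w} S.g).2 inferInstance
  obtain ⟨c, hc⟩ := b.cover hE _ (hloc.imageSieve_mem (U := E) z)
  choose s hs using hc
  have hsheaf : ∀ F : Sheaf J AddCommGrpCat.{w},
      Presieve.IsSheafFor (F.obj ⋙ CategoryTheory.forget AddCommGrpCat.{w})
        (Presieve.ofArrows (fun i => (cFam c i).left) fun i => (cFam c i).hom) := fun F => by
    rw [Presieve.isSheafFor_iff_generate]
    refine (isSheaf_iff_isSheaf_of_type J _).1
      (GrothendieckTopology.HasSheafCompose.isSheaf F.obj F.property) _ (J.superset_covering ?_ c.mem)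
    refine (Sieve.generate_le_iff _ _).2 ?_
    rintro Y f ⟨i⟩
    exact Sieve.le_generate _ _ _ (Presieve.ofArrows.mk (ULift.up i : ULift.{w} (Fin c.n)))
  exact CechSurjGen.exists_lift_of_isZero_cechH_one (Uf := cFam c) S.f.hom S.g.hom
    (fun T => SiteBase.sheaf_app_injective S.f T.unop)
    (fun T y hy => (SiteBase.secExact_iff S T.unop).1 (hS.exact.map_of_mono_of_preservesKernel
      (sheafToPresheaf J AddCommGrpCat.{w} ⋙
        (evaluation Cᵒᵖ AddCommGrpCat.{w}).obj T) inferInstance inferInstance) y hy)
    (fun T x => congrArg (fun t : S.X₁ ⟶ S.X₃ => (t.hom.app T).hom x) S.zero)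
    (h1 E hE c 0) (hsheaf _) (hsheaf _) z (fun i => s i.down) (fun i => hs i.down)

theorem isCechAcyclic_X₃ (hiso : ∀ {W W' : C}, (W ≅ W') → b.aff W' → b.aff W)
    (h1 : IsCechAcyclic b S.X₁) (h2 : IsCechAcyclic b S.X₂) : IsCechAcyclic b S.X₃ := by
  intro E _ hE c p
  haveI := hS.mono_f
  haveI := hS.epi_g
  exact CechSurjGen.isZero_cechH_quot S.f.hom S.g.hom
    (fun T => SiteBase.sheaf_app_injective S.f T.unop)
    (fun T y hy => (SiteBase.secExact_iff S T.unop).1 (hS.exact.map_of_mono_of_preservesKernel
      (sheafToPresheaf J AddCommGrpCat.{w} ⋙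
        (evaluation Cᵒᵖ AddCommGrpCat.{w}).obj T) inferInstance inferInstance) y hy)
    (fun T x => congrArg (fun t : S.X₁ ⟶ S.X₃ => (t.hom.app T).hom x) S.zero) p
    (h1 E hE c (p + 1)) (h2 E hE c p)
    (fun n i => sections_surjective S hS h1 (aff_prodOver hE hiso n (fun k => cFam c (i k)) fun k => c.aff_Z _))

omit hS

variable [HasExt.{w'} (Sheaf J AddCommGrpCat.{w})] [EnoughInjectives (Sheaf J AddCommGrpCat.{w})]

/-- Cartan's criterion. -/
theorem subsingleton_H_of_isCechAcyclic {T : C} (hT : IsTerminal T) (hTa : b.aff T)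
    (hiso : ∀ {W W' : C}, (W ≅ W') → b.aff W' → b.aff W) (n : ℕ) (G : Sheaf J AddCommGrpCat.{w})
    (hG : IsCechAcyclic b G) : Subsingleton (Sheaf.H.{w'} G (n + 1)) := by
  induction n generalizing G with
  | zero =>
    let S := ShortComplex.mk (Injective.ι G) (cokernel.π _) (cokernel.condition (Injective.ι G))
    have hS : S.ShortExact := { exact := ShortComplex.exact_of_g_is_cokernel _ (cokernelIsCokernel _) }
    refine subsingleton_of_forall_eq 0 fun x => ?_
    obtain ⟨z, rfl⟩ := Ext.covariant_sequence_exact₁ _ hS x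
      (haveI : Injective S.X₂ := inferInstanceAs (Injective (Injective.under G)); Ext.eq_zero_of_injective _)
      (rfl : 0 + 1 = 1)
    obtain ⟨φ, rfl⟩ := (Ext.mk₀_bijective _ _).2 z
    let adj := constantSheafAdj J AddCommGrpCat.{w} hT
    obtain ⟨a, ha⟩ := sections_surjective S hS hG hTa (adj.homEquiv _ _ φ ⟨1⟩)
    have hφ : (adj.homEquiv _ _).symm ((AddCommGrpCat.uliftZMultiplesAddEquiv _).symm a) ≫ S.g = φ := by
      apply (adj.homEquiv _ _).injective
      rw [Adjunction.homEquiv_naturality_right, Equiv.apply_symm_apply]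
      apply (AddCommGrpCat.uliftZMultiplesAddEquiv _).injective
      refine Eq.trans ?_ ha
      exact congrArg (S.g.hom.app (op T))
        ((AddCommGrpCat.uliftZMultiplesAddEquiv _).apply_symm_apply a)
    rw [← hφ, ← Ext.mk₀_comp_mk₀, Ext.comp_assoc_of_second_deg_zero, hS.comp_extClass, Ext.comp_zero]
  | succ n ih =>
    let S := ShortComplex.mk (Injective.ι G) (cokernel.π _) (cokernel.condition (Injective.ι G))
    have hS : S.ShortExact := { exact := ShortComplex.exact_of_g_is_cokernel _ (cokernelIsCokernel _) }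
    haveI hI : Injective S.X₂ := inferInstanceAs (Injective (Injective.under G))
    refine subsingleton_of_forall_eq 0 fun x => ?_
    obtain ⟨z, rfl⟩ := Ext.covariant_sequence_exact₁ _ hS x (Ext.eq_zero_of_injective _) (rfl : (n + 1) + 1 = _)
    haveI := ih S.X₃ (isCechAcyclic_X₃ S hS hiso hG (isCechAcyclic_of_injective S.X₂))
    rw [Subsingleton.elim z 0, Ext.zero_comp]

end Groth.Agent.AlgSpQC10
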