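import Groth.Agent.QCart.Basis
import Groth.Agent.EtFound.CechInjGen

/-!
# Cartesian modules have no higher Čech cohomology on covers of affine objects
-/

universe w v₁ u₁

set_option autoImplicit false
set_option linter.style.haveILetI false
set_option linter.unusedSectionVars false
set_option backward.isDefEq.respectTransparency false
set_option backward.isDefEq.respectTransparency.types false

open CategoryTheory CategoryTheory.Limits Opposite TensorProduct Groth.Agent.QCart Groth.Agent.EtFound.CechInjGen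

namespace Groth.Agent.AlgSpQC10

variable {C : Type u₁} [Category.{v₁} C] [LocallySmall.{w} C] {J : GrothendieckTopology C}
  {O : Cᵒᵖ ⥤ CommRingCat.{w}} {b : AffBasis J O}

section Prod

variable [HasPullbacks C] {E : C} [HasFiniteProducts (Over E)] (hE : b.aff E)
  (hiso : ∀ {W W' : C}, (W ≅ W') → b.aff W' → b.aff W)

include hE hiso

/-- Finite products over an affine object of affine objects are affine. -/
theorem aff_prodOver : ∀ (n : ℕ) (Y : Fin (n + 1) → Over E), (∀ k, b.aff (Y k).left) → b.aff (∏ᶜ Y).left := by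
  intro n
  induction n with
  | zero =>
    intro Y hY
    haveI : IsIso (Pi.π Y 0) := by
      refine ⟨Pi.lift fun k => eqToHom (by rw [Fin.fin_one_eq_zero k]), ?_, ?_⟩
      · refine Pi.hom_ext _ _ fun k => ?_
        obtain rfl := Fin.fin_one_eq_zero k
        simp
      · simp
    exact hiso ((Over.forget E).mapIso (asIso (Pi.π Y 0))) (hY 0)
  | succ n ih =>
    intro Y hY
    haveI : HasBinaryProducts (Over E) := inferInstance
    let R := ∏ᶜ fun k => Y (Fin.succ k)
    let e : ∏ᶜ Y ≅ (Y 0 ⨯ R) :=
      { hom := prod.lift (Pi.π Y 0) (Pi.lift fun k => Pi.π Y (Fin.succ k))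
        inv := Pi.lift (Fin.cases prod.fst fun k => prod.snd ≫ Pi.π (fun k => Y (Fin.succ k)) k)
        hom_inv_id := Pi.hom_ext _ _ fun k => by
          rw [Category.assoc, Pi.lift_π, Category.id_comp]
          induction k using Fin.cases with
          | zero => exact prod.lift_fst _ _
          | succ k =>
            refine (Category.assoc _ _ _).symm.trans ?_
            exact (congrArg (· ≫ _) (prod.lift_snd _ _)).trans (Pi.lift_π _ _)
        inv_hom_id := by
          refine prod.hom_ext ?_ (Pi.hom_ext _ _ fun k => ?_)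
          · rw [Category.assoc, Category.id_comp]
            exact (congrArg (_ ≫ ·) (prod.lift_fst _ _)).trans (Pi.lift_π _ 0)
          · rw [Category.assoc, Category.assoc, Category.id_comp]
            refine (congrArg (_ ≫ ·) ((Category.assoc _ _ _).symm.trans
              ((congrArg (· ≫ _) (prod.lift_snd _ _)).trans (Pi.lift_π _ k)))).trans ?_
            exact Pi.lift_π _ (Fin.succ k) }
    obtain ⟨P, p, q, hP, hpb, -⟩ := b.pb hE (hY 0) (ih (fun k => Y (Fin.succ k)) fun k => hY _) (Y 0).hom R.hom
    exact hiso ((Over.forget E).mapIso e ≪≫ CategoryTheory.Over.prodLeftIsoPullback (Y 0) R ≪≫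
      hpb.isoPullback.symm) hP

end Prod

variable {E : C} [HasFiniteProducts (Over E)] (c : Cover J O b.aff E)

/-- The family of a cover, as objects over the covered object. -/
abbrev cFam : ULift.{w} (Fin c.n) → Over E := fun i => Over.mk (c.m i.down)

variable (M : PresheafOfModules.{w} (RR O))

/-- Cochains, as a module over the sections of the ring on the covered object. -/
abbrev cochains (n : ℕ) : Type w :=
  ∀ i : Fin (n + 1) → ULift.{w} (Fin c.n), Sec M (∏ᶜ fun k => cFam c (i k)).hom

/-- A component of the differential. -/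
noncomputable def cface (n : ℕ) (i : Fin (n + 2) → ULift.{w} (Fin c.n)) (k : Fin (n + 2)) :
    cochains c M n →ₗ[O.obj (op E)] Sec M (∏ᶜ fun l => cFam c (i l)).hom :=
  (resOver (∏ᶜ fun l => cFam c (i (k.succAbove l))).hom M (∏ᶜ fun l => cFam c (i l)).hom
    (tmap (cFam c) i k).left (Over.w _)).comp (LinearMap.proj (i ∘ k.succAbove))

/-- The differential. -/
noncomputable def cdiff (n : ℕ) : cochains c M n →ₗ[O.obj (op E)] cochains c M (n + 1) :=
  LinearMap.pi fun i => ∑ k : Fin (n + 2), (-1 : ℤ) ^ (k : ℕ) • cface c M n i k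

theorem cdiff_apply (n : ℕ) (y : cochains c M n) (i : Fin (n + 2) → ULift.{w} (Fin c.n)) :
    (show M.obj (op _) from cdiff c M n y i) =
      ∑ k : Fin (n + 2), (-1 : ℤ) ^ (k : ℕ) • sres M (tmap (cFam c) i k).left
        (show M.obj (op _) from y (i ∘ k.succAbove)) := by
  simp only [cdiff, LinearMap.pi_apply, LinearMap.sum_apply, LinearMap.smul_apply]
  rfl

variable {c M}

/-- A cochain as a family of sections. -/
noncomputable def cvec {n : ℕ} (x : (EtCech.cechComplex (cFam c) M.presheaf).X n) : cochains c M n :=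
  fun i => cev (cFam c) M.presheaf n i x

/-- Prefix a lift to a tuple. -/
noncomputable def tcons {n : ℕ} {T : C} (l : Lift (cFam c) T) (p : Tup (cFam c) n T) (h : l.base = (p.1 0).base) :
    Tup (cFam c) (n + 1) T :=
  ⟨Fin.cons l p.1, fun k => by
    induction k using Fin.cases with
    | zero => rfl
    | succ i => rw [Fin.cons_succ, Fin.cons_zero, h]; exact p.2 i⟩

theorem tcons_face_zero {n : ℕ} {T : C} (l : Lift (cFam c) T) (p : Tup (cFam c) n T) (h : l.base = (p.1 0).base) :
    (tcons l p h).face 0 = p :=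
  Subtype.ext (funext fun k => by
    show Fin.cons (α := fun _ => Lift (cFam c) T) l p.1 ((0 : Fin (n + 2)).succAbove k) = p.1 k
    rw [Fin.zero_succAbove, Fin.cons_succ])

theorem tcons_face_succ {n : ℕ} {T : C} (l : Lift (cFam c) T) (p : Tup (cFam c) (n + 1) T)
    (h : l.base = (p.1 0).base) (j : Fin (n + 2)) :
    (tcons l p h).face j.succ = tcons l (p.face j) (h.trans (p.2 _).symm) :=
  Subtype.ext (funext fun k => by
    show Fin.cons (α := fun _ => Lift (cFam c) T) l p.1 (j.succ.succAbove k) =
      Fin.cons (α := fun _ => Lift (cFam c) T) l (p.face j).1 k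
    induction k using Fin.cases with
    | zero => rw [Fin.succ_succAbove_zero, Fin.cons_zero, Fin.cons_zero]
    | succ i => rw [Fin.succ_succAbove_succ, Fin.cons_succ, Fin.cons_succ]; rfl)

/-- A cocycle is determined by its values on tuples through a given lift. -/
theorem toFn_eq_sum_tcons {n : ℕ} {x : (EtCech.cechComplex (cFam c) M.presheaf).X (n + 1)}
    (hx : ((EtCech.cechComplex (cFam c) M.presheaf).d (n + 1) (n + 2)).hom x = 0) {T : C}
    (l : Lift (cFam c) T) (p : Tup (cFam c) (n + 1) T) (h : l.base = (p.1 0).base) :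
    toFn x T p = ∑ j : Fin (n + 2), (-1 : ℤ) ^ (j : ℕ) • toFn x T (tcons l (p.face j) (h.trans (p.2 _).symm)) := by
  have h0 : (∑ j : Fin (n + 3), (-1 : ℤ) ^ (j : ℕ) • toFn x T ((tcons l p h).face j)) = 0 := by
    rw [← toFn_d x T (tcons l p h)]
    show (M.presheaf.map _).hom (cev (cFam c) M.presheaf (n + 2) _ _) = 0
    rw [hx, map_zero, map_zero]
  rw [Fin.sum_univ_succ, tcons_face_zero] at h0
  rw [← sub_eq_zero, sub_eq_add_neg, ← Finset.sum_neg_distrib]
  refine Eq.trans (congrArg₂ (· + ·) ?_ (Finset.sum_congr rfl fun j _ => ?_)) h0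
  · simp
  · rw [tcons_face_succ, Fin.val_succ, pow_succ, mul_neg_one, neg_smul]

theorem toFn_taut {n : ℕ} (x : (EtCech.cechComplex (cFam c) M.presheaf).X n)
    (i : Fin (n + 1) → ULift.{w} (Fin c.n)) :
    toFn x _ (taut (Uf := cFam c) i) = cev (cFam c) M.presheaf n i x := by
  show (M.presheaf.map (taut (Uf := cFam c) i).toProd.op).hom _ = _
  rw [toProd_taut]
  exact ConcreteCategory.congr_hom (M.presheaf.map_id _) _

variable (c) (M)

set_option maxHeartbeats 1000000 in
/-- A cartesian presheaf of modules has no higher Čech cohomology on a cover of an affine object. -/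
theorem exactAt_cech_of_isCart [HasPullbacks C] (hiso : ∀ {W W' : C}, (W ≅ W') → b.aff W' → b.aff W)
    (hM : b.IsCart M) (hE : b.aff E) (n : ℕ) :
    (EtCech.cechComplex (cFam c) M.presheaf).ExactAt (n + 1) := by
  classical
  rw [HomologicalComplex.exactAt_iff' _ n (n + 1) (n + 2) (by simp) (by simp), ShortComplex.ab_exact_iff]
  intro (x : (EtCech.cechComplex (cFam c) M.presheaf).X (n + 1))
    (hx : ((EtCech.cechComplex (cFam c) M.presheaf).d (n + 1) (n + 2)).hom x = 0)
  obtain ⟨y, hy⟩ : cvec x ∈ LinearMap.range (cdiff c M n) := by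
    refine mem_range_of_cover c _ _ fun j => ?_
    let A := O.obj (op E)
    let B := Rg O (c.m j)
    let P : ∀ {m : ℕ}, (Fin (m + 1) → ULift.{w} (Fin c.n)) → Over E := fun {m} i => ∏ᶜ fun k => cFam c (i k)
    have hP : ∀ {m : ℕ} (i : Fin (m + 1) → ULift.{w} (Fin c.n)), b.aff (P i).left := fun {m} i =>
      aff_prodOver hE hiso m (fun k => cFam c (i k)) fun k => c.aff_Z _
    -- the fibre product with the member `j`
    let Q : ∀ {m : ℕ}, (Fin (m + 1) → ULift.{w} (Fin c.n)) → C := fun {m} i =>
      b.prod hE (hP i) (c.aff_Z j) (P i).hom (c.m j)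
    let r : ∀ {m : ℕ} (i : Fin (m + 1) → ULift.{w} (Fin c.n)), Q i ⟶ (P i).left := fun {m} i =>
      b.fst hE (hP i) (c.aff_Z j) (P i).hom (c.m j)
    let r' : ∀ {m : ℕ} (i : Fin (m + 1) → ULift.{w} (Fin c.n)), Q i ⟶ c.Z j := fun {m} i =>
      b.snd hE (hP i) (c.aff_Z j) (P i).hom (c.m j)
    have hQ : ∀ {m : ℕ} (i : Fin (m + 1) → ULift.{w} (Fin c.n)), b.aff (Q i) := fun {m} i =>
      b.aff_prod hE (hP i) (c.aff_Z j) (P i).hom (c.m j)
    have pbQ : ∀ {m : ℕ} (i : Fin (m + 1) → ULift.{w} (Fin c.n)),
        IsPullback (r i) (r' i) (P i).hom (c.m j) := fun {m} i =>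
      b.isPullback hE (hP i) (c.aff_Z j) (P i).hom (c.m j)
    have sq : ∀ {m : ℕ} (i : Fin (m + 1) → ULift.{w} (Fin c.n)),
        IsRingSq (O := O) (P i).hom (c.m j) (r i) (r' i) := fun {m} i =>
      b.isRingSq hE (hP i) (c.aff_Z j) (P i).hom (c.m j)
    let lj : ∀ {m : ℕ} (i : Fin (m + 1) → ULift.{w} (Fin c.n)), Lift (cFam c) (Q i) := fun {m} i =>
      Lift.mk' ⟨j⟩ (r' i)
    have hlj : ∀ {m : ℕ} (i : Fin (m + 1) → ULift.{w} (Fin c.n)),
        (lj i).base = (((taut (Uf := cFam c) i).res (r i)).1 0).base := fun {m} i => by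
      refine Eq.trans ?_ (Lift.base_res _ _).symm
      show (Lift.mk' (Uf := cFam c) ⟨j⟩ (r' i)).hom ≫ c.m j =
        r i ≫ (Lift.mk' (Uf := cFam c) (i 0) (Pi.π (fun k => cFam c (i k)) 0).left).hom ≫ _
      rw [Lift.hom_mk', Lift.hom_mk']
      exact (pbQ i).w.symm.trans (congrArg (fun g => r i ≫ g) (Over.w (Pi.π (fun k => cFam c (i k)) 0)).symm)
    choose z hz using fun i : Fin (n + 1) → ULift.{w} (Fin c.n) =>
      (bijective_mixMap (P i).hom M (sq i) (hM (hP i) (hQ i) (r i))).2
        (toFn x (Q i) (tcons (lj i) ((taut (Uf := cFam c) i).res (r i)) (hlj i)))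
    refine ⟨(TensorProduct.piRight A A B fun i => Sec M (P i).hom).symm z,
      (TensorProduct.piRight A A B fun i => Sec M (P i).hom).injective (funext fun i => ?_)⟩
    refine (bijective_mixMap (P i).hom M (sq i) (hM (hP i) (hQ i) (r i))).1 ?_
    have hcomp : ∀ v : B ⊗[A] cochains c M n,
        TensorProduct.piRight A A B (fun i => Sec M (P i).hom) ((cdiff c M n).lTensor B v) i =
          ∑ k : Fin (n + 2), (-1 : ℤ) ^ (k : ℕ) •
            (resOver (P (i ∘ k.succAbove)).hom M (P i).hom (tmap (cFam c) i k).left (Over.w _)).lTensor B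
              (TensorProduct.piRight A A B (fun i => Sec M (P i).hom) v (i ∘ k.succAbove)) := fun v => by
      induction v using TensorProduct.induction_on with
      | zero => simp
      | add v v' hv hv' => simp only [map_add, Pi.add_apply, hv, hv', smul_add, Finset.sum_add_distrib]
      | tmul t v =>
        simp only [TensorProduct.piRight_apply]
        rw [LinearMap.lTensor_tmul, TensorProduct.piRightHom_tmul]
        simp only [TensorProduct.piRightHom_tmul]
        rw [show cdiff c M n v i = ∑ k : Fin (n + 2), (-1 : ℤ) ^ (k : ℕ) •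
            resOver (P (i ∘ k.succAbove)).hom M (P i).hom (tmap (cFam c) i k).left (Over.w _)
              (v (i ∘ k.succAbove)) from cdiff_apply c M n v i, TensorProduct.tmul_sum]
        exact Finset.sum_congr rfl fun k _ => TensorProduct.tmul_smul _ _ _
    have hw : ∀ k : Fin (n + 2), (r i ≫ (tmap (cFam c) i k).left) ≫ (P (i ∘ k.succAbove)).hom = r' i ≫ c.m j :=
      fun k => by
        rw [Category.assoc, show (tmap (cFam c) i k).left ≫ (P (i ∘ k.succAbove)).hom = (P i).hom from Over.w _]
        exact (pbQ i).w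
    let s : ∀ k : Fin (n + 2), Q i ⟶ Q (i ∘ k.succAbove) := fun k =>
      (pbQ (i ∘ k.succAbove)).lift (r i ≫ (tmap (cFam c) i k).left) (r' i) (hw k)
    have step : ∀ (k : Fin (n + 2)) (v : B ⊗[A] Sec M (P (i ∘ k.succAbove)).hom),
        mixMap (P i).hom M (c.m j) (r i) (r' i) (sq i).w
            ((resOver (P (i ∘ k.succAbove)).hom M (P i).hom (tmap (cFam c) i k).left (Over.w _)).lTensor B v) =
          sres M (s k) (mixMap (P (i ∘ k.succAbove)).hom M (c.m j) (r _) (r' _) (sq _).w v) := fun k v => by
      induction v using TensorProduct.induction_on with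
      | zero => rw [map_zero, map_zero, map_zero]; exact (map_zero (sres M _)).symm
      | add v v' hv hv' =>
        rw [map_add, map_add, hv, hv', map_add]
        exact (map_add (sres M _) _ _).symm
      | tmul t v =>
        rw [LinearMap.lTensor_tmul, mixMap_tmul, mixMap_tmul]
        refine Eq.trans ?_ (sres_smul M (s k) ((O.map (r' _).op).hom t) (sres M (r _) v)).symm
        have e1 : (O.map (s k).op).hom ((O.map (r' (i ∘ k.succAbove)).op).hom t) = (O.map (r' i).op).hom t := by
          refine (DFunLike.congr_fun (congrArg CommRingCat.Hom.hom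
            (O.map_comp (r' (i ∘ k.succAbove)).op (s k).op)) t).symm.trans ?_
          rw [← op_comp, (pbQ (i ∘ k.succAbove)).lift_snd]
        have e2 : sres M (s k) (sres M (r (i ∘ k.succAbove)) v) =
            sres M (r i) (sres M (tmap (cFam c) i k).left v) := by
          refine (sres_sres M _ _ v).trans (Eq.trans ?_ (sres_sres M _ (r i) v).symm)
          rw [(pbQ (i ∘ k.succAbove)).lift_fst]
        exact congrArg₂ (fun (a : O.obj (op (Q i))) (v : M.obj (op (Q i))) => a • v) e1.symm e2.symm
    rw [hcomp, LinearEquiv.apply_symm_apply, map_sum, TensorProduct.piRight_apply, TensorProduct.piRightHom_tmul,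
      mixMap_one_tmul]
    simp only [map_zsmul, step, hz]
    have hRHS : sres M (r i) (show M.obj (op _) from cvec x i) = toFn x (Q i) ((taut (Uf := cFam c) i).res (r i)) := by
      rw [toFn_res, toFn_taut]
      rfl
    refine Eq.trans ?_ hRHS.symm
    rw [toFn_eq_sum_tcons hx (lj i) ((taut (Uf := cFam c) i).res (r i)) (hlj i)]
    refine Finset.sum_congr rfl fun k _ => congrArg ((-1 : ℤ) ^ (k : ℕ) • ·) ?_
    refine (toFn_res x (s k) _).symm.trans (congrArg (toFn x (Q i)) ?_)
    refine Subtype.ext (funext fun l => ?_)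
    induction l using Fin.cases with
    | zero =>
      show Lift.res (s k) (lj (i ∘ k.succAbove)) = lj i
      show Lift.mk' (Uf := cFam c) ⟨j⟩ (s k ≫ (Lift.mk' (Uf := cFam c) ⟨j⟩ (r' (i ∘ k.succAbove))).hom) = _
      rw [Lift.hom_mk', (pbQ (i ∘ k.succAbove)).lift_snd]
    | succ l =>
      show Lift.res (s k) (((taut (Uf := cFam c) (i ∘ k.succAbove)).res (r _)).1 l) =
        ((((taut (Uf := cFam c) i).res (r i))).face k).1 l
      rw [Tup.face_res, taut_face]
      show Lift.res (s k) (Lift.res (r _) _) = Lift.res (r i) (Lift.res (tmap (cFam c) i k).left _)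
      rw [Lift.res_comp, Lift.res_comp, (pbQ (i ∘ k.succAbove)).lift_fst]
  obtain ⟨y', hy'⟩ := exists_cev (cFam c) M.presheaf (n := n) y
  refine ⟨y', cev_ext _ _ fun i => ?_⟩
  refine (cev_d (cFam c) M.presheaf n i y').trans ?_
  refine Eq.trans ?_ ((cdiff_apply c M n y i).symm.trans (congrFun hy i))
  exact Finset.sum_congr rfl fun k _ => congrArg _ (congrArg _ (hy' _))

end Groth.Agent.AlgSpQC10
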