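import Groth.Agent.AlgSpQC10.MVAbs
import Groth.Agent.AlgSpMor.Glue
import Groth.Agent.AlgSpDec.EtSite
import Groth.Agent.QCart.EtBasis
import Groth.Prelude.Def_W4SpPerfMV

/-!
# Elementary distinguished squares on the small etale site
-/

universe u

set_option autoImplicit false
set_option linter.style.haveILetI false
set_option backward.isDefEq.respectTransparency false
set_option backward.isDefEq.respectTransparency.types false

open CategoryTheory CategoryTheory.Limits AlgebraicGeometry Opposite AlgSp Groth.Agent.AlgSpMor Groth.Agent.AlgSpLib Groth.Agent.AlgSpPts Groth.Agent.QCart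

namespace Groth.Agent.AlgSpQC10

variable {S : Scheme.{u}} {X : Sp S}

theorem mem_etTop_of_range {E : EtOver X} (T : Sieve E)
    (h : ∀ z : ↥E.obj.left.left, ∃ (Y : EtOver X) (g : Y ⟶ E), z ∈ Set.range g.hom.left.left ∧ T g) :
    T ∈ etTop X E := by
  choose Y g hz hT using h
  refine (etTop X).superset_covering ?_ (ofArrows_mem_etTop Y g fun z => ⟨z, hz z⟩)
  rw [Sieve.generate_le_iff, Presieve.ofArrows_le_iff]
  exact hT

theorem mem_range_etOpenι {E : EtOver X} {O : E.obj.left.left.Opens} {z : ↥E.obj.left.left} (hz : z ∈ O) :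
    z ∈ Set.range (AlgSpDec.etOpenι E O).hom.left.left := by
  rw [AlgSpDec.range_etOpenι]; exact hz

variable {U : Sp S} {j : U ⟶ X}

/-- Near a point mapping into an open subspace there is a lift to it. -/
theorem exists_open_lift (hj : RepWith @IsOpenImmersion j) (E : EtOver X) {z : ↥E.obj.left.left}
    (hz : Points.ofPt E.obj.hom z ∈ Set.range (Points.map j)) :
    ∃ (O : E.obj.left.left.Opens) (k : (yon S).obj (AlgSpDec.etOpen E O).obj.left ⟶ U),
      z ∈ O ∧ k ≫ j = (AlgSpDec.etOpen E O).obj.hom := by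
  haveI : IsOpenImmersion (hj.rep.snd E.obj.hom).left := hj.property_snd E.obj.hom
  obtain ⟨x, hx⟩ := hz
  obtain ⟨o, -, ho⟩ := exists_lift (hj.rep.isPullback E.obj.hom) hx
  obtain ⟨k, hk⟩ := AlgSpDec.exists_factor_openImm (hj.rep.snd E.obj.hom)
    (opι (hj.rep.snd E.obj.hom).left.opensRange) fun x => x.2
  refine ⟨(hj.rep.snd E.obj.hom).left.opensRange, (yon S).map k ≫ hj.rep.fst E.obj.hom, ⟨o, ho⟩, ?_⟩
  rw [Category.assoc, hj.rep.w, ← Category.assoc, ← Functor.map_comp, hk]
  rfl

/-- Near a point outside the open subspace two lifts to the etale leg agree. -/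
theorem exists_open_eq (hX : IsAlgSpace X) {V : Sp S} (hV : IsAlgSpace V) {f : V ⟶ X} (h : IsElemDistSq j f)
    {T : Over S} (b b' : (yon S).obj T ⟶ V) (hb : b ≫ f = b' ≫ f) (t : ↥T.left)
    (ht : Points.ofPt (b ≫ f) t ∉ Set.range (Points.map j)) :
    ∃ O : T.left.Opens, t ∈ O ∧ (yon S).map (opι O) ≫ b = (yon S).map (opι O) ≫ b' := by
  obtain ⟨hj, hf, C, P₀, i, p₁, p₂, ⟨hi, hr, -⟩, sq, _⟩ := h
  have hΔ := repWith_openImm_diagonal_of_isEtaleMor hV hX hf
  let m := b ≫ f
  let l : (yon S).obj T ⟶ pullback f f := pullback.lift b b' hb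
  haveI : IsOpenImmersion (hΔ.rep.snd l).left := hΔ.property_snd l
  let K : Over S := Over.mk (T.left.fromSpecResidueField t ≫ T.hom)
  let x : K ⟶ T := Over.homMk (T.left.fromSpecResidueField t) rfl
  have hx : ∀ k : ↥K.left, x.left k = t := fun k => T.left.fromSpecResidueField_apply t k
  haveI : IsReduced K.left := inferInstanceAs (IsReduced (Spec (T.left.residueField t)))
  obtain ⟨τ, hτ⟩ := AlgSpDec.exists_factor_reduced isReducedSp_yon ((yon S).map x ≫ m) hi (by
    rintro _ ⟨k, rfl⟩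
    rw [hr, ← Points.ofScheme_toScheme K k, Points.map_ofPt, Category.id_comp, ofPt_comp, hx]
    exact ht)
  have hbb : (yon S).map x ≫ b = (yon S).map x ≫ b' := by
    have hz : sq.lift τ ((yon S).map x ≫ b) (by rw [hτ, Category.assoc]) =
        sq.lift τ ((yon S).map x ≫ b') (by rw [hτ, Category.assoc, ← hb]) := by
      rw [← cancel_mono p₁, sq.lift_fst, sq.lift_fst]
    rw [← sq.lift_snd τ ((yon S).map x ≫ b) (by rw [hτ, Category.assoc]),
      ← sq.lift_snd τ ((yon S).map x ≫ b') (by rw [hτ, Category.assoc, ← hb])]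
    exact congrArg (· ≫ p₂) hz
  refine ⟨(hΔ.rep.snd l).left.opensRange, ?_, ?_⟩
  · have hl : ((yon S).map x ≫ b) ≫ pullback.diagonal f = (yon S).map x ≫ l := by
      apply pullback.hom_ext
      · simp [l]
      · simp [l, hbb]
    obtain ⟨o, ho⟩ := (yon S).map_surjective ((hΔ.rep.isPullback l).lift _ _ hl)
    let k₀ : ↥K.left := (IsLocalRing.closedPoint (T.left.residueField t) :)
    refine ⟨o.left k₀, ?_⟩
    have h3 : o ≫ hΔ.rep.snd l = x := (yon S).map_injective (by
      rw [Functor.map_comp, ho, IsPullback.lift_snd])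
    rw [← Scheme.Hom.comp_apply, ← Over.comp_left, h3]
    exact hx k₀
  obtain ⟨k, hk⟩ := AlgSpDec.exists_factor_openImm (hΔ.rep.snd l)
    (opι (hΔ.rep.snd l).left.opensRange) fun x => x.2
  rw [← hk, Functor.map_comp, Category.assoc, Category.assoc]
  congr 1
  have h1 := hΔ.rep.w l
  have e1 : hΔ.rep.fst l = (yon S).map (hΔ.rep.snd l) ≫ b := by
    simpa [l, pullback.lift_fst] using h1 =≫ pullback.fst f f
  have e2 : hΔ.rep.fst l = (yon S).map (hΔ.rep.snd l) ≫ b' := by
    simpa [l, pullback.lift_snd] using h1 =≫ pullback.snd f f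
  rw [← e1, ← e2]

/-- A lift of a structure map is a morphism of the site. -/
theorem nonempty_hom_of_lift {E U : EtOver X} (k : (yon S).obj E.obj.left ⟶ (yon S).obj U.obj.left)
    (hk : k ≫ U.obj.hom = E.obj.hom) : Nonempty (E ⟶ U) :=
  ⟨EtOver.homMk ((yon S).preimage k) (by rw [Functor.map_preimage, hk])⟩

/-- An elementary distinguished square gives a covering pair of the small etale site. -/
theorem pair_of_isElemDistSq (hX : IsAlgSpace X) (U V : EtOver X) (hsq : IsElemDistSq U.obj.hom V.obj.hom) :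
    MV.Pair (etTop X) U V where
  subterminal T a b := by
    haveI := mono_of_repWith (repWith_mono
      (fun _ _ e (_ : IsOpenImmersion e) => (inferInstance : Mono e)) _ hsq.1)
    exact EtOver.hom_ext _ _ ((yon S).map_injective ((cancel_mono U.obj.hom).1 ((EtOver.w a).trans (EtOver.w b).symm)))
  cover W := mem_etTop_of_range _ fun z => by
    rcases exists_point_of_isElemDistSq hsq (Points.ofPt W.obj.hom z) with hz | ⟨v, hv⟩
    · obtain ⟨O, k, hzO, hk⟩ := exists_open_lift hsq.1 W hz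
      exact ⟨_, AlgSpDec.etOpenι _ O, mem_range_etOpenι hzO, Sieve.le_generate _ _ _ (.inl (nonempty_hom_of_lift k hk))⟩
    · obtain ⟨o, -, ho⟩ := exists_lift (V.property.1.isPullback W.obj.hom) hv
      exact ⟨_, EtOver.prodFst W V, ⟨o, ho⟩, Sieve.le_generate _ _ _ (.inr ⟨EtOver.prodSnd W V⟩)⟩
  dich T b b' := mem_etTop_of_range _ fun z => by
    have hb : (yon S).map b.hom.left ≫ V.obj.hom = (yon S).map b'.hom.left ≫ V.obj.hom :=
      (EtOver.w b).trans (EtOver.w b').symm
    by_cases hz : Points.ofPt T.obj.hom z ∈ Set.range (Points.map U.obj.hom)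
    · obtain ⟨O, k, hzO, hk⟩ := exists_open_lift hsq.1 T hz
      exact ⟨_, AlgSpDec.etOpenι _ O, mem_range_etOpenι hzO, Sieve.le_generate _ _ _ (.inl (nonempty_hom_of_lift k hk))⟩
    · obtain ⟨O, hzO, he⟩ := exists_open_eq hX (IsAlgSpace.yon_obj _) hsq _ _ hb z (by rwa [EtOver.w b])
      exact ⟨_, AlgSpDec.etOpenι _ O, mem_range_etOpenι hzO, Sieve.le_generate _ _ _ (.inr (EtOver.hom_ext _ _ ((yon S).map_injective he)))⟩

theorem unit_app_apply (U : EtOver X) (F : ModEt X) {W : EtOver X} (s : (psh (R := OEt X) F).obj (op W)) :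
    (phom (R := OEt X) ((resPushAdjEt U).unit.app F)).app (op W) s = sres (psh (R := OEt X) F) (prod.snd : U ⨯ W ⟶ W) s :=
  rfl

theorem pushRes_app_apply {U U' : EtOver X} (g : U' ⟶ U) (F : ModEt X) {W : EtOver X}
    (a : (psh (R := OEt X) F).obj (op (U ⨯ W))) :
    (phom (R := OEt X) ((pushResNatTrans g).app F)).app (op W) a = sres (psh (R := OEt X) F) (prod.map g (𝟙 W)) a :=
  rfl

theorem pushRes_sres (P : EtOver X) (F : ModEt X) {W T : EtOver X} (g : T ⟶ W)
    (t : (psh (R := OEt X) F).obj (op (P ⨯ W))) :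
    (sres (psh (R := OEt X) ((resModEt P ⋙ pushOnModEt P).obj F)) g t : (psh (R := OEt X) F).obj (op (P ⨯ T))) =
      sres (psh (R := OEt X) F) (prod.map (𝟙 P) g) t :=
  rfl

set_option maxHeartbeats 1600000 in
/-- The Mayer-Vietoris sequence of direct images. -/
theorem mv_pushforward (hX : IsAlgSpace X) (U V : EtOver X) (hsq : IsElemDistSq U.obj.hom V.obj.hom) (F : ModEt X) :
    ∃ h : biprod.lift ((resPushAdjEt U).unit.app F) ((resPushAdjEt V).unit.app F) ≫
        biprod.desc ((pushResNatTrans (EtOver.prodFst U V)).app F)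
          (-((pushResNatTrans (EtOver.prodSnd U V)).app F)) = 0,
      (ShortComplex.mk _ _ h).ShortExact := by
  have hp := pair_of_isElemDistSq hX U V hsq
  let P := EtOver.prodObj U V
  let p₁ : P ⟶ U := EtOver.prodFst U V
  let p₂ : P ⟶ V := EtOver.prodSnd U V
  have hP : ∀ (T : EtOver X) (a : T ⟶ U) (b : T ⟶ V), ∃ c : T ⟶ P, c ≫ p₁ = a ∧ c ≫ p₂ = b := fun T a b =>
    ⟨_, ((BinaryFan.IsLimit.lift' (EtOver.prodIsLimit U V) a b).2)⟩
  have hP' : ∀ (T : EtOver X) (c c' : T ⟶ P), c ≫ p₂ = c' ≫ p₂ → c = c' := fun T c c' e =>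
    BinaryFan.IsLimit.hom_ext (EtOver.prodIsLimit U V) (hp.subterminal T _ _) e
  exact MV.shortExact_mv (R := OEt X) (M := F) hp p₁ p₂ hP hP' _ _ _ _ (fun W => Equiv.refl _)
    (fun W => Equiv.refl _) (fun W => AddEquiv.refl _) (fun W s => unit_app_apply U F s)
    (fun W s => unit_app_apply V F s) (fun W a => pushRes_app_apply p₁ F a) (fun W b => pushRes_app_apply p₂ F b)
    (fun W T g t => pushRes_sres P F g t)

end Groth.Agent.AlgSpQC10
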