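import Groth.Agent.QCart.EtBasis
import Groth.Agent.AlgSpLib.CartierAvoid
import Groth.Agent.AlgSpLib.Points
import Groth.Agent.Triage.WeakAssFin
import Groth.Prelude.Def_AlgSpModX

/-!
# Weakly associated points of quasi-coherent modules on the small etale site
-/

universe u

set_option autoImplicit false
set_option linter.style.haveILetI false
set_option backward.isDefEq.respectTransparency false
set_option backward.isDefEq.respectTransparency.types false

open CategoryTheory CategoryTheory.Limits AlgebraicGeometry Opposite TensorProduct AlgSp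

namespace Groth.Agent.AlgSpQC10

variable {S : Scheme.{u}} {X : Sp S}

/-- The functions on an object of the small etale site. -/
noncomputable abbrev A (E : EtOver X) : CommRingCat.{u + 1} := (OEt X).obj.obj (op E)

/-- The sections of a module over an object of the small etale site. -/
abbrev Msec (M : ModEt X) (E : EtOver X) : Type (u + 1) := (QCart.psh (R := OEt X) M).obj (op E)

/-- The prime of functions vanishing at a point. -/
noncomputable def pt (E : EtOver X) (w : E.obj.left.left) : Ideal (A E) :=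
  (primeAtPt E.obj.left.left w).comap ULift.ringEquiv.{u, u + 1}.toRingHom

instance (E : EtOver X) (w : E.obj.left.left) : (pt E w).IsPrime := Ideal.IsPrime.comap _

theorem exists_pt_eq (E : EtOver X) [IsAffine E.obj.left.left] (P : Ideal (A E)) [P.IsPrime] :
    ∃ w, pt E w = P := by
  let e := ULift.ringEquiv.{u, u + 1} (R := Γ(E.obj.left.left, ⊤))
  haveI : (P.comap e.symm.toRingHom).IsPrime := Ideal.IsPrime.comap _
  obtain ⟨w, hw⟩ := AlgSpLib.Cartier.exists_primeAtPt_eq (P.comap e.symm.toRingHom)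
  refine ⟨w, ?_⟩
  ext a
  show e a ∈ primeAtPt _ w ↔ a ∈ P
  rw [hw, Ideal.mem_comap]
  show e.symm (e a) ∈ P ↔ _
  rw [e.symm_apply_apply]

theorem comap_annEl {M : ModEt X} {E : EtOver X} (s : sectModEt M E) :
    (annSect s).comap ULift.ringEquiv.{u, u + 1}.toRingHom = WeakAss.annEl (A E) (s : Msec M E) := by
  ext a
  show ULift.ringEquiv a ∈ annSect s ↔ _
  refine ((mem_annSect_iff s _).trans ?_).trans WeakAss.mem_annEl.symm
  exact Iff.rfl

theorem isWeakAssOn_iff (M : ModEt X) (E : EtOver X) [IsAffine E.obj.left.left] (w : E.obj.left.left) :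
    IsWeakAssOn M E w ↔ pt E w ∈ FlatCA.weakAss (A E) (Msec M E) := by
  let e := ULift.ringEquiv.{u, u + 1} (R := Γ(E.obj.left.left, ⊤))
  constructor
  · rintro ⟨s, hs⟩
    refine WeakAss.mem_weakAss_iff.2 ⟨s, ?_⟩
    rw [← comap_annEl]
    exact Ideal.minimalPrimes_comap_of_surjective e.surjective hs
  · rintro ⟨s, hs⟩
    refine ⟨s, ?_⟩
    have h' : pt E w ∈ (WeakAss.annEl (A E) (s : Msec M E)).minimalPrimes := hs
    rw [← comap_annEl] at h'
    obtain ⟨q, hq, hqe⟩ := Ideal.exists_minimalPrimes_comap_eq e.toRingHom _ h'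
    have : q = primeAtPt _ w := Ideal.comap_injective_of_surjective _ e.surjective hqe
    rwa [← this]

theorem comap_primeAtPt {U V : Scheme.{u}} (f : U ⟶ V) (w : U) :
    (primeAtPt U w).comap f.appTop.hom = primeAtPt V (f w) := by
  ext a
  show U.presheaf.germ ⊤ w trivial (f.appTop a) ∈ IsLocalRing.maximalIdeal _ ↔
    V.presheaf.germ ⊤ (f w) trivial a ∈ IsLocalRing.maximalIdeal _
  exact (Iff.of_eq (congrArg (fun z => z ∈ IsLocalRing.maximalIdeal (U.presheaf.stalk w))
    (Scheme.Hom.germ_stalkMap_apply f ⊤ w trivial a).symm)).trans (map_mem_nonunits_iff (f.stalkMap w).hom _)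

theorem comap_pt {E E' : EtOver X} (g : E' ⟶ E) (w : E'.obj.left.left) :
    (pt E' w).comap ((OEt X).obj.map g.op).hom = pt E (g.hom.left.left w) := by
  ext a
  show g.hom.left.left.appTop a.down ∈ primeAtPt _ w ↔ a.down ∈ primeAtPt _ _
  rw [← Ideal.mem_comap, comap_primeAtPt]
  exact Iff.rfl

theorem etale_comp {R : Type*} {T : Type*} {U : Type*} [CommRing R] [CommRing T] [CommRing U] {f : R →+* T} {g : T →+* U}
    (hf : f.Etale) (hg : g.Etale) : (g.comp f).Etale := by
  algebraize [f, g, g.comp f]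
  exact Algebra.Etale.comp R T U

theorem algebraMap_etale {E E' : EtOver X} (g : E' ⟶ E) [IsAffine E.obj.left.left] [IsAffine E'.obj.left.left] :
    Algebra.Etale (A E) (QCart.Rg (OEt X).obj g) := by
  haveI : Etale g.hom.left.left := EtOver.etale_left g
  have h : g.hom.left.left.appTop.hom.Etale :=
    HasRingHomProperty.appTop (P := @Etale) g.hom.left.left inferInstance
  have h1 := (RingHom.Etale.of_bijective
    (f := (ULift.ringEquiv.{u, u + 1} (R := Γ(E.obj.left.left, ⊤))).toRingHom) ULift.ringEquiv.bijective)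
  have h2 := (RingHom.Etale.of_bijective
    (f := (ULift.ringEquiv.{u, u + 1} (R := Γ(E'.obj.left.left, ⊤))).symm.toRingHom) ULift.ringEquiv.symm.bijective)
  have h3 := etale_comp (etale_comp h1 h) h2
  exact (RingHom.etale_algebraMap (R := A E) (S := QCart.Rg (OEt X).obj g)).1 h3

theorem isCart (M : ModEt X) [M.IsQuasicoherent] : (QCart.etBasis X).IsCart (QCart.psh (R := OEt X) M) :=
  (QCart.isQuasicoherent_iff X M).1 inferInstance

/-- Being weakly associated does not change along a morphism of affine objects. -/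
theorem isWeakAssOn_map_iff (M : ModEt X) [M.IsQuasicoherent] {E E' : EtOver X} [hE : IsAffine E.obj.left.left]
    [hE' : IsAffine E'.obj.left.left] (g : E' ⟶ E) (w : E'.obj.left.left) :
    IsWeakAssOn M E' w ↔ IsWeakAssOn M E (g.hom.left.left w) := by
  rw [isWeakAssOn_iff, isWeakAssOn_iff]
  let B := QCart.Rg (OEt X).obj g
  let P := QCart.psh (R := OEt X) M
  haveI : Algebra.Etale (A E) B := algebraMap_etale g
  haveI : Module.Flat (A E) B := QCart.algebraMap_flat X hE hE' g
  let t : Ideal B := pt E' w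
  haveI : t.IsPrime := (inferInstance : (pt E' w).IsPrime)
  haveI : t.LiesOver (pt E (g.hom.left.left w)) := ⟨(comap_pt g w).symm⟩
  let e : B ⊗[A E] Msec M E ≃ₗ[B] QCart.Sec P g :=
    LinearEquiv.ofBijective (QCart.bcMap g P) (isCart M hE hE' g)
  have key : t ∈ FlatCA.weakAss B (B ⊗[A E] Msec M E) ↔ pt E' w ∈ FlatCA.weakAss (A E') (Msec M E') :=
    ⟨fun h => WeakAss.weakAss_subset_of_injective e.toLinearMap e.injective h,
      fun h => WeakAss.weakAss_subset_of_injective e.symm.toLinearMap e.symm.injective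
        (show t ∈ FlatCA.weakAss B (QCart.Sec P g) from h)⟩
  rw [← key]
  exact ⟨fun h => Triage.WeakAssFin.mem_weakAss_of_etale (B := B) (Msec M E) t h,
    fun h => Triage.WeakAssFin.mem_weakAss_of_flat (Msec M E) t h⟩

/-- Two points of objects of the site over the same point come from a point of an affine object over both. -/
theorem exists_affine_over (E₁ E₂ : EtOver X) (w₁ : E₁.obj.left.left) (w₂ : E₂.obj.left.left)
    (h : Points.ofPt E₁.obj.hom w₁ = Points.ofPt E₂.obj.hom w₂) :
    ∃ (W : EtOver X) (_ : IsAffine W.obj.left.left) (g₁ : W ⟶ E₁) (g₂ : W ⟶ E₂) (w : W.obj.left.left),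
      g₁.hom.left.left w = w₁ ∧ g₂.hom.left.left w = w₂ := by
  have sq := E₂.property.1.isPullback' E₁.obj.hom
  obtain ⟨z, hz₂, hz₁⟩ := AlgSpLib.exists_ofPt_of_eq sq h.symm
  obtain ⟨O, hO, hzO, -⟩ := exists_isAffineOpen_mem_and_subset
    (U := (⊤ : (EtOver.prodObj E₁ E₂).obj.left.left.Opens)) (x := z) trivial
  let P := EtOver.prodObj E₁ E₂
  exact ⟨AlgSpDec.etOpen P O, (hO : IsAffine O.toScheme), AlgSpDec.etOpenι P O ≫ EtOver.prodFst E₁ E₂,
    AlgSpDec.etOpenι P O ≫ EtOver.prodSnd E₁ E₂, (⟨z, hzO⟩ : O.toScheme), hz₁, hz₂⟩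

theorem mem_weakAssEt_iff (M : ModEt X) [M.IsQuasicoherent] {E : EtOver X} [IsAffine E.obj.left.left]
    (w : E.obj.left.left) : Points.ofPt E.obj.hom w ∈ WeakAssEt M ↔ IsWeakAssOn M E w := by
  refine ⟨fun ⟨E₀, hE₀, w₀, hw₀, h⟩ => ?_, fun h => ⟨E, ‹_›, w, rfl, h⟩⟩
  obtain ⟨W, hW, g₁, g₂, z, rfl, rfl⟩ := exists_affine_over E₀ E w₀ w hw₀
  rwa [← isWeakAssOn_map_iff M g₂, isWeakAssOn_map_iff M g₁]

/-- A nonzero section on an affine object is supported at a weakly associated point. -/
theorem exists_isWeakAssOn_of_ne_zero (M : ModEt X) {E : EtOver X} [IsAffine E.obj.left.left] {s : Msec M E}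
    (hs : s ≠ 0) : ∃ w, IsWeakAssOn M E w ∧ WeakAss.annEl (A E) s ≤ pt E w := by
  have hI : WeakAss.annEl (A E) s ≠ ⊤ := fun h => hs (by
    simpa using WeakAss.mem_annEl.1 (h ▸ Submodule.mem_top : (1 : A E) ∈ WeakAss.annEl (A E) s))
  obtain ⟨P, hP⟩ := Ideal.nonempty_minimalPrimes hI
  haveI := hP.1.1
  obtain ⟨w, rfl⟩ := exists_pt_eq E P
  exact ⟨w, (isWeakAssOn_iff M E w).2 ⟨s, hP⟩, hP.1.2⟩

theorem sections_eq_zero_of_affine (M : ModEt X) (h : ∀ (E : EtOver X) (_ : IsAffine E.obj.left.left) (s : Msec M E), s = 0)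
    (E : EtOver X) (s : Msec M E) : s = 0 := by
  refine QCart.sres_ext_of_mem (R := OEt X) M ((QCart.etBasis X).dense E) s 0 fun W f hf => ?_
  obtain ⟨W', p, q, hW', rfl⟩ := hf
  rw [← QCart.sres_sres, h W' hW' (QCart.sres _ q s), map_zero, map_zero]

theorem isZero_iff (M : ModEt X) [M.IsQuasicoherent] : IsZero M ↔ WeakAssEt M = ∅ := by
  constructor
  · intro h
    refine Set.eq_empty_iff_forall_notMem.2 fun x ⟨E, hE, w, _, s, hs⟩ => ?_
    have h0 : ∀ y : sectModEt M E, y = 0 := fun y =>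
      (congrArg (fun φ : M ⟶ M => φ.val.app (op E) y) (h.eq_of_src (𝟙 M) 0) :)
    exact hs.1.1.ne_top (top_le_iff.1 (le_trans (fun a _ => (mem_annSect_iff s a).2 (h0 _)) hs.1.2))
  · intro h
    rw [IsZero.iff_id_eq_zero]
    refine SheafOfModules.hom_ext (PresheafOfModules.hom_ext fun E => ?_)
    ext s
    refine sections_eq_zero_of_affine M (fun E' hE' s' => ?_) E.unop s
    by_contra hne
    obtain ⟨w, hw, -⟩ := exists_isWeakAssOn_of_ne_zero M hne
    have : Points.ofPt E'.obj.hom w ∈ WeakAssEt M := ⟨E', hE', w, rfl, hw⟩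
    rw [h] at this
    exact this

theorem weakAssEt_subset (C : ShortComplex (ModEt X)) (hC : C.ShortExact)
    [C.X₁.IsQuasicoherent] [C.X₂.IsQuasicoherent] [C.X₃.IsQuasicoherent] :
    WeakAssEt C.X₂ ⊆ WeakAssEt C.X₁ ∪ WeakAssEt C.X₃ ∧ WeakAssEt C.X₁ ⊆ WeakAssEt C.X₂ := by
  haveI := hC.mono_f
  have hinj : ∀ E, Function.Injective (QCart.appO (QCart.phom (R := OEt X) C.f) E) := fun E =>
    QCart.injective_app_of_mono (R := OEt X) C.f E
  have hex : ∀ E, Function.Exact (QCart.appO (QCart.phom (R := OEt X) C.f) E)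
      (QCart.appO (QCart.phom (R := OEt X) C.g) E) := fun E x =>
    ⟨fun hx => QCart.exists_app_eq_of_exact (R := OEt X) C hC.exact x hx,
      by rintro ⟨y, rfl⟩; exact QCart.app_g_f (R := OEt X) C y⟩
  constructor
  · rintro x ⟨E, hE, w, rfl, hw⟩
    rcases WeakAss.weakAss_subset_union_of_exact _ _ (hinj E) (hex E) ((isWeakAssOn_iff _ E w).1 hw) with h | h
    · exact Or.inl ⟨E, hE, w, rfl, (isWeakAssOn_iff _ E w).2 h⟩
    · exact Or.inr ⟨E, hE, w, rfl, (isWeakAssOn_iff _ E w).2 h⟩
  · rintro x ⟨E, hE, w, rfl, hw⟩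
    exact ⟨E, hE, w, rfl, (isWeakAssOn_iff _ E w).2
      (WeakAss.weakAss_subset_of_injective _ (hinj E) ((isWeakAssOn_iff _ E w).1 hw))⟩

theorem eval_injective (M : ModEt X) [M.IsQuasicoherent] (E : EtOver X)
    (hE : WeakAssEt M ⊆ Set.range (Points.ofPt E.obj.hom)) :
    Function.Injective (fun s : M.sections => PresheafOfModules.sections.eval s (op E)) := by
  intro s s' hss'
  let P := QCart.psh (R := OEt X) M
  have haff : ∀ (W : EtOver X) (_ : IsAffine W.obj.left.left),
      (s.val (op W) : Msec M W) = s'.val (op W) := by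
    intro W hW
    rw [← sub_eq_zero]
    by_contra hne
    obtain ⟨w, hw, hle⟩ := exists_isWeakAssOn_of_ne_zero M hne
    obtain ⟨v, hv⟩ := hE ⟨W, hW, w, rfl, hw⟩
    obtain ⟨W', hW', g₁, g₂, z, hz, -⟩ := exists_affine_over W E w v hv.symm
    haveI : Module.Flat (A W) (QCart.Rg (OEt X).obj g₁) := QCart.algebraMap_flat X hW hW' g₁
    let q : Ideal (QCart.Rg (OEt X).obj g₁) := pt W' z
    haveI : q.IsPrime := (inferInstance : (pt W' z).IsPrime)
    refine QCart.tmul_ne_zero_of_prime (A := A W) (N := Msec M W)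
      (x := ((s.val (op W) : Msec M W) - (s'.val (op W) : Msec M W) : Msec M W)) q ?_
      ((isCart M hW hW' g₁).1 ?_)
    · intro a ha
      show a ∈ (pt W' z).comap ((OEt X).obj.map g₁.op).hom
      rw [comap_pt, hz]
      exact hle (WeakAss.mem_annEl.2 ((LinearMap.toSpanSingleton_apply (A W) (Msec M W) _ a).symm.trans ha))
    · rw [map_zero, QCart.bcMap_tmul, one_smul]
      show QCart.sres P g₁ ((s.val (op W) : Msec M W) - s'.val (op W)) = 0
      rw [map_sub, sub_eq_zero]
      have key : ∀ r : M.sections, QCart.sres P g₁ (r.val (op W) : Msec M W) =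
          QCart.sres P g₂ (r.val (op E) : Msec M E) := fun r => by
        refine (r.property g₁.op).trans (r.property g₂.op).symm
      rw [key, key]
      exact congrArg (QCart.sres P g₂) hss'
  refine Subtype.ext (funext fun W => ?_)
  refine QCart.sres_ext_of_mem (R := OEt X) M ((QCart.etBasis X).dense W.unop) _ _ fun V f hf => ?_
  obtain ⟨W', p, q, hW', rfl⟩ := hf
  rw [← QCart.sres_sres, ← QCart.sres_sres]
  refine congrArg (QCart.sres P p) ?_
  exact (s.property q.op).trans ((haff W' hW').trans (s'.property q.op).symm)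

end Groth.Agent.AlgSpQC10
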