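import Groth.Agent.AlgSpQC10.Cartan
import Groth.Agent.AlgSpQC10.Weak
import Mathlib.CategoryTheory.Abelian.GrothendieckCategory.EnoughInjectives

/-!
# Quasi-coherent modules are acyclic on affine algebraic spaces
-/

universe u

set_option autoImplicit false
set_option linter.style.haveILetI false
set_option backward.isDefEq.respectTransparency false
set_option backward.isDefEq.respectTransparency.types false

open CategoryTheory CategoryTheory.Limits AlgebraicGeometry Opposite AlgSp

namespace Groth.Agent.AlgSpQC10

variable {S : Scheme.{u}} {X : Sp S}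

theorem isAff_of_iso {W W' : EtOver X} (e : W ≅ W') (h : (QCart.etBasis X).aff W') : (QCart.etBasis X).aff W :=
  haveI : IsAffine ((EtOver.toScheme X).obj W') := h
  IsAffine.of_isIso ((EtOver.toScheme X).mapIso e).hom

theorem isCechAcyclic_of_isQuasicoherent (M : ModEt X) [M.IsQuasicoherent] :
    IsCechAcyclic (QCart.etBasis X) ((toAbEt X).obj M) :=
  isCechAcyclic_of_isCart (fun e h => isAff_of_iso e h) _ (QCart.psh (R := OEt X) M) rfl (isCart M)

/-- The chart of a space isomorphic to a scheme. -/
noncomputable abbrev isoObj {T : Over S} (e : (yon S).obj T ≅ X) (he : RepWith @Etale e.hom) : EtOver X :=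
  EtOver.mk e.hom he

/-- The chart of a space isomorphic to a scheme is terminal in the small etale site. -/
noncomputable def isTerminalIsoObj {T : Over S} (e : (yon S).obj T ≅ X) (he : RepWith @Etale e.hom) :
    IsTerminal (isoObj e he) :=
  IsTerminal.ofUniqueHom
    (fun E => EtOver.homMk ((yon S).preimage (E.obj.hom ≫ e.inv)) (by
      rw [Functor.map_preimage, Category.assoc]
      exact (congrArg (E.obj.hom ≫ ·) e.inv_hom_id).trans (Category.comp_id _)))
    (fun E m => EtOver.hom_ext m _ ((yon S).map_injective (by
      rw [← cancel_mono e.hom]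
      exact (EtOver.w m).trans (by
        show E.obj.hom = (yon S).map ((yon S).preimage (E.obj.hom ≫ e.inv)) ≫ e.hom
        rw [Functor.map_preimage, Category.assoc, e.inv_hom_id, Category.comp_id]))))

/-- Quasi-coherent modules on an affine space are acyclic. -/
theorem subsingleton_HModEt {T : Over S} (hT : IsAffine T.left) (e : (yon S).obj T ≅ X)
    (he : RepWith @Etale e.hom) (M : ModEt X) [M.IsQuasicoherent] (n : ℕ) :
    Subsingleton (HModEt X M (n + 1)) :=
  subsingleton_H_of_isCechAcyclic (b := QCart.etBasis X) (isTerminalIsoObj e he) hT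
    (fun e' h => isAff_of_iso e' h) n _ (isCechAcyclic_of_isQuasicoherent M)

end Groth.Agent.AlgSpQC10
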