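import Groth.Agent.AlgSpQC10.MVFree
import Groth.Agent.AlgSpQC10.MVPair
import Groth.Agent.AlgSpQC10.Vanish
import Groth.Agent.AlgSpInd.Basic
import Groth.Agent.AlgSpPts.OpenSub
import Mathlib.GroupTheory.FreeAbelianGroup
import Mathlib.AlgebraicGeometry.Morphisms.Flat
import Mathlib.FieldTheory.IsAlgClosed.AlgebraicClosure

/-!
# Bound of the cohomological dimension of a quasi-compact quasi-separated space
-/

universe u

set_option autoImplicit false
set_option linter.style.haveILetI false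
set_option linter.unusedSectionVars false
set_option backward.isDefEq.respectTransparency false
set_option backward.isDefEq.respectTransparency.types false

open CategoryTheory CategoryTheory.Limits AlgebraicGeometry Opposite Abelian AlgSp Groth.Agent.AlgSpLib
  Groth.Agent.AlgSpPts

namespace Groth.Agent.AlgSpQC10.CohDim

open Groth.Agent.AlgSpMor
open MVFree

variable {S : Scheme.{u}} {X : Sp S}

/-- The presheaf represented by an object of the small etale site. -/
abbrev hV (V : EtOver X) : (EtOver X)ᵒᵖ ⥤ Type (u + 1) := uliftYoneda.{u + 1}.obj V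

variable (X) in
/-- The final presheaf. -/
abbrev termP : (EtOver X)ᵒᵖ ⥤ Type (u + 1) := (Functor.const _).obj PUnit.{u + 2}

theorem ofPt_hom_apply {T V : EtOver X} (b : T ⟶ V) (z : ↥T.obj.left.left) :
    Points.ofPt T.obj.hom z = Points.ofPt V.obj.hom (b.hom.left.left z) := by
  rw [← EtOver.w b]
  exact AlgSpLib.ofPt_comp b.hom.left V.obj.hom z

theorem range_comp_left {T' T V : EtOver X} (g : T' ⟶ T) (b : T ⟶ V) :
    Set.range (g ≫ b).hom.left.left ⊆ Set.range b.hom.left.left := by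
  rintro _ ⟨z, rfl⟩
  exact ⟨g.hom.left.left z, rfl⟩

/-- The subpresheaf of the final presheaf of an open set of points. -/
def inSet (O : Set (Points X)) : Subfunctor (termP X) where
  obj T := {_x | Set.range (Points.ofPt T.unop.obj.hom) ⊆ O}
  map {T T'} g := by
    intro x hx
    rintro _ ⟨z, rfl⟩
    rw [ofPt_hom_apply g.unop z]
    exact hx ⟨_, rfl⟩

/-- The subpresheaf of a representable presheaf of a set of points. -/
def hSub (V : EtOver X) (A : Set ↥V.obj.left.left) : Subfunctor (hV V) where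
  obj T := {b | Set.range b.down.hom.left.left ⊆ A}
  map {T T'} g := fun b hb => (range_comp_left g.unop b.down).trans hb

theorem mem_inSet {O : Set (Points X)} {T : EtOver X} (x : (termP X).obj (op T)) :
    x ∈ (inSet O).obj (op T) ↔ Set.range (Points.ofPt T.obj.hom) ⊆ O := Iff.rfl

theorem mem_hSub {V : EtOver X} {A : Set ↥V.obj.left.left} {T : EtOver X} (b : (hV V).obj (op T)) :
    b ∈ (hSub V A).obj (op T) ↔ Set.range b.down.hom.left.left ⊆ A := Iff.rfl

variable (X) in
/-- The free abelian sheaf on a presheaf of sets. -/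
noncomputable abbrev FS : ((EtOver X)ᵒᵖ ⥤ Type (u + 1)) ⥤ AbEt X :=
  MVFree.freeSh.{u + 1} (etTop X)

variable (X) in
/-- Its adjunction. -/
noncomputable def fsAdj : FS X ⊣ sheafToPresheaf (etTop X) AddCommGrpCat.{u + 1} ⋙
    (Functor.whiskeringRight _ _ _).obj (CategoryTheory.forget AddCommGrpCat.{u + 1}) :=
  MVFree.freeShAdj.{u + 1} (etTop X)

/-! ### Presheaves with no sections over nonempty objects -/

theorem bot_mem_of_isEmpty (T : EtOver X) [IsEmpty ↥T.obj.left.left] : (⊥ : Sieve T) ∈ etTop X T :=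
  mem_etTop_of_range _ fun z => isEmptyElim z

theorem subsingleton_sections_of_isEmpty (T : EtOver X) [IsEmpty ↥T.obj.left.left] (G : AbEt X) :
    Subsingleton (G.obj.obj (op T)) :=
  ⟨fun s t => ((isSheaf_forget G) ⊥ (bot_mem_of_isEmpty T)).isSeparatedFor.ext fun _ _ h => h.elim⟩

theorem isZero_freeSh (P : (EtOver X)ᵒᵖ ⥤ Type (u + 1))
    (h : ∀ T : EtOver X, Nonempty (P.obj (op T)) → IsEmpty ↥T.obj.left.left) :
    IsZero ((FS X).obj P) := by
  rw [IsZero.iff_id_eq_zero]
  apply ((fsAdj X).homEquiv _ _).injective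
  ext T x
  haveI := h T.unop ⟨x⟩
  haveI := subsingleton_sections_of_isEmpty T.unop ((FS X).obj P)
  exact @Subsingleton.elim ((((FS X).obj P)).obj.obj (op T.unop)) inferInstance _ _

/-- The cohomology of the Čech acyclic sheaves on a presheaf vanishes from some degree on. -/
def Van (d : ℕ) (P : (EtOver X)ᵒᵖ ⥤ Type (u + 1)) : Prop :=
  ∀ (G : AbEt X), IsCechAcyclic (QCart.etBasis X) G → ∀ q, d ≤ q →
    Subsingleton (Ext ((FS X).obj P) G q)

theorem subsingleton_ext_of_iso {A B : AbEt X} (e : A ≅ B) {G : AbEt X} {q : ℕ}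
    (h : Subsingleton (Ext A G q)) : Subsingleton (Ext B G q) :=
  subsingleton_of_forall_eq 0 fun x => by
    rw [← Ext.mk₀_id_comp x, ← e.inv_hom_id, ← Ext.mk₀_comp_mk₀, Ext.comp_assoc_of_second_deg_zero,
      @Subsingleton.elim _ h ((Ext.mk₀ e.hom).comp x (zero_add q)) 0, Ext.comp_zero]

theorem van_of_iso {P P' : (EtOver X)ᵒᵖ ⥤ Type (u + 1)} (e : P ≅ P') {d : ℕ} (h : Van d P) : Van d P' :=
  fun G hG q hq => subsingleton_ext_of_iso ((FS X).mapIso e) (h G hG q hq)

theorem van_mono {P : (EtOver X)ᵒᵖ ⥤ Type (u + 1)} {d d' : ℕ} (hdd : d ≤ d') (h : Van d P) : Van d' P :=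
  fun G hG q hq => h G hG q (hdd.trans hq)

theorem van_zero (P : (EtOver X)ᵒᵖ ⥤ Type (u + 1))
    (h : ∀ T : EtOver X, Nonempty (P.obj (op T)) → IsEmpty ↥T.obj.left.left) : Van 0 P :=
  fun G _ q _ => subsingleton_of_forall_eq 0 fun x => by
    rw [← Ext.mk₀_id_comp x, (isZero_freeSh P h).eq_of_src (𝟙 _) 0, Ext.mk₀_zero, Ext.zero_comp]

/-! ### Affine objects -/

/-- Morphisms from a free sheaf on an object are sections. -/
noncomputable def secEquiv (E : EtOver X) (G : AbEt X) :
    ((FS X).obj (hV E) ⟶ G) ≃ G.obj.obj (op E) :=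
  ((fsAdj X).homEquiv _ _).trans uliftYonedaEquiv

theorem secEquiv_comp (E : EtOver X) {G G' : AbEt X} (φ : (FS X).obj (hV E) ⟶ G) (g : G ⟶ G') :
    secEquiv E G' (φ ≫ g) = g.hom.app (op E) (secEquiv E G φ) := by
  simp only [secEquiv, Equiv.trans_apply, Adjunction.homEquiv_naturality_right, uliftYonedaEquiv_comp]
  rfl

theorem van_hV (E : EtOver X) (hE : QCart.IsAff X E) : Van 1 (hV E) := by
  suffices ∀ (n : ℕ) (G : AbEt X), IsCechAcyclic (QCart.etBasis X) G →
      Subsingleton (Ext ((FS X).obj (hV E)) G (n + 1)) by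
    intro G hG q hq
    obtain ⟨n, rfl⟩ := Nat.exists_eq_succ_of_ne_zero (by omega : q ≠ 0)
    exact this n G hG
  intro n
  induction n with
  | zero =>
    intro G hG
    let S := ShortComplex.mk (Injective.ι G) (cokernel.π _) (cokernel.condition (Injective.ι G))
    have hS : S.ShortExact := { exact := ShortComplex.exact_of_g_is_cokernel _ (cokernelIsCokernel _) }
    refine subsingleton_of_forall_eq 0 fun x => ?_
    obtain ⟨z, rfl⟩ := Ext.covariant_sequence_exact₁ _ hS x
      (haveI : Injective S.X₂ := inferInstanceAs (Injective (Injective.under G)); Ext.eq_zero_of_injective _)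
      (rfl : 0 + 1 = 1)
    obtain ⟨φ, rfl⟩ := (Ext.mk₀_bijective _ _).2 z
    obtain ⟨a, ha⟩ := sections_surjective S hS hG hE (secEquiv E _ φ)
    have hφ : (secEquiv E _).symm a ≫ S.g = φ := by
      apply (secEquiv E _).injective
      rw [secEquiv_comp, Equiv.apply_symm_apply]
      exact ha
    rw [← hφ, ← Ext.mk₀_comp_mk₀, Ext.comp_assoc_of_second_deg_zero, hS.comp_extClass, Ext.comp_zero]
  | succ n ih =>
    intro G hG
    let S := ShortComplex.mk (Injective.ι G) (cokernel.π _) (cokernel.condition (Injective.ι G))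
    have hS : S.ShortExact := { exact := ShortComplex.exact_of_g_is_cokernel _ (cokernelIsCokernel _) }
    haveI hI : Injective S.X₂ := inferInstanceAs (Injective (Injective.under G))
    refine subsingleton_of_forall_eq 0 fun x => ?_
    obtain ⟨z, rfl⟩ := Ext.covariant_sequence_exact₁ _ hS x (Ext.eq_zero_of_injective _) (rfl : (n + 1) + 1 = _)
    haveI := ih S.X₃ (isCechAcyclic_X₃ S hS (fun e h => isAff_of_iso e h) hG
      (isCechAcyclic_of_injective S.X₂))
    rw [Subsingleton.elim z 0, Ext.zero_comp]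

/-! ### Coverings -/

/-- Coverings tested at points. -/
theorem covers_of_local {P H : (EtOver X)ᵒᵖ ⥤ Type (u + 1)} (A : Subfunctor P) (v : H ⟶ P)
    (h₁ : ∀ (E : EtOver X) (s : P.obj (op E)) (z : ↥E.obj.left.left), ∃ (Y : EtOver X) (g : Y ⟶ E),
      z ∈ Set.range g.hom.left.left ∧ (P.map g.op s ∈ A.obj (op Y) ∨ ∃ b, v.app (op Y) b = P.map g.op s))
    (h₂ : ∀ (T : EtOver X) (b b' : H.obj (op T)), v.app (op T) b = v.app (op T) b' → ∀ z : ↥T.obj.left.left,
      ∃ (Y : EtOver X) (g : Y ⟶ T), z ∈ Set.range g.hom.left.left ∧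
        (P.map g.op (v.app (op T) b) ∈ A.obj (op Y) ∨ H.map g.op b = H.map g.op b')) :
    Covers A v (etTop X) where
  cover E s := by
    refine ⟨Sieve.generate (fun Y (g : Y ⟶ E) => P.map g.op s ∈ A.obj (op Y) ∨ ∃ b, v.app (op Y) b = P.map g.op s),
      mem_etTop_of_range _ fun z => ?_, ?_⟩
    · obtain ⟨Y, g, hz, hg⟩ := h₁ E s z
      exact ⟨Y, g, hz, Sieve.le_generate _ _ _ hg⟩
    · rintro T _ ⟨Y, k, g, hg, rfl⟩
      rw [op_comp, Functor.map_comp_apply]
      rcases hg with hA | ⟨b, hb⟩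
      · exact .inl (A.map k.op hA)
      · exact .inr ⟨H.map k.op b, by rw [NatTrans.naturality_apply v k.op b, hb]⟩
  dich T b b' h := by
    refine ⟨Sieve.generate (fun Y (g : Y ⟶ T) => P.map g.op (v.app (op T) b) ∈ A.obj (op Y) ∨
      H.map g.op b = H.map g.op b'), mem_etTop_of_range _ fun z => ?_, ?_⟩
    · obtain ⟨Y, g, hz, hg⟩ := h₂ T b b' h z
      exact ⟨Y, g, hz, Sieve.le_generate _ _ _ hg⟩
    · rintro T' _ ⟨Y, k, g, hg, rfl⟩
      rw [op_comp, Functor.map_comp_apply, Functor.map_comp_apply, Functor.map_comp_apply]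
      rcases hg with hA | he
      · exact .inl (A.map k.op hA)
      · exact .inr (by rw [he])

/-- The Mayer-Vietoris step for the bounds. -/
theorem van_step {P H : (EtOver X)ᵒᵖ ⥤ Type (u + 1)} (A : Subfunctor P) (v : H ⟶ P)
    (hc : Covers A v (etTop X)) {d₁ d₂ d₃ d : ℕ} (h₁ : Van d₁ (A.preimage v).toFunctor)
    (h₂ : Van d₂ A.toFunctor) (h₃ : Van d₃ H) (hd₁ : d₁ + 1 ≤ d) (hd₂ : d₂ ≤ d) (hd₃ : d₃ ≤ d) : Van d P := by
  intro G hG q hq
  obtain ⟨n, rfl⟩ := Nat.exists_eq_succ_of_ne_zero (by omega : q ≠ 0)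
  exact MVFree.subsingleton_ext A v hc G n (h₁ G hG n (by omega)) (h₂ G hG _ (by omega)) (h₃ G hG _ (by omega))

/-- A subfunctor seen inside a larger one. -/
def subIso {P : (EtOver X)ᵒᵖ ⥤ Type (u + 1)} (A B : Subfunctor P) (h : A ≤ B) :
    A.toFunctor ≅ (A.preimage B.ι).toFunctor :=
  NatIso.ofComponents (fun T => Equiv.toIso
    { toFun := fun x => ⟨⟨x.1, h T x.2⟩, x.2⟩
      invFun := fun x => ⟨x.1.1, x.2⟩
      left_inv := fun _ => rfl
      right_inv := fun _ => rfl }) (fun _ => rfl)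

/-- A morphism landing in an open lifts to it. -/
theorem exists_lift_etOpen {T V : EtOver X} (b : T ⟶ V) (W : V.obj.left.left.Opens)
    (h : Set.range b.hom.left.left ⊆ W) :
    ∃ c : T ⟶ AlgSpDec.etOpen V W, c ≫ AlgSpDec.etOpenι V W = b := by
  obtain ⟨c, hc⟩ : ∃ c : T.obj.left ⟶ opOver W, c ≫ opι W = b.hom.left :=
    ⟨Over.homMk (IsOpenImmersion.lift W.ι b.hom.left.left (h.trans W.range_ι.symm.subset)) (by
        show _ ≫ W.ι ≫ V.obj.left.hom = _
        rw [← Category.assoc, IsOpenImmersion.lift_fac]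
        exact Over.w b.hom.left),
      Over.OverMorphism.ext (IsOpenImmersion.lift_fac _ _ _)⟩
  refine ⟨EtOver.homMk c ?_, EtOver.hom_ext _ _ hc⟩
  show (yon S).map c ≫ (yon S).map (opι W) ≫ V.obj.hom = _
  rw [← Category.assoc, ← Functor.map_comp, hc]
  exact EtOver.w b

theorem etOpenι_cancel {T V : EtOver X} (W : V.obj.left.left.Opens) (c c' : T ⟶ AlgSpDec.etOpen V W)
    (h : c ≫ AlgSpDec.etOpenι V W = c' ≫ AlgSpDec.etOpenι V W) : c = c' :=
  EtOver.hom_ext _ _ (Over.OverMorphism.ext ((cancel_mono W.ι).1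
    (congrArg (fun k : T ⟶ V => k.hom.left.left) h :)))

/-- Around a point sent into an open there is a neighbourhood sent into it. -/
theorem exists_open_into {E : EtOver X} {z : ↥E.obj.left.left} {M : Set ↥E.obj.left.left} (hM : IsOpen M)
    (hz : z ∈ M) :
    ∃ (Y : EtOver X) (g : Y ⟶ E), z ∈ Set.range g.hom.left.left ∧ Set.range g.hom.left.left ⊆ M :=
  ⟨_, AlgSpDec.etOpenι E ⟨M, hM⟩, mem_range_etOpenι hz, (AlgSpDec.range_etOpenι E ⟨M, hM⟩).subset⟩

/-! ### Finite unions of basic opens of an affine object -/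

theorem van_bset : ∀ (n : ℕ) (V : EtOver X), QCart.IsAff X V → ∀ g : Fin n → Γ(V.obj.left.left, ⊤),
    Van n (hSub V (⋃ i, (V.obj.left.left.basicOpen (g i) : Set ↥V.obj.left.left))).toFunctor := by
  intro n
  induction n with
  | zero =>
    intro V _ g
    refine van_zero _ fun T ⟨⟨b, hb⟩⟩ => ⟨fun z => ?_⟩
    simpa using hb ⟨z, rfl⟩
  | succ n ih =>
    intro V hV' g
    haveI : IsAffine V.obj.left.left := hV'
    let D := V.obj.left.left.basicOpen (g (Fin.last n))
    let A₀ : Set ↥V.obj.left.left := ⋃ i : Fin n, (V.obj.left.left.basicOpen (g i.castSucc) : Set ↥V.obj.left.left)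
    let B : Set ↥V.obj.left.left := ⋃ i, (V.obj.left.left.basicOpen (g i) : Set ↥V.obj.left.left)
    let Vg := AlgSpDec.etOpen V D
    have hVg : QCart.IsAff X Vg := (isAffineOpen_top V.obj.left.left).basicOpen _
    have hAB : A₀ ⊆ B := Set.iUnion_subset fun i => Set.subset_iUnion_of_subset i.castSucc subset_rfl
    have hDB : (D : Set ↥V.obj.left.left) ⊆ B := Set.subset_iUnion_of_subset (Fin.last n) subset_rfl
    let ι' : hV Vg ⟶ hV V := uliftYoneda.{u + 1}.map (AlgSpDec.etOpenι V D)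
    have hι' : Subfunctor.range ι' ≤ hSub V B := by
      rintro T _ ⟨c, rfl⟩
      exact ((range_comp_left _ _).trans (AlgSpDec.range_etOpenι V D).subset).trans hDB
    let v : hV Vg ⟶ (hSub V B).toFunctor := Subfunctor.lift ι' hι'
    let A : Subfunctor (hSub V B).toFunctor := (hSub V A₀).preimage (hSub V B).ι
    have hAle : hSub V A₀ ≤ hSub V B := fun T b hb => Set.Subset.trans hb hAB
    have hA₀ : IsOpen A₀ := isOpen_iUnion fun i => (V.obj.left.left.basicOpen (g i.castSucc)).2
    refine van_step A v (covers_of_local A v (fun E s z => ?_) (fun T c c' h z => ?_))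
      (?_ : Van n (A.preimage v).toFunctor) (van_of_iso (subIso _ _ hAle) (ih V hV' fun i => g i.castSucc))
      (van_hV Vg hVg) le_rfl (Nat.le_succ n) (Nat.succ_le_succ (Nat.zero_le n))
    · obtain ⟨i, hi⟩ := Set.mem_iUnion.1 (s.2 ⟨z, rfl⟩ : s.1.down.hom.left.left z ∈ B)
      by_cases hzD : s.1.down.hom.left.left z ∈ D
      · obtain ⟨Y, k, hzk, hk⟩ := exists_open_into (D.2.preimage s.1.down.hom.left.left.continuous) hzD
        obtain ⟨c, hc⟩ := exists_lift_etOpen (k ≫ s.1.down) D (by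
          rintro _ ⟨y, rfl⟩; exact hk ⟨y, rfl⟩)
        exact ⟨Y, k, hzk, .inr ⟨ULift.up c, Subtype.ext (ULift.ext _ _ hc)⟩⟩
      · have hzA : s.1.down.hom.left.left z ∈ A₀ := by
          cases i using Fin.lastCases with
          | last => exact absurd hi hzD
          | cast i => exact Set.mem_iUnion.2 ⟨i, hi⟩
        obtain ⟨Y, k, hzk, hk⟩ := exists_open_into (hA₀.preimage s.1.down.hom.left.left.continuous) hzA
        exact ⟨Y, k, hzk, .inl (show Set.range (k ≫ s.1.down).hom.left.left ⊆ A₀ by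
          rintro _ ⟨y, rfl⟩; exact hk ⟨y, rfl⟩)⟩
    · have := etOpenι_cancel D c.down c'.down (congrArg (fun t => (Subtype.val t).down) h)
      obtain ⟨Y, k, hzk, -⟩ := exists_open_into (E := T) isOpen_univ (Set.mem_univ z)
      exact ⟨Y, k, hzk, .inr (by rw [ULift.ext c c' this])⟩
    · have e : A.preimage v = hSub Vg
          (⋃ i : Fin n, (Vg.obj.left.left.basicOpen (D.ι.appTop (g i.castSucc)) : Set ↥Vg.obj.left.left)) := by
        refine Subfunctor.ext (funext fun T => Set.ext fun c => ?_)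
        show Set.range (c.down ≫ AlgSpDec.etOpenι V D).hom.left.left ⊆ A₀ ↔
          Set.range c.down.hom.left.left ⊆ _
        have hpre : (⋃ i : Fin n, (Vg.obj.left.left.basicOpen (D.ι.appTop (g i.castSucc)) : Set ↥Vg.obj.left.left)) =
            D.ι ⁻¹' A₀ :=
          Eq.trans (Set.iUnion_congr fun i => congrArg SetLike.coe (Scheme.preimage_basicOpen_top D.ι _).symm)
            (by simp only [A₀, Set.preimage_iUnion]; rfl)
        refine Iff.trans ?_ (congrArg (Set.range c.down.hom.left.left ⊆ ·) hpre).to_iff.symm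
        rw [← Set.image_subset_iff, ← Set.range_comp]
        rfl
      exact e.symm ▸ ih Vg hVg _

/-! ### Etale charts with unique lifts -/

/-- Two morphisms into a chart agree near a point having unique geometric lifts. -/
theorem exists_open_agree {T V : EtOver X} {E : Set (Points X)} (huniq : AlgSpInd.UniqLifts V.obj.hom E)
    (b b' : T ⟶ V) (z : ↥T.obj.left.left) (hz : Points.ofPt T.obj.hom z ∈ E) :
    ∃ (Y : EtOver X) (g : Y ⟶ T), z ∈ Set.range g.hom.left.left ∧ g ≫ b = g ≫ b' := by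
  obtain ⟨P, p₁, p₂, sq⟩ := V.property.1 V.obj.hom
  obtain ⟨p₂, rfl⟩ := (yon S).map_surjective p₂
  haveI : Etale p₁.left := V.property.2 V.obj.hom ((yon S).map p₂) p₁ sq
  obtain ⟨d, hd⟩ := (yon S).map_surjective (sq.lift (𝟙 _) (𝟙 _) rfl)
  obtain ⟨l, hl⟩ := (yon S).map_surjective
    (sq.lift ((yon S).map b.hom.left) ((yon S).map b'.hom.left) ((EtOver.w b).trans (EtOver.w b').symm))
  have hd₁ : d ≫ p₁ = 𝟙 _ := (yon S).map_injective (by rw [Functor.map_comp, hd, sq.lift_snd]; exact ((yon S).map_id _).symm)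
  have hd₂ : d ≫ p₂ = 𝟙 _ := (yon S).map_injective (by rw [Functor.map_comp, hd, sq.lift_fst]; exact ((yon S).map_id _).symm)
  have hl₁ : l ≫ p₁ = b'.hom.left := (yon S).map_injective (by rw [Functor.map_comp, hl, sq.lift_snd])
  have hl₂ : l ≫ p₂ = b.hom.left := (yon S).map_injective (by rw [Functor.map_comp, hl, sq.lift_fst])
  have hdp : d.left ≫ p₁.left = 𝟙 _ := congrArg Over.Hom.left hd₁
  haveI : Mono d.left := mono_of_mono_fac hdp
  haveI : Etale d.left := MorphismProperty.HasOfPostcompProperty.of_postcomp (W := @Etale) d.left p₁.left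
    ‹Etale p₁.left› (by rw [hdp]; infer_instance)
  haveI : IsOpenImmersion d.left := IsOpenImmersion.of_flat_of_mono _
  -- the point lies in the equalizer
  let Ω := AlgebraicClosure (T.obj.left.left.residueField z)
  let x₀ : Spec (CommRingCat.of Ω) ⟶ T.obj.left.left :=
    Spec.map (CommRingCat.ofHom (algebraMap (T.obj.left.left.residueField z) Ω)) ≫
      T.obj.left.left.fromSpecResidueField z
  let str : Spec (CommRingCat.of Ω) ⟶ S := x₀ ≫ T.obj.left.hom
  let x : Over.mk str ⟶ T.obj.left := Over.homMk x₀ rfl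
  have hx : x₀ (IsLocalRing.closedPoint Ω) = z := T.obj.left.left.fromSpecResidueField_apply z _
  have hxb : x ≫ b.hom.left = x ≫ b'.hom.left := huniq Ω str _ _
    (by rw [Functor.map_comp, Functor.map_comp, Category.assoc, Category.assoc, EtOver.w b, EtOver.w b'])
    (by
      rw [Functor.map_comp, Category.assoc, EtOver.w b, AlgSpLib.ofPt_comp]
      exact hx.symm ▸ hz)
  have hxl : x ≫ l = (x ≫ b.hom.left) ≫ d := by
    apply (yon S).map_injective
    apply sq.hom_ext <;> simp only [← Functor.map_comp, Category.assoc, hd₁, hd₂, hl₁, hl₂, Category.comp_id]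
    exact congrArg (yon S).map hxb.symm
  let K : T.obj.left.left.Opens := l.left ⁻¹ᵁ d.left.opensRange
  have hzK : z ∈ K := ⟨(x ≫ b.hom.left).left (IsLocalRing.closedPoint Ω), by
    have := congrArg (fun k : Over.mk str ⟶ P => k.left (IsLocalRing.closedPoint Ω)) hxl
    exact this.symm.trans (congrArg l.left hx :)⟩
  refine ⟨_, AlgSpDec.etOpenι T K, mem_range_etOpenι hzK, EtOver.hom_ext _ _ (Over.OverMorphism.ext ?_)⟩
  obtain ⟨k, hk⟩ : ∃ k, k ≫ d.left = K.ι ≫ l.left :=
    ⟨IsOpenImmersion.lift d.left _ (by rintro _ ⟨y, rfl⟩; exact y.2), IsOpenImmersion.lift_fac _ _ _⟩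
  show K.ι ≫ b.hom.left.left = K.ι ≫ b'.hom.left.left
  have e₁ : b'.hom.left.left = l.left ≫ p₁.left := (congrArg Over.Hom.left hl₁).symm
  have e₂ : b.hom.left.left = l.left ≫ p₂.left := (congrArg Over.Hom.left hl₂).symm
  rw [e₁, e₂, ← reassoc_of% hk, ← reassoc_of% hk, hdp,
    show d.left ≫ p₂.left = 𝟙 _ from congrArg Over.Hom.left hd₂]

/-- The morphism from a chart to the subpresheaf of an open set containing its image. -/
def chartHom (V : EtOver X) {O : Set (Points X)} (h : Set.range (Points.ofPt V.obj.hom) ⊆ O) :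
    hV V ⟶ (inSet O).toFunctor where
  app T := TypeCat.ofHom fun b => ⟨PUnit.unit, by
    rintro _ ⟨z, rfl⟩
    rw [ofPt_hom_apply b.down z]
    exact h ⟨_, rfl⟩⟩
  naturality _ _ _ := rfl

theorem isCompact_preimage_ofPt [QuasiSeparatedSpace ↥S] (hX : IsAlgSpace X) (hqs : IsQuasiSeparatedSp X)
    {T : Over S} [IsAffine T.left] (f : (yon S).obj T ⟶ X) {O : Set (Points X)} (hO : IsOpen O)
    (hOc : IsCompact O) : IsCompact (Points.ofPt f ⁻¹' O) := by
  obtain ⟨U, j, hU, hj, hr⟩ := exists_open_subspace hX hO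
  have hUc : IsQuasiCompactSp U :=
    AlgSpInd.isQuasiCompactSp_of_isCompact_range hU hX hj (hr.symm ▸ hOc)
  have sq := IsPullback.of_hasPullback f j
  have hP := isQuasiCompactMor_of_qc_qs (IsAlgSpace.yon_obj T) hX (isQuasiCompactSp_yon T) hqs f hU hUc j _ _ sq
  have : Points.ofPt f ⁻¹' O = Points.ofScheme T ⁻¹' Set.range (Points.map (pullback.fst f j)) := by
    ext t
    rw [Set.mem_preimage, Set.mem_preimage, ← hr, Points.ofPt_eq_map_ofScheme f t]
    constructor
    · rintro ⟨y, hy⟩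
      obtain ⟨w, hw, -⟩ := exists_point_of_isPullback sq hy.symm
      exact ⟨w, hw⟩
    · rintro ⟨w, hw⟩
      exact ⟨Points.map (pullback.snd f j) w, by rw [← Points.map_comp, ← sq.w, Points.map_comp, hw]⟩
  rw [this]
  exact (Points.schemeHomeo T).isCompact_preimage.2 (AlgSpInd.isCompact_range_of_qc hP _)

theorem exists_van [QuasiSeparatedSpace ↥S] (Xs : Space S) (hqc : IsQuasiCompactSp Xs.obj)
    (hqs : IsQuasiSeparatedSp Xs.obj) : ∃ d, Van d (inSet (X := Xs.obj) Set.univ).toFunctor := by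
  refine AlgSpInd.open_induction Xs hqc hqs (fun O => ∃ d, Van d (inSet O).toFunctor) ∅ isOpen_empty isCompact_empty
    ⟨0, van_zero _ fun T ⟨⟨x, hx⟩⟩ => ⟨fun z => hx ⟨z, rfl⟩⟩⟩ ?_
  intro O O' hO hOc hO' hO'c _ T _ f hf hu huniq ⟨d, hd⟩
  let V : EtOver Xs.obj := EtOver.mk f hf
  haveI : IsAffine V.obj.left.left := (inferInstance : IsAffine T.left)
  have hle : inSet O ≤ inSet (X := Xs.obj) O' := fun _ _ h => Set.Subset.trans h (hu ▸ Set.subset_union_left)
  let v := chartHom V (O := O') (hu ▸ Set.subset_union_right)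
  let A : Subfunctor (inSet (X := Xs.obj) O').toFunctor := (inSet O).preimage (inSet O').ι
  -- the preimage is a finite union of basic opens
  have hb : TopologicalSpace.IsTopologicalBasis
      (Set.range fun r : Γ(V.obj.left.left, ⊤) => (V.obj.left.left.basicOpen r : Set ↥V.obj.left.left)) := by
    have h0 := isBasis_basicOpen V.obj.left.left
    rw [TopologicalSpace.Opens.IsBasis, ← Set.range_comp] at h0
    exact h0
  obtain ⟨s, hs, he⟩ := (isCompact_open_iff_eq_finite_iUnion_of_isTopologicalBasis _ hb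
    (fun r => ((isAffineOpen_top V.obj.left.left).basicOpen r).isCompact) (Points.ofPt V.obj.hom ⁻¹' O)).1
    ⟨isCompact_preimage_ofPt Xs.property hqs f hO hOc, hO.preimage (Points.continuous_ofPt _)⟩
  obtain ⟨n, gs, -, rfl⟩ := hs.fin_param
  rw [Set.biUnion_range] at he
  refine ⟨d + n + 1, van_step A v (covers_of_local A v (fun E x z => ?_) fun E b b' _ z => ?_)
    (?_ : Van n (A.preimage v).toFunctor) (van_of_iso (subIso _ _ hle) hd) (van_hV V ‹_›)
    (by omega) (by omega) (by omega)⟩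
  · have hz : Points.ofPt E.obj.hom z ∈ O' := x.2 ⟨z, rfl⟩
    by_cases hzO : Points.ofPt E.obj.hom z ∈ O
    · obtain ⟨Y, k, hzk, hk⟩ := exists_open_into (hO.preimage (Points.continuous_ofPt E.obj.hom)) hzO
      refine ⟨Y, k, hzk, .inl ?_⟩
      rintro _ ⟨y, rfl⟩
      rw [ofPt_hom_apply k y]
      exact hk ⟨y, rfl⟩
    · obtain ⟨w, hw⟩ := (hu.symm.subset hz).resolve_left hzO
      obtain ⟨o, -, ho⟩ := exists_lift (V.property.1.isPullback E.obj.hom) (x := Points.ofScheme _ w)
        ((Points.ofPt_eq_map_ofScheme _ w).symm.trans hw)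
      exact ⟨_, EtOver.prodFst E V, ⟨o, ho⟩, .inr ⟨ULift.up (EtOver.prodSnd E V), Subtype.ext rfl⟩⟩
  · by_cases hzO : Points.ofPt E.obj.hom z ∈ O
    · obtain ⟨Y, k, hzk, hk⟩ := exists_open_into (hO.preimage (Points.continuous_ofPt E.obj.hom)) hzO
      refine ⟨Y, k, hzk, .inl ?_⟩
      rintro _ ⟨y, rfl⟩
      rw [ofPt_hom_apply k y]
      exact hk ⟨y, rfl⟩
    · have hz : Points.ofPt E.obj.hom z ∈ O' \ O := ⟨by
        rw [ofPt_hom_apply b.down z, ← hu]; exact .inr ⟨_, rfl⟩, hzO⟩
      obtain ⟨Y, k, hzk, hk⟩ := exists_open_agree (V := V) huniq b.down b'.down z hz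
      exact ⟨Y, k, hzk, .inr (ULift.ext _ _ hk)⟩
  · have e : A.preimage v = hSub V (⋃ i, (V.obj.left.left.basicOpen (gs i) : Set ↥V.obj.left.left)) := by
      refine Subfunctor.ext (funext fun E => Set.ext fun b => ?_)
      show Set.range (Points.ofPt E.unop.obj.hom) ⊆ O ↔ Set.range b.down.hom.left.left ⊆ _
      rw [← he, ← Set.image_subset_iff, ← Set.range_comp]
      exact Eq.to_iff (congrArg (fun t => Set.range t ⊆ O) (funext fun z => ofPt_hom_apply b.down z))
    exact e.symm ▸ van_bset n V ‹_› gs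

/-- The constant sheaf as a free sheaf. -/
theorem nonempty_constantSheaf_iso :
    Nonempty ((FS X).obj (inSet (X := X) Set.univ).toFunctor ≅
      (constantSheaf (etTop X) AddCommGrpCat.{u + 1}).obj (AddCommGrpCat.of (ULift.{u + 1} ℤ))) := by
  letI : ∀ T, Unique ((inSet (X := X) Set.univ).toFunctor.obj T) := fun T =>
    { default := ⟨PUnit.unit, Set.subset_univ _⟩
      uniq := fun _ => Subtype.ext rfl }
  let φ : ∀ T, FreeAbelianGroup ((inSet (X := X) Set.univ).toFunctor.obj T) ≃+ ULift.{u + 1} ℤ := fun T =>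
    (FreeAbelianGroup.uniqueEquiv _).trans AddEquiv.ulift.symm
  refine ⟨(presheafToSheaf (etTop X) _).mapIso (NatIso.ofComponents (fun T => AddEquiv.toAddCommGrpIso (φ T)) ?_)⟩
  intro T T' g
  ext x
  induction x using FreeAbelianGroup.induction_on with
  | zero => simp
  | of x => exact rfl
  | neg x hx => rw [map_neg, map_neg, hx]
  | add x y hx hy => rw [map_add, map_add, hx, hy]

/-- Quasi-coherent cohomology vanishes in high degrees. -/
theorem exists_bound [QuasiSeparatedSpace ↥S] (Xs : Space S) (hqc : IsQuasiCompactSp Xs.obj)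
    (hqs : IsQuasiSeparatedSp Xs.obj) :
    ∃ n : ℕ, ∀ M : ModEt Xs.obj, M.IsQuasicoherent → ∀ q, n ≤ q → Subsingleton (HModEt Xs.obj M q) := by
  obtain ⟨d, hd⟩ := exists_van Xs hqc hqs
  obtain ⟨e⟩ := nonempty_constantSheaf_iso (X := Xs.obj)
  exact ⟨d, fun M _ q hq => subsingleton_ext_of_iso e (hd _ (isCechAcyclic_of_isQuasicoherent M) q hq)⟩

end Groth.Agent.AlgSpQC10.CohDim
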