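import Mathlib.Algebra.Homology.DerivedCategory.HomologySequence
import Mathlib.Algebra.Homology.HomologicalComplexAbelian
import Mathlib.Algebra.Homology.SingleHomology
import Mathlib.Algebra.Homology.HomotopyCategory.SingleFunctors

/-!
# Detecting zero objects and isomorphisms in the derived category by shifted objects
-/

universe w v u

set_option autoImplicit false

open CategoryTheory CategoryTheory.Limits Pretriangulated

namespace Groth.Agent.AlgSpQC10

variable {A : Type u} [Category.{v} A] [Abelian A] [HasDerivedCategory.{w} A]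

/-- An object receiving no nonzero map from shifted objects is zero. -/
theorem isZero_of_hom_single_eq_zero (Q : DerivedCategory A)
    (h : ∀ (k : ℤ) (Z : A) (f : (DerivedCategory.singleFunctor A k).obj Z ⟶ Q), f = 0) : IsZero Q := by
  obtain ⟨K, ⟨e⟩⟩ : ∃ K, Nonempty (DerivedCategory.Q.obj K ≅ Q) :=
    ⟨_, ⟨DerivedCategory.Q.objObjPreimageIso Q⟩⟩
  refine (IsZero.iff_id_eq_zero _).2 ?_
  have hz : IsZero (DerivedCategory.Q.obj K) := by
    suffices hk : ∀ k : ℤ, IsZero ((DerivedCategory.homologyFunctor A k).obj (DerivedCategory.Q.obj K)) by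
      have : IsIso (0 : DerivedCategory.Q.obj K ⟶ DerivedCategory.Q.obj K) :=
        (DerivedCategory.isIso_iff _ _).2 fun k => (hk k).isIso (hk k) _
      exact (IsZero.iff_id_eq_zero _).2 ((isIsoZeroEquiv _ _).toFun this).1
    intro k
    let f : (HomologicalComplex.single A (ComplexShape.up ℤ) k).obj (K.cycles k) ⟶ K :=
      HomologicalComplex.mkHomFromSingle (K.iCycles k) fun i _ => K.iCycles_d k i
    have hf : DerivedCategory.Q.map f = 0 := by
      let e' := (SingleFunctors.evaluation A (DerivedCategory A) k).mapIso (DerivedCategory.singleFunctorsPostcompQIso A)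
      have h0 := h k (K.cycles k) (e'.hom.app _ ≫ DerivedCategory.Q.map f ≫ e.hom)
      exact zero_of_comp_mono e.hom (zero_of_epi_comp (e'.hom.app (K.cycles k)) h0)
    have hcomp : HomologicalComplex.homologyMap f k = 0 := by
      refine zero_of_epi_comp ((DerivedCategory.homologyFunctorFactors A k).hom.app _) ?_
      refine ((DerivedCategory.homologyFunctorFactors A k).hom.naturality f).symm.trans ?_
      show (DerivedCategory.homologyFunctor A k).map (DerivedCategory.Q.map f) ≫ _ = 0
      rw [hf, Functor.map_zero, zero_comp]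
    have hepi : Epi (HomologicalComplex.homologyMap f k) := by
      have hc : HomologicalComplex.cyclesMap f k =
          (HomologicalComplex.singleObjCyclesSelfIso (ComplexShape.up ℤ) k (K.cycles k)).hom := by
        rw [← cancel_mono (K.iCycles k), HomologicalComplex.cyclesMap_i,
          HomologicalComplex.mkHomFromSingle_f, ← Category.assoc, HomologicalComplex.singleObjCyclesSelfIso_hom]
      have : Epi (HomologicalComplex.cyclesMap f k ≫ K.homologyπ k) := by
        rw [hc]
        exact epi_comp _ _
      rw [← HomologicalComplex.homologyπ_naturality] at this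
      exact epi_of_epi (HomologicalComplex.homologyπ _ k) _
    refine IsZero.of_iso ?_ ((DerivedCategory.homologyFunctorFactors A k).app K)
    show IsZero (HomologicalComplex.homology K k)
    rw [IsZero.iff_id_eq_zero, ← cancel_epi (HomologicalComplex.homologyMap f k), hcomp, zero_comp, zero_comp]
  exact (hz.of_iso e.symm).eq_of_src _ _

/-- A map bijective on maps from shifted objects is an isomorphism. -/
theorem isIso_of_bijective_hom_single {X Y : DerivedCategory A} (φ : X ⟶ Y)
    (h : ∀ (k : ℤ) (Z : A), Function.Bijective fun f : (DerivedCategory.singleFunctor A k).obj Z ⟶ X => f ≫ φ) :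
    IsIso φ := by
  obtain ⟨Q, g, d, hT⟩ := distinguished_cocone_triangle φ
  refine (Triangle.isZero₃_iff_isIso₁ _ hT).1 (isZero_of_hom_single_eq_zero Q fun k Z f => ?_)
  obtain ⟨y, hy⟩ : ∃ y, f = y ≫ g := Triangle.coyoneda_exact₃ _ hT f <| by
    let e := ((DerivedCategory.singleFunctors A).shiftIso (1 : ℤ) k (k + 1) (by omega)).app Z
    obtain ⟨u, hu⟩ := (shiftFunctor (DerivedCategory A) (1 : ℤ)).map_surjective
      (X := (DerivedCategory.singleFunctor A (k + 1)).obj Z) (Y := X) (e.hom ≫ f ≫ d)
    have hu0 : u = 0 := (h (k + 1) Z).1 (show u ≫ φ = 0 ≫ φ by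
      apply (shiftFunctor (DerivedCategory A) (1 : ℤ)).map_injective
      have h2 := comp_distTriang_mor_zero₃₁ _ hT
      rw [Functor.map_comp, hu, zero_comp, Functor.map_zero, Category.assoc, Category.assoc]
      exact (congrArg (fun t => e.hom ≫ f ≫ t) h2).trans ((congrArg (e.hom ≫ ·) comp_zero).trans comp_zero))
    rw [hu0, Functor.map_zero] at hu
    exact (Preadditive.IsIso.comp_left_eq_zero _ _).1 hu.symm
  obtain ⟨x, rfl⟩ := (h k Z).2 y
  rw [hy]
  exact (Category.assoc _ _ _).trans ((congrArg (x ≫ ·) (comp_distTriang_mor_zero₁₂ _ hT)).trans comp_zero)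

end Groth.Agent.AlgSpQC10
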