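import Groth.Agent.AlgSpLib.EtLift
import Groth.Agent.AlgSpDM.ThickChart
import Groth.Agent.UnivThick.Scheme
import Groth.Agent.H84RootTower.Quotient
import Groth.Agent.AlgSpPts.Univ

/-!
# Etale local lifts along a representable etale surjection
-/

set_option autoImplicit false
set_option linter.style.haveILetI false
set_option backward.isDefEq.respectTransparency false
set_option backward.isDefEq.respectTransparency.types false

universe u

open CategoryTheory CategoryTheory.Limits AlgebraicGeometry AlgSp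

namespace Groth.Agent.AlgSpQC10

variable {S : Scheme.{u}} {F G H : Sp S} {a : F ⟶ G} {b : G ⟶ H}

theorem exists_etale_local_lift (ha : RepWith @Etale a) (ha' : RepWith @Surjective a)
    (hab : IsFormallySmoothMor (a ≫ b)) (sq : InfSq b) (t : ↥sq.ptT'.left) :
    ∃ (U' : Over S) (g : U' ⟶ sq.ptT') (l : (yon S).obj U' ⟶ G),
      IsAffine U'.left ∧ Etale g.left ∧ (∃ u : ↥U'.left, g.left u = t) ∧
        l ≫ b = (yon S).map g ≫ sq.bot ∧
          ∀ (V : Over S) (p : V ⟶ sq.ptT) (q : V ⟶ U'), p ≫ sq.j = q ≫ g →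
            (yon S).map q ≫ l = (yon S).map p ≫ sq.top := by
  have hj : IsThickMor ((yon S).map sq.j) :=
    (isThickMor_yon_map_iff sq.j).2 (Groth.Agent.UnivThick.isFirstOrderThickening_specMap _
      Ideal.Quotient.mk_surjective (by rw [Ideal.mk_ker]; exact sq.sq_zero)).1
  have hE : RepWith @Etale ((yon S).map (ha.rep.snd sq.top)) :=
    (repWith_yon_map_iff _ _).2 (ha.property_snd sq.top)
  obtain ⟨T, β', ε, hβ', hε⟩ := AlgSpLib.EtLift.exists_lift (IsAlgSpace.yon_obj _) (IsAlgSpace.yon_obj _) hj _ hE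
  obtain ⟨β, rfl⟩ := (yon S).map_surjective β'
  haveI : Etale β.left := (repWith_yon_map_iff _ β).1 hβ'
  haveI : Surjective sq.j.left := ((isThickMor_yon_map_iff sq.j).1 hj).2
  obtain ⟨t₀, ht₀⟩ := sq.j.left.surjective t
  haveI : Surjective (ha.rep.snd sq.top).left := ha'.property _ _ _ (ha.rep.isPullback sq.top)
  obtain ⟨o, ho⟩ := (ha.rep.snd sq.top).left.surjective t₀
  obtain ⟨π, hπ⟩ := (yon S).map_surjective (ε.hom ≫ pullback.snd ((yon S).map sq.j) ((yon S).map β))
  have hπβ : π ≫ β = ha.rep.snd sq.top ≫ sq.j := (yon S).map_injective (by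
    rw [Functor.map_comp, Functor.map_comp, hπ, Category.assoc, ← pullback.condition, ← Category.assoc, hε])
  obtain ⟨O, hO, htO, -⟩ := exists_isAffineOpen_mem_and_subset (U := (⊤ : T.left.Opens)) (x := π.left o) trivial
  let g₀ : Spec Γ(T.left, O) ⟶ Spec (CommRingCat.of sq.A) := hO.fromSpec ≫ β.left
  obtain ⟨r, hr⟩ := Spec.map_surjective g₀
  let str' : Spec (CommRingCat.of Γ(T.left, O)) ⟶ S := hO.fromSpec ≫ T.hom
  let U' : Over S := Over.mk str'
  let k : U' ⟶ T := Over.homMk hO.fromSpec rfl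
  let g : U' ⟶ sq.ptT' := k ≫ β
  let I' : Ideal Γ(T.left, O) := sq.I.map r.hom
  have hI' : I' ^ 2 = ⊥ := by rw [← Ideal.map_pow, sq.sq_zero, Ideal.map_bot]
  let V₀ : Over S := Over.mk (Spec.map (CommRingCat.ofHom (Ideal.Quotient.mk I')) ≫ str')
  let j' : V₀ ⟶ U' := Over.homMk (Spec.map (CommRingCat.ofHom (Ideal.Quotient.mk I'))) rfl
  have hpb := Groth.Agent.H84RootTower.isPullback_quotient r.hom sq.I
  have hg : g.left = Spec.map r := hr.symm
  let q₀ : V₀ ⟶ sq.ptT := Over.homMk (Spec.map (CommRingCat.ofHom (Ideal.quotientMap I' r.hom Ideal.le_comap_map))) (by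
    refine (Category.assoc _ _ _).symm.trans ((congrArg (· ≫ sq.str) hpb.w.symm).trans ?_)
    rw [Category.assoc]
    refine congrArg (Spec.map _ ≫ ·) ?_
    exact (congrArg (· ≫ sq.str) hg.symm).trans (Over.w g))
  have hq₀ : q₀ ≫ sq.j = j' ≫ g := Over.OverMorphism.ext (hpb.w.symm.trans (congrArg (_ ≫ ·) hg.symm))
  let w : (yon S).obj V₀ ⟶ pullback ((yon S).map sq.j) ((yon S).map β) :=
    pullback.lift ((yon S).map q₀) ((yon S).map (j' ≫ k)) (by
      rw [← Functor.map_comp, ← Functor.map_comp, hq₀, Category.assoc])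
  let top' : (yon S).obj V₀ ⟶ F := (w ≫ ε.inv) ≫ ha.rep.fst sq.top
  have hw : (w ≫ ε.inv) ≫ (yon S).map (ha.rep.snd sq.top) = (yon S).map q₀ := by
    rw [← hε, Category.assoc, Iso.inv_hom_id_assoc, pullback.lift_fst]
  have htop : top' ≫ a = (yon S).map q₀ ≫ sq.top := by
    rw [Category.assoc, ha.rep.w, ← Category.assoc, hw]
  let sq' : InfSq (a ≫ b) :=
    { A := Γ(T.left, O)
      I := I'
      sq_zero := hI'
      str := str'
      top := top'
      bot := (yon S).map g ≫ sq.bot
      comm := (Category.assoc _ _ _).symm.trans ((congrArg (· ≫ b) htop).trans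
        ((Category.assoc _ _ _).trans ((congrArg ((yon S).map q₀ ≫ ·) sq.comm).trans
          (((yon S).map_comp_assoc q₀ sq.j sq.bot).symm.trans
            ((congrArg (fun m => (yon S).map m ≫ sq.bot) hq₀).trans ((yon S).map_comp_assoc j' g sq.bot)))))) }
  obtain ⟨l, hl₁, hl₂⟩ := hab sq'
  refine ⟨U', g, l ≫ a, inferInstanceAs (IsAffine (Spec _)), inferInstanceAs (Etale (hO.fromSpec ≫ β.left)),
    ?_, (Category.assoc _ _ _).trans hl₂, fun V p q hpq => ?_⟩
  · have hp : π.left o ∈ Set.range hO.fromSpec := by rw [hO.range_fromSpec]; exact htO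
    obtain ⟨u, hu⟩ := hp
    refine ⟨u, ?_⟩
    show β.left (hO.fromSpec u) = t
    rw [hu, ← Scheme.Hom.comp_apply, ← Over.comp_left, hπβ, Over.comp_left, Scheme.Hom.comp_apply, ho, ht₀]
  · have hpq' : q.left ≫ Spec.map r = p.left ≫ sq.j.left := by
      rw [← hg, ← Over.comp_left, ← Over.comp_left, hpq]
    let d : V ⟶ V₀ := Over.homMk (hpb.lift q.left p.left hpq') (by
      refine (Category.assoc _ _ _).symm.trans ((congrArg (· ≫ str') (hpb.lift_fst _ _ _)).trans ?_)
      exact Over.w q)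
    have hd₁ : d ≫ j' = q := Over.OverMorphism.ext (hpb.lift_fst _ _ _)
    have hd₂ : d ≫ q₀ = p := Over.OverMorphism.ext (hpb.lift_snd _ _ _)
    have hl₁' : (yon S).map j' ≫ l = top' := hl₁
    rw [← hd₁, Functor.map_comp, Category.assoc, ← Category.assoc _ l, hl₁', htop, ← Category.assoc,
      ← Functor.map_comp, hd₂]

end Groth.Agent.AlgSpQC10
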