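import Groth.Agent.AlgSpQC10.WeakFin
import Mathlib.RingTheory.Finiteness.Basic

/-!
# Cartesian sheaves with finitely presented sections on affine objects are finitely presented
-/

universe w v₁ u₁ u

set_option autoImplicit false
set_option linter.style.haveILetI false
set_option linter.unusedSectionVars false
set_option backward.isDefEq.respectTransparency false
set_option backward.isDefEq.respectTransparency.types false

open CategoryTheory CategoryTheory.Limits Opposite TensorProduct Groth.Agent.QCart

namespace Groth.Agent.AlgSpQC10

variable {C : Type u₁} [Category.{v₁} C] {J : GrothendieckTopology C}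
  [J.HasSheafCompose (forget₂ CommRingCat.{w} RingCat.{w})]
  [J.HasSheafCompose (CategoryTheory.forget AddCommGrpCat.{w})]
  [HasSheafify J AddCommGrpCat.{w}] [J.WEqualsLocallyBijective AddCommGrpCat.{w}]
  {R : Sheaf J CommRingCat.{w}} {b : AffBasis J R.obj}

section Terminal

variable {T : C} (hT : IsTerminal T) (hTa : b.aff T) {M : SheafOfModules.{w} (RS R)} (hM : b.IsCart (psh M))

/-- Generating sections given by a finite family spanning the sections on an affine terminal object. -/
noncomputable def spanGen (s : Set ((psh M).obj (op T)))
    (hs : Submodule.span (R.obj.obj (op T)) s = ⊤) (hTa : b.aff T) (hM : b.IsCart (psh M)) :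
    M.GeneratingSections where
  I := ↥s
  s x := globalSec hT x.1
  epi := by
    constructor
    intro N g g' h
    rw [SheafOfModules.freeHomEquiv_symm_comp, SheafOfModules.freeHomEquiv_symm_comp] at h
    have hh := N.freeHomEquiv.symm.injective h
    have key : ∀ W : C, b.aff W → ∀ y : (psh M).obj (op W), (phom g).app (op W) y = (phom g').app (op W) y := by
      intro W hW y
      obtain ⟨z, hz⟩ := (hM hTa hW (hT.from W)).2 (toSec _ _ y)
      change appSec (phom g) (hT.from W) (toSec (hT.from W) (psh M) y) = appSec (phom g') _ (toSec _ (psh M) y)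
      rw [← hz]
      clear hz
      induction z using TensorProduct.induction_on with
      | zero => simp only [map_zero]
      | add z z' hz hz' => simp only [map_add, hz, hz']
      | tmul r x =>
        rw [bcMap_tmul, map_smul, map_smul]
        refine congrArg (r • ·) ?_
        have hx : x ∈ Submodule.span (R.obj.obj (op T)) s := hs ▸ Submodule.mem_top
        induction hx using Submodule.span_induction with
        | mem x hx => exact congrFun (congrArg Subtype.val (congrFun hh ⟨x, hx⟩)) (op W)
        | zero => simp only [map_zero]
        | add x y _ _ ha hb => simp only [map_add, ha, hb]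
        | smul a x _ ha =>
          simp only [map_smul]
          rw [LinearMap.map_smul_of_tower, LinearMap.map_smul_of_tower, ha]
    refine SheafOfModules.Hom.ext (PresheafOfModules.hom_ext fun X => ModuleCat.hom_ext (LinearMap.ext fun y => ?_))
    refine sres_ext_of_mem N (b.dense X.unop) _ _ fun W f hf => ?_
    obtain ⟨A, p, q, hA, rfl⟩ := hf
    rw [← sres_sres, ← sres_sres]
    refine congrArg (sres (psh N) p) ?_
    exact ((app_sres (phom g) q y).symm.trans (key A hA _)).trans (app_sres (phom g') q y)

/-- The tautological generators of a free sheaf. -/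
noncomputable def freeGen (I : Type w) : (SheafOfModules.free (R := RS R) I).GeneratingSections where
  I := I
  s := (SheafOfModules.free (R := RS R) I).freeHomEquiv (𝟙 _)
  epi := by rw [Equiv.symm_apply_apply]; infer_instance

include hT hTa hM

theorem exists_presentation_of_fp (hfp : Module.FinitePresentation (R.obj.obj (op T)) ((psh M).obj (op T))) :
    ∃ P : M.Presentation, P.IsFinite := by
  classical
  obtain ⟨s, hs⟩ := (inferInstance : Module.Finite (R.obj.obj (op T)) ((psh M).obj (op T))).fg_top
  let σ := spanGen hT (s : Set ((psh M).obj (op T))) hs hTa hM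
  haveI hσ : σ.IsFiniteType := ⟨Finset.finite_toSet s⟩
  let S := ShortComplex.mk (kernel.ι σ.π) σ.π (kernel.condition σ.π)
  have hS : S.ShortExact :=
    { exact := ShortComplex.exact_kernel σ.π
      mono_f := inferInstanceAs (Mono (kernel.ι σ.π))
      epi_g := inferInstanceAs (Epi σ.π) }
  have hF : b.IsCart (psh (SheafOfModules.free (R := RS R) σ.I)) := b.isCart_free σ.I
  have hK : b.IsCart (psh S.X₁) := hF.kernel σ.π hM
  haveI : (freeGen (R := R) σ.I).IsFiniteType := ⟨hσ.finite⟩
  haveI : Module.Finite (R.obj.obj (op T)) ((psh S.X₂).obj (op T)) :=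
    finite_of_generatingSections hF (freeGen σ.I) hTa
  let p := appO (phom S.g) T
  let i := appO (phom S.f) T
  have hp : Function.Surjective p := hK.surjective_app hS hTa
  have hi : Function.Injective i := by
    haveI := hS.mono_f
    exact injective_app_of_mono S.f T
  have hrange : LinearMap.range i = LinearMap.ker p := by
    refine le_antisymm ?_ fun x hx => ?_
    · rintro _ ⟨y, rfl⟩
      exact app_g_f S y
    · haveI := hS.mono_f
      obtain ⟨y, hy⟩ := exists_app_eq_of_exact S hS.exact x hx
      exact ⟨y, hy⟩
  have hker : Module.Finite (R.obj.obj (op T)) (LinearMap.ker p) :=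
    Module.Finite.iff_fg.2 (Module.FinitePresentation.fg_ker p hp)
  have hK1 : Module.Finite (R.obj.obj (op T)) ((psh S.X₁).obj (op T)) :=
    Module.Finite.equiv ((LinearEquiv.ofInjective i hi).trans (LinearEquiv.ofEq _ _ hrange)).symm
  obtain ⟨t, ht⟩ := hK1.fg_top
  refine ⟨⟨σ, spanGen hT (t : Set ((psh S.X₁).obj (op T))) ht hTa hK⟩, ⟨?_, ?_⟩⟩
  · exact hσ
  · exact ⟨Finset.finite_toSet t⟩

end Terminal

variable [∀ U : C, (J.over U).HasSheafCompose (forget₂ CommRingCat.{w} RingCat.{w})]
  [∀ U : C, (J.over U).HasSheafCompose (CategoryTheory.forget AddCommGrpCat.{w})]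
  [∀ U : C, HasSheafify (J.over U) AddCommGrpCat.{w}]
  [∀ U : C, (J.over U).WEqualsLocallyBijective AddCommGrpCat.{w}]

/-- A cartesian sheaf with finitely presented sections on affine objects is finitely presented. -/
theorem isFinitePresentation_of_cart {M : SheafOfModules.{w} (RS R)} (hM : b.IsCart (psh M))
    (h : ∀ E : C, b.aff E → Module.FinitePresentation (R.obj.obj (op E)) ((psh M).obj (op E))) :
    M.IsFinitePresentation := by
  choose P hP using fun E : { E : C // b.aff E } =>
    exists_presentation_of_fp (R := R.over E.1) (T := Over.mk (𝟙 E.1)) Over.mkIdTerminal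
      (b := b.over E.1) E.2 (hM.over E.1) (h E.1 E.2)
  exact ⟨{ I := { E : C // b.aff E }
           X := fun E => E.1
           coversTop := fun X => by
             refine J.superset_covering ?_ (b.dense X)
             rintro W f ⟨A, p, q, hA, rfl⟩
             exact (Sieve.mem_ofObjects_iff ..).2 ⟨⟨A, hA⟩, ⟨p⟩⟩
           presentation := P }, ⟨hP⟩⟩

end Groth.Agent.AlgSpQC10

namespace Groth.Agent.AlgSpQC10

open AlgSp AlgebraicGeometry

variable {S : Scheme.{u}} {X : Sp S}

/-- On a locally Noetherian space coherent means quasi-coherent with finite sections on affine objects. -/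
theorem isFinitePresentation_of_finite (hX : IsLocNoethSp X) (M : ModEt X) [M.IsQuasicoherent]
    (h : ∀ E : EtOver X, IsAffine E.obj.left.left → Module.Finite (A E) (Msec M E)) :
    M.IsFinitePresentation :=
  isFinitePresentation_of_cart (R := OEt X) (isCart M) fun E hE => by
    haveI : IsAffine E.obj.left.left := hE
    haveI : IsNoetherianRing (A E) := isNoetherianRing_A hX E
    haveI : Module.Finite (A E) (Msec M E) := h E hE
    exact Module.finitePresentation_of_finite (A E) (Msec M E)

theorem isFinitePresentation_of_isFiniteType (hX : IsLocNoethSp X) (M : ModEt X) [M.IsQuasicoherent]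
    [M.IsFiniteType] : M.IsFinitePresentation :=
  isFinitePresentation_of_finite hX M fun E hE => haveI := hE; finite_Msec M E

end Groth.Agent.AlgSpQC10
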