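import Groth.Agent.AlgSpQC10.PullSecAux
import Groth.Agent.AlgSpQC10.Weak

/-!
# Sections of pullbacks over affine objects
-/

universe u w v₁ u₁

set_option autoImplicit false
set_option linter.style.haveILetI false
set_option linter.unusedSectionVars false
set_option backward.isDefEq.respectTransparency false
set_option backward.isDefEq.respectTransparency.types false

open CategoryTheory CategoryTheory.Limits AlgebraicGeometry Opposite TensorProduct AlgSp

namespace Groth.Agent.QCart

variable {S : Scheme.{u}} {X Y : Sp S} {f : X ⟶ Y}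

/-- The affine top of the slice downstairs. -/
noncomputable abbrev topY (E : EtOver Y) : CategoryTheory.Over E := CategoryTheory.Over.mk (𝟙 E)

/-- The affine top of the slice upstairs. -/
noncomputable abbrev topX (hf : Representable f) (E : EtOver Y) : CategoryTheory.Over ((EtOver.bc hf).obj E) :=
  (CategoryTheory.Over.post (X := E) (EtOver.bc hf)).obj (topY E)

/-- The map of functions on the tops. -/
noncomputable abbrev topMap (hf : Representable f) (E : EtOver Y) :
    ((OEt Y).over E).obj.obj (op (topY E)) →+*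
      ((OEt X).over ((EtOver.bc hf).obj E)).obj.obj (op (topX hf E)) :=
  ((bcRingHom hf).hom.app (op E)).hom

variable (hf : Representable f) [(SheafOfModules.pushforward.{u + 1} (bcRingHom hf)).IsRightAdjoint]

set_option maxHeartbeats 20000000 in
/-- The sections of a pullback over affine tops of slices are the extension of scalars. -/
theorem pullSec_bijective (G : ModEt Y) [G.IsQuasicoherent] {E : EtOver Y} (hE : IsAff Y E)
    (hFE : IsAff X (EtOver.bcObj hf E)) :
    letI : Algebra (((OEt Y).over E).obj.obj (op (topY E)))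
      (((OEt X).over ((EtOver.bc hf).obj E)).obj.obj (op (topX hf E))) := (topMap hf E).toAlgebra
    ∃ η : (psh (R := (OEt Y).over E) (G.over E)).obj (op (topY E)) →+
        (psh (R := (OEt X).over ((EtOver.bc hf).obj E)) (((pullModEt hf).obj G).over ((EtOver.bc hf).obj E))).obj
          (op (topX hf E)),
      ∃ hη : ∀ r x, η (r • x) = topMap hf E r • η x,
        letI : Module (((OEt Y).over E).obj.obj (op (topY E)))
          ((psh (R := (OEt X).over ((EtOver.bc hf).obj E)) (((pullModEt hf).obj G).over ((EtOver.bc hf).obj E))).obj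
            (op (topX hf E))) := Module.compHom _ (topMap hf E)
        haveI : IsScalarTower (((OEt Y).over E).obj.obj (op (topY E)))
            (((OEt X).over ((EtOver.bc hf).obj E)).obj.obj (op (topX hf E)))
            ((psh (R := (OEt X).over ((EtOver.bc hf).obj E)) (((pullModEt hf).obj G).over ((EtOver.bc hf).obj E))).obj
              (op (topX hf E))) := IsScalarTower.of_algebraMap_smul fun _ _ => rfl
        Function.Bijective (LinearMap.liftBaseChange (((OEt X).over ((EtOver.bc hf).obj E)).obj.obj (op (topX hf E)))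
          ({ toFun := η, map_add' := η.map_add, map_smul' := hη } :
            (psh (R := (OEt Y).over E) (G.over E)).obj (op (topY E)) →ₗ[((OEt Y).over E).obj.obj (op (topY E))] _)) := by
  let F := EtOver.bc hf
  let θ := bcRingHom hf
  obtain ⟨Θ, hΘd⟩ : ∃ Θ, Θ = PullQC.theta E F θ := ⟨_, rfl⟩
  let R₁ := (OEt Y).over E
  let R₂ := (OEt X).over (F.obj E)
  let b₁ := (etBasis Y).over E
  let b₂ := (etBasis X).over (F.obj E)
  have hG := ((isQuasicoherent_iff Y G).1 inferInstance).over E
  have hTa₀ : b₁.aff (topY E) := hE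
  have hTa : b₂.aff (topX hf E) := hFE
  obtain ⟨P⟩ : Nonempty ((G.over E).Presentation) :=
    ⟨AffBasis.IsCart.presentation (R := R₁) (b := b₁) CategoryTheory.Over.mkIdTerminal hTa₀ hG⟩
  let L := ((pullModEt hf).obj G).over (F.obj E)
  have hL : b₂.IsCart (psh (R := R₂) L) := b₂.isCart_of_presentation (PullQC.presentation E F θ P)
  let pT := SheafOfModules.pushforward.{u + 1} (PullQC.postRing E F θ)
  haveI : pT.Additive := { }
  let π := P.generators.π
  haveI := P.generators.epi
  obtain ⟨η₀, hη₀⟩ : ∃ η₀, η₀ = PullQC.homEquiv E F θ G L (𝟙 L) := ⟨_, rfl⟩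
  have hcomp : ∀ {N : SheafOfModules.{u + 1} ((OEtRing X).over (F.obj E))} (k : L ⟶ N),
      PullQC.homEquiv E F θ G N k = η₀ ≫ pT.map k := fun k => by
    rw [hη₀, ← PullQC.homEquiv_comp, Category.id_comp]
  refine ⟨AddMonoidHom.mk' (fun x => η₀.val.app (op (topY E)) x) fun x y => map_add (η₀.val.app (op (topY E))).hom x y,
    fun r x => (η₀.val.app (op (topY E))).hom.map_smul r x, ?_⟩
  have hΘ : ∀ (J : Type (u + 1)) (i : J), (Θ J).val.app (op (topY E)) (basisAt (R := R₁) (topY E) i) =
      basisAt (R := R₂) (topX hf E) i := fun J i => by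
    show (SheafOfModules.ιFree (R := (OEtRing Y).over E) i ≫ Θ J).val.app (op (topY E))
      (1 : R₁.obj.obj (op (topY E))) = _
    rw [show SheafOfModules.ιFree (R := (OEtRing Y).over E) i ≫ Θ J =
      SheafOfModules.unitToPushforwardObjUnit (PullQC.postRing E F θ) ≫
      pT.map (SheafOfModules.ιFree (R := (OEtRing X).over (F.obj E)) i) by
        rw [hΘd]; exact SheafOfModules.ιFree_mapFree _ _ _ _]
    show (SheafOfModules.ιFree (R := (OEtRing X).over (F.obj E)) i).val.app (op (topX hf E))
      (topMap hf E (1 : R₁.obj.obj (op (topY E)))) = _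
    rw [map_one]
    rfl
  obtain ⟨c, hc⟩ : ∃ c : SheafOfModules.free (R := (OEtRing X).over (F.obj E)) P.generators.I ⟶ L,
      Θ _ ≫ pT.map c = π ≫ η₀ := by subst hΘd; exact (PullQC.theta_bijective E F θ _ L).2 (π ≫ η₀)
  haveI : Epi c := epi_of_comparison pT hc fun {N} k₁ k₂ hk => (PullQC.homEquiv E F θ G N).injective
    ((hcomp k₁).trans (hk.trans (hcomp k₂).symm))
  obtain ⟨u, hue⟩ : ∃ u : SheafOfModules.free (R := (OEtRing Y).over E) P.relations.I ⟶ SheafOfModules.free P.generators.I,
      u = (SheafOfModules.freeHomEquiv _).symm P.relations.s ≫ kernel.ι P.generators.π := ⟨_, rfl⟩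
  have h0 : u ≫ π = 0 := by
    rw [hue]
    exact (Category.assoc _ _ _).trans ((congrArg (_ ≫ ·) (kernel.condition _)).trans comp_zero)
  obtain ⟨u', hu'⟩ : ∃ u' : SheafOfModules.free (R := (OEtRing X).over (F.obj E)) P.relations.I ⟶
      SheafOfModules.free P.generators.I, Θ _ ≫ pT.map u' = u ≫ Θ _ := by
    subst hΘd
    exact (PullQC.theta_bijective E F θ P.relations.I _).2 (u ≫ _)
  obtain ⟨a, hπa⟩ : ∃ a : G.over E ⟶ pT.obj (cokernel u'), π ≫ a = Θ _ ≫ pT.map (cokernel.π u') := by
    subst hue
    exact exists_desc pT hu' P.isColimit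
  obtain ⟨k₁, hk₁'⟩ := (PullQC.homEquiv E F θ G (cokernel u')).surjective a
  have hk₁ : η₀ ≫ pT.map k₁ = a := (hcomp k₁).symm.trans hk₁'
  obtain ⟨hqs, hqe⟩ := AffBasis.exact_cokernel_free (R := R₂) (b := b₂) u' hTa
  letI : Algebra (R₁.obj.obj (op (topY E))) (R₂.obj.obj (op (topX hf E))) := (topMap hf E).toAlgebra
  letI : Module (R₁.obj.obj (op (topY E))) ((psh (R := R₂) L).obj (op (topX hf E))) :=
    Module.compHom _ (topMap hf E)
  haveI : IsScalarTower (R₁.obj.obj (op (topY E))) (R₂.obj.obj (op (topX hf E)))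
      ((psh (R := R₂) L).obj (op (topX hf E))) := IsScalarTower.of_algebraMap_smul fun _ _ => rfl
  let Θ₀ : (psh (R := R₁) (SheafOfModules.free (R := (OEtRing Y).over E) P.generators.I)).obj (op (topY E)) →+
      (psh (R := R₂) (SheafOfModules.free (R := (OEtRing X).over (F.obj E)) P.generators.I)).obj (op (topX hf E)) :=
    AddMonoidHom.mk' (fun x => (Θ P.generators.I).val.app (op (topY E)) x)
      fun x y => map_add ((Θ P.generators.I).val.app (op (topY E))).hom x y
  refine bijective_liftBaseChange_of_presentation _ (appO (phom (R := R₁) π) (topY E))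
    (AffBasis.surjective_of_epi_free (R := R₁) (b := b₁) hG π hTa₀) (basisAt (R := R₁) (topY E))
    (AffBasis.span_basisAt (R := R₁) (b := b₁) hTa₀) Θ₀
    (fun r x => ((Θ P.generators.I).val.app (op (topY E))).hom.map_smul r x) ?_ (fun w => ?_)
    (appO (phom (R := R₂) u') (topX hf E)) (basisAt (R := R₂) (topX hf E))
    (AffBasis.span_basisAt (R := R₂) (b := b₂) hTa)
    (fun k => u.val.app (op (topY E)) (basisAt (R := R₁) (topY E) k)) (fun k => ?_) (fun k => ?_)
    (appO (phom (R := R₂) (cokernel.π u')) (topX hf E)) hqs hqe (appO (phom (R := R₂) c) (topX hf E))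
    (AffBasis.surjective_of_epi_free (R := R₂) (b := b₂) hL c hTa) (fun i => ?_)
    (appO (phom (R := R₂) k₁) (topX hf E)) (fun i => ?_)
  · rw [show Θ₀ ∘ basisAt (R := R₁) (topY E) = basisAt (R := R₂) (I := P.generators.I) (topX hf E) from
      funext (hΘ P.generators.I)]
    exact AffBasis.span_basisAt (R := R₂) (b := b₂) hTa
  · obtain ⟨ψ, hψ⟩ := AffBasis.exists_freeLift (R := R₂) (b := b₂) hTa w
    exact ⟨ψ, fun i => (congrArg ψ (hΘ P.generators.I i) :).trans (hψ i)⟩
  · refine (congrArg (appO (phom (R := R₂) u') (topX hf E)) (hΘ P.relations.I k).symm :).trans ?_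
    exact (push_map_app_apply (PullQC.postRing E F θ) hu' (op (topY E)) (basisAt (R := R₁) (topY E) k)).trans
      (comp_app_apply (rfl : u ≫ Θ P.generators.I = _) (op (topY E)) (basisAt (R := R₁) (topY E) k)).symm
  · exact comp_app_apply h0 (op (topY E)) (basisAt (R := R₁) (topY E) k)
  · exact (push_map_app_apply (PullQC.postRing E F θ) hc (op (topY E)) (basisAt (R := R₁) (topY E) i)).trans
      (comp_app_apply (rfl : π ≫ η₀ = _) (op (topY E)) (basisAt (R := R₁) (topY E) i)).symm
  · exact ((push_map_app_apply (PullQC.postRing E F θ) hk₁ (op (topY E))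
      (appO (phom (R := R₁) π) (topY E) (basisAt (R := R₁) (topY E) i))).trans
      (comp_app_apply hπa (op (topY E)) (basisAt (R := R₁) (topY E) i))).trans
      (push_map_app_apply (PullQC.postRing E F θ) (rfl : Θ P.generators.I ≫ pT.map (cokernel.π u') = _)
        (op (topY E)) (basisAt (R := R₁) (topY E) i)).symm

set_option maxHeartbeats 1600000 in
/-- Over an affine object with affine base change the sections of a pullback are the extension of scalars. -/
theorem exists_pullSec_equiv (G : ModEt Y) [G.IsQuasicoherent] {E : EtOver Y} (hE : IsAff Y E)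
    (hFE : IsAff X (EtOver.bcObj hf E)) :
    letI : Algebra (AlgSpQC10.A E) (AlgSpQC10.A (EtOver.bcObj hf E)) := (topMap hf E).toAlgebra
    Nonempty (AlgSpQC10.A (EtOver.bcObj hf E) ⊗[AlgSpQC10.A E] AlgSpQC10.Msec G E ≃ₗ[AlgSpQC10.A (EtOver.bcObj hf E)]
      AlgSpQC10.Msec ((pullModEt hf).obj G) (EtOver.bcObj hf E)) := by
  obtain ⟨η, hη, hb⟩ := pullSec_bijective hf G hE hFE
  exact ⟨LinearEquiv.ofBijective _ hb⟩

end Groth.Agent.QCart
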