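import Groth.Agent.AlgSpQC10.PushModAdj
import Groth.Agent.AlgSpQC10.PullSec
import Groth.Agent.AlgSpQC10.FP
import Groth.Agent.AlgSpMor.CoherentColim
import Groth.Agent.AlgSpMor.PushCart
import Groth.Agent.AlgSpMor.Glue
import Groth.Agent.AlgSpDec.AffineRep
import Groth.Agent.QCart.EtPull
import Groth.Agent.QCart.Colim
import Mathlib.Algebra.Category.ModuleCat.FilteredColimits
import Mathlib.Algebra.Module.FinitePresentation

/-!
# Quasi-coherent modules on a space affine over a Noetherian space are colimits of finitely presented modules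
-/

universe u

set_option autoImplicit false
set_option linter.style.haveILetI false
set_option linter.unusedSectionVars false
set_option backward.isDefEq.respectTransparency false
set_option backward.isDefEq.respectTransparency.types false

open CategoryTheory CategoryTheory.Limits AlgebraicGeometry Opposite AlgSp TensorProduct
open Groth.Agent.AlgSpMor Groth.Agent.AlgSpLib Groth.Agent.AlgSpPts

namespace Groth.Agent.AlgSpQC10.FPColim

variable {S : Scheme.{u}}

section Space

variable {X : Sp S} {E₀ : EtOver X} [hE₀ : IsAffine E₀.obj.left.left]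
  (hcov : ∀ x, x ∈ Set.range (Points.ofPt E₀.obj.hom))

theorem isQuasicoherent_cokernel {N N' : ModEt X} [N.IsQuasicoherent] [N'.IsQuasicoherent] (φ : N ⟶ N') :
    (cokernel φ).IsQuasicoherent :=
  (QCart.isQuasicoherent_iff X _).2 ((isCart N).cokernel (R := OEt X) φ (isCart N'))

theorem isQuasicoherent_kernel {N N' : ModEt X} [N.IsQuasicoherent] [N'.IsQuasicoherent] (φ : N ⟶ N') :
    (kernel φ).IsQuasicoherent :=
  (QCart.isQuasicoherent_iff X _).2 ((isCart N).kernel (R := OEt X) φ (isCart N'))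

include hcov in
/-- A morphism of quasi-coherent modules vanishing on a covering affine object vanishes. -/
theorem eq_zero_of_ap (hA : IsAlgSpace X) {N N' : ModEt X} [N.IsQuasicoherent] [N'.IsQuasicoherent] (φ : N ⟶ N')
    (h : ∀ x, ap φ E₀ x = 0) : φ = 0 := by
  haveI := isQuasicoherent_kernel φ
  have hb : Function.Bijective (ap (kernel.ι φ) E₀) :=
    ⟨QCart.injective_app_of_mono (R := OEt X) _ E₀, fun x => by
      haveI : Mono (ShortComplex.mk (kernel.ι φ) φ (kernel.condition φ)).f := inferInstanceAs (Mono (kernel.ι φ))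
      exact QCart.exists_app_eq_of_exact (R := OEt X) (ShortComplex.mk (kernel.ι φ) φ (kernel.condition φ))
        (ShortComplex.exact_kernel φ) x (h x)⟩
  haveI : IsIso (kernel.ι φ) := AlgSpMor.isIso_of_bijective_ap _ fun E =>
    bijective_ap_of_range hA _ hb E fun x _ => hcov x
  rw [← cancel_epi (kernel.ι φ), kernel.condition, comp_zero]

include hcov in
/-- Finite presentation is read on a covering affine object. -/
theorem isFinitePresentation_of_covering (N : ModEt X) [N.IsQuasicoherent]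
    [Module.FinitePresentation (A E₀) (Msec N E₀)] : N.IsFinitePresentation := by
  let I := { E : EtOver X // IsAffine E.obj.left.left ∧ Nonempty (E ⟶ E₀) }
  have hfp : ∀ E : I, Module.FinitePresentation (A E.1) (Msec N E.1) := fun E => by
    obtain ⟨a⟩ := E.2.2
    haveI : Module.FinitePresentation (QCart.Rg (OEt X).obj a)
        (QCart.Rg (OEt X).obj a ⊗[(OEt X).obj.obj (op E₀)] (QCart.psh (R := OEt X) N).obj (op E₀)) :=
      haveI : Module.FinitePresentation ((OEt X).obj.obj (op E₀)) ((QCart.psh (R := OEt X) N).obj (op E₀)) :=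
        ‹Module.FinitePresentation (A E₀) (Msec N E₀)›
      inferInstance
    have := Module.FinitePresentation.of_equiv
      (LinearEquiv.ofBijective (QCart.bcMap a (QCart.psh (R := OEt X) N)) (isCart N hE₀ E.2.1 a))
    exact this
  choose P hP using fun E : I =>
    exists_presentation_of_fp (R := (OEt X).over E.1) (T := CategoryTheory.Over.mk (𝟙 E.1))
      CategoryTheory.Over.mkIdTerminal (b := (QCart.etBasis X).over E.1) E.2.1 ((isCart N).over E.1) (hfp E)
  let Q : SheafOfModules.QuasicoherentData.{u + 1} (R := OEtRing X) N :=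
    { I := I
      X := fun E => E.1
      coversTop := fun W => by
        refine (etTop X).transitive (sieve_to_cover_mem hcov W) _ fun W' f hf => ?_
        refine (etTop X).superset_covering ?_ ((QCart.etBasis X).dense W')
        rintro Z g ⟨B, p, q, hB, rfl⟩
        obtain ⟨-, l, -⟩ := (Sieve.mem_ofArrows_iff _ _ _).1 hf
        exact (Sieve.mem_ofObjects_iff ..).2 ⟨⟨B, hB, ⟨q ≫ l ≫ EtOver.prodSnd W E₀⟩⟩, ⟨p⟩⟩
      presentation := P }
  refine { exists_quasicoherentData := ?_ }
  refine ⟨Q, ?_⟩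
  constructor
  exact hP

/-- Surjectivity and kernel of a cokernel on an affine object. -/
theorem ap_cokernel {N N' : ModEt X} [N.IsQuasicoherent] [N'.IsQuasicoherent] (φ : N ⟶ N') :
    Function.Surjective (ap (cokernel.π φ) E₀) ∧
      LinearMap.ker (ap (cokernel.π φ) E₀) = LinearMap.range (ap φ E₀) := by
  haveI := isQuasicoherent_cokernel φ
  haveI := isQuasicoherent_kernel (cokernel.π φ)
  let T := ShortComplex.mk (kernel.ι (cokernel.π φ)) (cokernel.π φ) (kernel.condition _)
  have hT : T.ShortExact := { exact := ShortComplex.exact_kernel (cokernel.π φ) }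
  have hsurj : Function.Surjective (ap (cokernel.π φ) E₀) :=
    (isCart T.X₁).surjective_app (R := OEt X) hT hE₀
  refine ⟨hsurj, le_antisymm (fun x hx => ?_) ?_⟩
  · let τ : N ⟶ kernel (cokernel.π φ) := Abelian.factorThruImage φ
    let U := ShortComplex.mk (kernel.ι τ) τ (kernel.condition τ)
    haveI := isQuasicoherent_kernel τ
    have hU : U.ShortExact := { exact := ShortComplex.exact_kernel τ }
    haveI : Mono T.f := hT.mono_f
    obtain ⟨y, hy⟩ := QCart.exists_app_eq_of_exact (R := OEt X) T hT.exact x hx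
    obtain ⟨z, hz⟩ := (isCart U.X₁).surjective_app (R := OEt X) hU hE₀ y
    refine ⟨z, ?_⟩
    rw [← hy, ← hz, ← Abelian.image.fac φ]
    rfl
  · rintro _ ⟨y, rfl⟩
    have := congrArg (fun k => ap k E₀ y) (cokernel.condition φ)
    exact this.trans rfl

/-- A cokernel of a map from finite sections to finitely presented sections has finitely presented sections. -/
theorem finitePresentation_cokernel {N N' : ModEt X} [N.IsQuasicoherent] [N'.IsQuasicoherent] (φ : N ⟶ N')
    [Module.Finite (A E₀) (Msec N E₀)] [Module.FinitePresentation (A E₀) (Msec N' E₀)] :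
    Module.FinitePresentation (A E₀) (Msec (cokernel φ) E₀) := by
  obtain ⟨h₁, h₂⟩ := ap_cokernel (E₀ := E₀) φ
  refine Module.finitePresentation_of_surjective _ h₁ ?_
  rw [h₂, LinearMap.range_eq_map]
  exact Submodule.FG.map _ Module.Finite.fg_top

/-- Over an affine object sections of a filtered colimit come from a stage. -/
theorem exists_rep {J : Type (u + 1)} [SmallCategory J] [IsFiltered J] (D : J ⥤ ModEt X) (c : Cocone D)
    (hc : IsColimit c) (hD : ∀ j, (D.obj j).IsQuasicoherent) (y : Msec c.pt E₀) :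
    ∃ (j : J) (a : Msec (D.obj j) E₀), ap (c.ι.app j) E₀ a = y := by
  let D' : J ⥤ PresheafOfModules.{u + 1} (OEtRing X).obj := D ⋙ SheafOfModules.forget _
  let adj := PresheafOfModules.sheafificationAdjunction (R := OEtRing X) (𝟙 (OEtRing X).obj)
  let L := PresheafOfModules.sheafification (R := OEtRing X) (𝟙 (OEtRing X).obj)
  let hcP := colimit.isColimit D'
  haveI := adj.leftAdjoint_preservesColimits.{u + 1, u + 1}
  let hs := isColimitOfPreserves L hcP
  let e : D' ⋙ L ≅ D := Functor.isoWhiskerLeft D (asIso adj.counit)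
  let φ : colimit D' ⟶ (SheafOfModules.forget _).obj c.pt :=
    colimit.desc D' ((SheafOfModules.forget _).mapCocone c)
  let ψ : L.obj (colimit D') ⟶ c.pt := (adj.homEquiv _ _).symm φ
  have hψ : ψ = (hs.coconePointsIsoOfNatIso hc e).hom := hs.hom_ext fun k => by
    rw [IsColimit.comp_coconePointsIsoOfNatIso_hom]
    show L.map (colimit.ι D' k) ≫ ψ = adj.counit.app (D.obj k) ≫ c.ι.app k
    rw [← Adjunction.homEquiv_naturality_left_symm,
      show colimit.ι D' k ≫ φ = (SheafOfModules.forget _).map (c.ι.app k) from colimit.ι_desc _ _,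
      Adjunction.homEquiv_counit]
    exact adj.counit.naturality (c.ι.app k)
  have hcart : (QCart.etBasis X).IsCart (colimit D') :=
    (QCart.etBasis X).isCart_colimit D' (colimit.cocone _) hcP fun k => haveI := hD k; isCart (D.obj k)
  have h1 : φ = QCart.toShf (R := OEt X) (colimit D') ≫ ψ.val := by
    refine Eq.trans ?_ (Adjunction.homEquiv_unit (adj := adj) (f := ψ))
    exact ((adj.homEquiv _ _).apply_symm_apply φ).symm
  have h2 := hcart.bijective_app (QCart.toShf (R := OEt X) (colimit D')) hE₀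
  haveI : IsIso ((SheafOfModules.evaluation (QCart.RS.{u + 1, u, u + 1} (OEt X)) (op E₀)).map ψ) := by rw [hψ]; infer_instance
  have h3 : Function.Bijective (ψ.val.app (op E₀)) :=
    ConcreteCategory.bijective_of_isIso ((SheafOfModules.evaluation (QCart.RS.{u + 1, u, u + 1} (OEt X)) (op E₀)).map ψ)
  have h4 : Function.Surjective (φ.app (op E₀)) := by
    rw [h1]
    exact h3.surjective.comp h2.surjective
  obtain ⟨y', hy'⟩ := h4 y
  obtain ⟨k, a, ha⟩ := Concrete.isColimit_exists_rep _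
    (isColimitOfPreserves (PresheafOfModules.evaluation (QCart.RS.{u + 1, u, u + 1} (OEt X)).obj (op E₀)) hcP) y'
  refine ⟨k, a, ?_⟩
  rw [← hy', ← ha]
  exact congrArg (fun t => t.app (op E₀) a) (colimit.ι_desc ((SheafOfModules.forget _).mapCocone c) k).symm

include hcov in
/-- Criterion for a filtered colimit of quasi-coherent modules. -/
theorem nonempty_isColimit_of_sections (hA : IsAlgSpace X) {J : Type (u + 1)} [SmallCategory J] [IsFiltered J]
    (D : J ⥤ ModEt X) (c : Cocone D) (hD : ∀ j, (D.obj j).IsQuasicoherent) (hM : c.pt.IsQuasicoherent)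
    (hsurj : ∀ m : Msec c.pt E₀, ∃ (j : J) (a : Msec (D.obj j) E₀), ap (c.ι.app j) E₀ a = m)
    (hinj : ∀ (j : J) (a : Msec (D.obj j) E₀), ap (c.ι.app j) E₀ a = 0 →
      ∃ (j' : J) (t : j ⟶ j'), ap (D.map t) E₀ a = 0) :
    Nonempty (IsColimit c) := by
  haveI := hM
  haveI : (colimit.cocone D).pt.IsQuasicoherent := (QCart.isQuasicoherent_iff X _).2
    ((QCart.etBasis X).isCart_colimit_sheaf (R := OEt X) D (colimit.cocone D) (colimit.isColimit D)
      fun k => haveI := hD k; isCart (D.obj k))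
  let κ : (colimit.cocone D).pt ⟶ c.pt := colimit.desc D c
  have hκ : ∀ j (a : Msec (D.obj j) E₀), ap κ E₀ (ap (colimit.ι D j) E₀ a) = ap (c.ι.app j) E₀ a := fun j a =>
    congrArg (fun k => ap k E₀ a) (colimit.ι_desc c j)
  have hb : Function.Bijective (ap κ E₀) := by
    refine ⟨(injective_iff_map_eq_zero _).2 fun y hy => ?_, fun m => ?_⟩
    · obtain ⟨j, a, rfl⟩ := exists_rep D _ (colimit.isColimit D) hD y
      obtain ⟨j', t, ht⟩ := hinj j a ((hκ j a).symm.trans hy)
      show ap (colimit.ι D j) E₀ a = 0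
      rw [← colimit.w D t]
      exact (congrArg (ap (colimit.ι D j') E₀) ht).trans (map_zero _)
    · obtain ⟨j, a, rfl⟩ := hsurj m
      exact ⟨_, hκ j a⟩
  haveI : IsIso κ := AlgSpMor.isIso_of_bijective_ap _ fun E =>
    bijective_ap_of_range hA _ hb E fun x _ => hcov x
  exact ⟨IsColimit.ofPointIso (colimit.isColimit D) (i := (inferInstanceAs (IsIso κ)))⟩

end Space

section Affine

variable [QuasiSeparatedSpace ↥S] {X Y : Sp S} (hX : IsAlgSpace X) (hY : IsAlgSpace Y) {f : X ⟶ Y}
  (hf : Representable f) [(SheafOfModules.pushforward.{u + 1} (bcRingHom hf)).IsRightAdjoint]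
  (haff : IsAffineMor f) (hqs : IsQuasiSeparatedSp Y) (hN : IsLocNoethSp Y) {E₁ : EtOver Y}
  [hE₁ : IsAffine E₁.obj.left.left] (hcov : ∀ y, y ∈ Set.range (Points.ofPt E₁.obj.hom))

include hcov in
theorem covers_bcObj (x : Points X) : x ∈ Set.range (Points.ofPt (EtOver.bcObj hf E₁).obj.hom) := by
  obtain ⟨v, hv⟩ := hcov (Points.map f x)
  obtain ⟨w, hw, -⟩ := exists_lift (EtOver.isPullback_bcObj hf E₁) (x := x) (t := v) hv.symm
  exact ⟨w, (congrArg (fun k => Points.ofPt k w) (EtOver.bcObj_obj_hom hf E₁)).trans hw⟩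

include hY haff hN in
theorem finitePresentation_pull (G : ModEt Y) [G.IsFinitePresentation] :
    Module.FinitePresentation (A (EtOver.bcObj hf E₁)) (Msec ((pullModEt hf).obj G) (EtOver.bcObj hf E₁)) := by
  haveI hB := isAffine_bcObj hf haff E₁
  haveI : IsNoetherianRing (A E₁) := isNoetherianRing_A hN E₁
  haveI : Module.Finite (A E₁) (Msec G E₁) := finite_Msec G E₁
  haveI : Module.FinitePresentation (A E₁) (Msec G E₁) := Module.finitePresentation_of_finite _ _
  letI : Algebra (A E₁) (A (EtOver.bcObj hf E₁)) := (QCart.topMap hf E₁).toAlgebra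
  obtain ⟨e⟩ := QCart.exists_pullSec_equiv hf G hE₁ hB
  exact Module.FinitePresentation.of_equiv e

include hY haff hqs hN hcov in
/-- Finitely many sections lie in the image of a finitely presented module. -/
theorem exists_fp_map (N : ModEt X) [N.IsQuasicoherent] (s : Finset (Msec N (EtOver.bcObj hf E₁))) :
    ∃ (P : ModEt X) (q : P ⟶ N), P.IsQuasicoherent ∧
      Module.FinitePresentation (A (EtOver.bcObj hf E₁)) (Msec P (EtOver.bcObj hf E₁)) ∧
      ∀ x ∈ s, x ∈ LinearMap.range (ap q (EtOver.bcObj hf E₁)) := by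
  haveI := isQuasicoherent_push_of_isAffineMor hf haff N
  obtain ⟨G, ι, -, hG, hs⟩ := exists_coherent_sub hqs hN ((pushModEt hf).obj N) hcov s
  haveI := hG
  let adj := pullPushAdjModEt hf
  refine ⟨_, (adj.homEquiv G N).symm ι, QCart.isQuasicoherent_pullModEt hf hY G,
    finitePresentation_pull hY hf haff hN G, fun x hx => ?_⟩
  obtain ⟨g, hg⟩ := hs x hx
  refine ⟨ap (adj.unit.app G) E₁ g, ?_⟩
  rw [← hg]
  conv_rhs => rw [← (adj.homEquiv G N).apply_symm_apply ι, Adjunction.homEquiv_unit]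
  rfl

variable (M : ModEt X) [hM : M.IsQuasicoherent]

/-- The indices: a coherent submodule of the direct image and relations between its pullback and the module. -/
structure Idx where
  /-- The sections of the submodule. -/
  N : Submodule (A E₁) (Msec ((pushModEt hf).obj M) E₁)
  hN : ∃ (G : ModEt Y) (ι : G ⟶ (pushModEt hf).obj M), Mono ι ∧ G.IsFinitePresentation ∧
    LinearMap.range (ap ι E₁) = N
  /-- The sections of the relations. -/
  R : Submodule (A (EtOver.bcObj hf E₁)) (Msec ((pullModEt hf).obj hN.choose) (EtOver.bcObj hf E₁))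
  hR : ∃ (P : ModEt X) (g : P ⟶ (pullModEt hf).obj hN.choose), P.IsQuasicoherent ∧
    Module.FinitePresentation (A (EtOver.bcObj hf E₁)) (Msec P (EtOver.bcObj hf E₁)) ∧
    g ≫ ((pullPushAdjModEt hf).homEquiv _ _).symm hN.choose_spec.choose = 0 ∧
    LinearMap.range (ap g (EtOver.bcObj hf E₁)) = R

namespace Idx

variable {hf M} (i : Idx (E₁ := E₁) hf M)

/-- The coherent submodule of an index. -/
noncomputable abbrev G : ModEt Y := i.hN.choose
/-- Its inclusion. -/
noncomputable abbrev ι : i.G ⟶ (pushModEt hf).obj M := i.hN.choose_spec.choose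
theorem fp : i.G.IsFinitePresentation := i.hN.choose_spec.choose_spec.2.1
theorem mono : Mono i.ι := i.hN.choose_spec.choose_spec.1
/-- Its pullback. -/
noncomputable abbrev P : ModEt X := (pullModEt hf).obj i.G
/-- The map to the module. -/
noncomputable abbrev q : i.P ⟶ M := ((pullPushAdjModEt hf).homEquiv _ _).symm i.ι
/-- The relations. -/
noncomputable abbrev rel : ModEt X := i.hR.choose
/-- The map of the relations. -/
noncomputable abbrev g : i.rel ⟶ i.P := i.hR.choose_spec.choose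
theorem qc_rel : i.rel.IsQuasicoherent := i.hR.choose_spec.choose_spec.1
theorem fp_rel : Module.FinitePresentation (A (EtOver.bcObj hf E₁)) (Msec i.rel (EtOver.bcObj hf E₁)) :=
  i.hR.choose_spec.choose_spec.2.1
theorem g_q : i.g ≫ i.q = 0 := i.hR.choose_spec.choose_spec.2.2.1
theorem range_g : LinearMap.range (ap i.g (EtOver.bcObj hf E₁)) = i.R := i.hR.choose_spec.choose_spec.2.2.2

/-- A transition. -/
def Le (i j : Idx (E₁ := E₁) hf M) : Prop :=
  ∃ k : i.G ⟶ j.G, k ≫ j.ι = i.ι ∧
    ∀ x ∈ i.R, ap ((pullModEt hf).map k) (EtOver.bcObj hf E₁) x ∈ j.R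

instance : Preorder (Idx (E₁ := E₁) hf M) where
  le := Le
  le_refl i := ⟨𝟙 _, Category.id_comp _, fun x hx => by rwa [(pullModEt hf).map_id]⟩
  le_trans i j l := by
    rintro ⟨a, ha, ha'⟩ ⟨b, hb, hb'⟩
    exact ⟨a ≫ b, by rw [Category.assoc, hb, ha], fun x hx => by
      rw [(pullModEt hf).map_comp]; exact hb' _ (ha' x hx)⟩

/-- The module of an index. -/
noncomputable abbrev obj : ModEt X := cokernel i.g

/-- The map of pullbacks of a transition. -/
noncomputable abbrev trans {i j : Idx (E₁ := E₁) hf M} (h : i ≤ j) : i.P ⟶ j.P :=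
  (pullModEt hf).map h.choose

theorem trans_q {i j : Idx (E₁ := E₁) hf M} (h : i ≤ j) : trans h ≫ j.q = i.q := by
  rw [trans, q, q, ← Adjunction.homEquiv_naturality_left_symm, h.choose_spec.1]

theorem trans_eq {i j : Idx (E₁ := E₁) hf M} (h : i ≤ j) (k : i.G ⟶ j.G) (hk : k ≫ j.ι = i.ι) :
    trans h = (pullModEt hf).map k := by
  haveI := j.mono
  rw [trans, (cancel_mono j.ι).1 (h.choose_spec.1.trans hk.symm)]

end Idx

open Idx

variable {M}

include hX hY hcov haff in
theorem g_trans {i j : Idx (E₁ := E₁) hf M} (h : i ≤ j) : i.g ≫ trans h ≫ cokernel.π j.g = 0 := by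
  haveI := isAffine_bcObj hf haff E₁
  haveI := i.qc_rel
  haveI := j.qc_rel
  haveI : j.P.IsQuasicoherent := haveI := j.fp; QCart.isQuasicoherent_pullModEt hf hY j.G
  haveI : (cokernel j.g).IsQuasicoherent := isQuasicoherent_cokernel j.g
  refine eq_zero_of_ap (covers_bcObj hf hcov) hX _ fun x => ?_
  have h1 : ap i.g (EtOver.bcObj hf E₁) x ∈ i.R := i.range_g ▸ ⟨x, rfl⟩
  obtain ⟨y, hy⟩ := j.range_g.symm.le (h.choose_spec.2 _ h1)
  show ap (cokernel.π j.g) _ (ap (trans h) _ (ap i.g _ x)) = 0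
  rw [← hy]
  exact (congrArg (fun k => ap k (EtOver.bcObj hf E₁) y) (cokernel.condition j.g)).trans rfl


variable (M) in
/-- The adjoint of a morphism to a direct image. -/
noncomputable abbrev qmap {G : ModEt Y} (ι : G ⟶ (pushModEt hf).obj M) : (pullModEt hf).obj G ⟶ M :=
  ((pullPushAdjModEt hf).homEquiv _ _).symm ι

theorem qmap_comp {G G' : ModEt Y} (ι : G ⟶ (pushModEt hf).obj M) (ι' : G' ⟶ (pushModEt hf).obj M) (k : G ⟶ G')
    (hk : k ≫ ι' = ι) : (pullModEt hf).map k ≫ qmap hf M ι' = qmap hf M ι :=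
  ((pullPushAdjModEt hf).homEquiv_naturality_left_symm k ι').symm.trans
    (congrArg ((pullPushAdjModEt hf).homEquiv _ _).symm hk)

theorem ap_qmap_unit {G : ModEt Y} (ι : G ⟶ (pushModEt hf).obj M) (y : Msec G E₁) :
    ap (qmap hf M ι) (EtOver.bcObj hf E₁) (ap ((pullPushAdjModEt hf).unit.app G) E₁ y) = ap ι E₁ y := by
  conv_rhs => rw [← ((pullPushAdjModEt hf).homEquiv G M).apply_symm_apply ι, Adjunction.homEquiv_unit]
  rfl

omit hE₁ in
theorem ap_eq_zero_of_comp {N₁ N₂ N₃ : ModEt X} {a : N₁ ⟶ N₂} {c : N₂ ⟶ N₃} (h : a ≫ c = 0) {E : EtOver X}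
    (x : Msec N₁ E) : ap c E (ap a E x) = 0 :=
  (congrArg (fun t => ap t E x) h).trans rfl

omit hE₁ in
theorem ap_comp {N₁ N₂ N₃ : ModEt X} {a : N₁ ⟶ N₂} {c : N₂ ⟶ N₃} {d : N₁ ⟶ N₃} (h : a ≫ c = d) {E : EtOver X}
    (x : Msec N₁ E) : ap c E (ap a E x) = ap d E x :=
  congrArg (fun t => ap t E x) h

include hY haff hqs hN hcov hM in
/-- An index with given submodule containing given relations. -/
theorem exists_idx {G : ModEt Y} (ι : G ⟶ (pushModEt hf).obj M) (hι : Mono ι) (hG : G.IsFinitePresentation)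
    (K : (G' : ModEt Y) → (G' ⟶ (pushModEt hf).obj M) → Finset (Msec ((pullModEt hf).obj G') (EtOver.bcObj hf E₁)))
    (hK : ∀ (G' : ModEt Y) (ι' : G' ⟶ (pushModEt hf).obj M),
      ∀ x ∈ K G' ι', ap (qmap hf M ι') (EtOver.bcObj hf E₁) x = 0) :
    ∃ j : Idx (E₁ := E₁) hf M, LinearMap.range (ap j.ι E₁) = LinearMap.range (ap ι E₁) ∧
      ∀ x ∈ K j.G j.ι, x ∈ j.R := by
  classical
  haveI := isAffine_bcObj hf haff E₁
  let E₀ := EtOver.bcObj hf E₁
  let hN' : ∃ (G' : ModEt Y) (ι' : G' ⟶ (pushModEt hf).obj M), Mono ι' ∧ G'.IsFinitePresentation ∧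
    LinearMap.range (ap ι' E₁) = LinearMap.range (ap ι E₁) := ⟨G, ι, hι, hG, rfl⟩
  haveI : hN'.choose.IsFinitePresentation := hN'.choose_spec.choose_spec.2.1
  haveI : ((pullModEt hf).obj hN'.choose).IsQuasicoherent := QCart.isQuasicoherent_pullModEt hf hY _
  let q := qmap hf M hN'.choose_spec.choose
  haveI := isQuasicoherent_kernel q
  haveI : Mono (ShortComplex.mk (kernel.ι q) q (kernel.condition q)).f := inferInstanceAs (Mono (kernel.ι q))
  choose y hy using fun x : { x // x ∈ K hN'.choose hN'.choose_spec.choose } =>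
    QCart.exists_app_eq_of_exact (R := OEt X) (ShortComplex.mk (kernel.ι q) q (kernel.condition q))
      (ShortComplex.exact_kernel q) x.1 (hK _ _ x.1 x.2)
  obtain ⟨P', g', hP', hP'fp, hg'⟩ := exists_fp_map hY hf haff hqs hN hcov (kernel q)
    (((K hN'.choose hN'.choose_spec.choose).attach.image y))
  have h0 : (g' ≫ kernel.ι q) ≫ q = 0 := by
    rw [Category.assoc, kernel.condition, comp_zero]
  let j : Idx (E₁ := E₁) hf M :=
    { N := LinearMap.range (ap ι E₁)
      hN := hN'
      R := LinearMap.range (ap (g' ≫ kernel.ι q) (EtOver.bcObj hf E₁))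
      hR := ⟨P', g' ≫ kernel.ι q, hP', hP'fp, h0, rfl⟩ }
  refine ⟨j, hN'.choose_spec.choose_spec.2.2, fun x hx => ?_⟩
  obtain ⟨z, hz⟩ := hg' (y ⟨x, hx⟩) (Finset.mem_image_of_mem y (Finset.mem_attach _ _))
  exact LinearMap.mem_range.2 ⟨z, (ap_comp (rfl : g' ≫ kernel.ι q = _) z).symm.trans
    ((congrArg (ap (kernel.ι q) (EtOver.bcObj hf E₁)) hz).trans (hy ⟨x, hx⟩))⟩

include hY hcov in
theorem exists_factor (i : Idx (E₁ := E₁) hf M) (haff : IsAffineMor f) (hM : M.IsQuasicoherent) {G : ModEt Y}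
    (ι : G ⟶ (pushModEt hf).obj M) (hι : Mono ι) (hG : G.IsFinitePresentation)
    (h : LinearMap.range (ap i.ι E₁) ≤ LinearMap.range (ap ι E₁)) : ∃ k : i.G ⟶ G, k ≫ ι = i.ι := by
  haveI := hM
  haveI := isQuasicoherent_push_of_isAffineMor hf haff M
  haveI := hι
  haveI := hG
  haveI := i.fp
  exact exists_le_of_range hcov hY i.ι ι h

/-- A transition from its values on generators of the relations. -/
theorem le_of_generators {i j : Idx (E₁ := E₁) hf M} (k : i.G ⟶ j.G) (hk : k ≫ j.ι = i.ι)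
    (r : Finset (Msec i.rel (EtOver.bcObj hf E₁))) (hr : Submodule.span (A (EtOver.bcObj hf E₁)) (r : Set (Msec i.rel (EtOver.bcObj hf E₁))) = ⊤)
    (h : ∀ z ∈ r, ap ((pullModEt hf).map k) (EtOver.bcObj hf E₁) (ap i.g (EtOver.bcObj hf E₁) z) ∈ j.R) :
    i ≤ j := by
  refine ⟨k, hk, fun x hx => ?_⟩
  rw [← i.range_g, LinearMap.range_eq_map, ← hr, Submodule.map_span] at hx
  refine (Submodule.span_le.2 ?_ : Submodule.span (A (EtOver.bcObj hf E₁))
    (ap i.g (EtOver.bcObj hf E₁) '' (r : Set _)) ≤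
      Submodule.comap (ap ((pullModEt hf).map k) (EtOver.bcObj hf E₁)) j.R) hx
  rintro _ ⟨z, hz, rfl⟩
  exact h z hz

include hY haff hqs hN hcov hM in
theorem isDirected : IsDirected (Idx (E₁ := E₁) hf M) (· ≤ ·) := by
  classical
  refine ⟨fun i i' => ?_⟩
  haveI := isQuasicoherent_push_of_isAffineMor hf haff M
  haveI := i.fp
  haveI := i'.fp
  obtain ⟨s, hs⟩ := (finite_Msec i.G E₁).fg_top
  obtain ⟨s', hs'⟩ := (finite_Msec i'.G E₁).fg_top
  obtain ⟨G, ι, hι, hG, hsG⟩ := exists_coherent_sub hqs hN ((pushModEt hf).obj M) hcov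
    (s.image (ap i.ι E₁) ∪ s'.image (ap i'.ι E₁))
  have hNle : ∀ (l : Idx (E₁ := E₁) hf M) (t : Finset (Msec l.G E₁)), Submodule.span (A E₁) (t : Set (Msec l.G E₁)) = ⊤ →
      (∀ x ∈ t, ap l.ι E₁ x ∈ LinearMap.range (ap ι E₁)) →
        LinearMap.range (ap l.ι E₁) ≤ LinearMap.range (ap ι E₁) := by
    intro l t ht htG
    rw [LinearMap.range_eq_map, ← ht, Submodule.map_span, Submodule.span_le]
    rintro _ ⟨x, hx, rfl⟩
    exact htG x hx
  have l₁ := hNle i s hs fun x hx => hsG _ (Finset.mem_union_left _ (Finset.mem_image_of_mem _ hx))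
  have l₂ := hNle i' s' hs' fun x hx => hsG _ (Finset.mem_union_right _ (Finset.mem_image_of_mem _ hx))
  obtain ⟨r, hr⟩ := (haveI := i.fp_rel; Module.Finite.fg_top :
    (⊤ : Submodule (A (EtOver.bcObj hf E₁)) (Msec i.rel (EtOver.bcObj hf E₁))).FG)
  obtain ⟨r', hr'⟩ := (haveI := i'.fp_rel; Module.Finite.fg_top :
    (⊤ : Submodule (A (EtOver.bcObj hf E₁)) (Msec i'.rel (EtOver.bcObj hf E₁))).FG)
  obtain ⟨K, hKdef⟩ : ∃ K : (G' : ModEt Y) → (G' ⟶ (pushModEt hf).obj M) →
      Finset (Msec ((pullModEt hf).obj G') (EtOver.bcObj hf E₁)), K = fun G' ι' =>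
        if h : (∃ k : i.G ⟶ G', k ≫ ι' = i.ι) ∧ ∃ k : i'.G ⟶ G', k ≫ ι' = i'.ι then
          r.image (fun x => ap ((pullModEt hf).map h.1.choose) _ (ap i.g _ x)) ∪
            r'.image (fun x => ap ((pullModEt hf).map h.2.choose) _ (ap i'.g _ x))
        else ∅ := ⟨_, rfl⟩
  have hzero : ∀ (l : Idx (E₁ := E₁) hf M) {G' : ModEt Y} (ι' : G' ⟶ (pushModEt hf).obj M) (k : l.G ⟶ G'),
      k ≫ ι' = l.ι → ∀ x, ap (qmap hf M ι') (EtOver.bcObj hf E₁)
        (ap ((pullModEt hf).map k) (EtOver.bcObj hf E₁) (ap l.g (EtOver.bcObj hf E₁) x)) = 0 := fun l G' ι' k hk x =>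
    (ap_comp (qmap_comp hf l.ι ι' k hk) _).trans (ap_eq_zero_of_comp l.g_q x)
  obtain ⟨j, hjN, hjK⟩ := exists_idx hY hf haff hqs hN hcov ι hι hG K fun G' ι' x hx => by
    rw [hKdef] at hx
    by_cases h : (∃ k : i.G ⟶ G', k ≫ ι' = i.ι) ∧ ∃ k : i'.G ⟶ G', k ≫ ι' = i'.ι
    · simp only [dif_pos h] at hx
      rcases Finset.mem_union.1 hx with hx | hx <;> obtain ⟨z, -, rfl⟩ := Finset.mem_image.1 hx
      exacts [hzero i ι' _ h.1.choose_spec z, hzero i' ι' _ h.2.choose_spec z]
    · simp only [dif_neg h] at hx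
      exact absurd hx (Finset.notMem_empty x)
  have e₁ := exists_factor hY hf hcov i haff hM j.ι j.mono j.fp (hjN ▸ l₁)
  have e₂ := exists_factor hY hf hcov i' haff hM j.ι j.mono j.fp (hjN ▸ l₂)
  have hK : K j.G j.ι = _ := (congrFun (congrFun hKdef j.G) j.ι).trans (dif_pos ⟨e₁, e₂⟩)
  exact ⟨j,
    le_of_generators hf e₁.choose e₁.choose_spec r hr fun z hz =>
      hjK _ (hK ▸ Finset.mem_union_left _ (Finset.mem_image.2 ⟨z, hz, rfl⟩)),
    le_of_generators hf e₂.choose e₂.choose_spec r' hr' fun z hz =>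
      hjK _ (hK ▸ Finset.mem_union_right _ (Finset.mem_image.2 ⟨z, hz, rfl⟩))⟩

variable (M) in
/-- The diagram of the indices. -/
noncomputable def diagram : Idx (E₁ := E₁) hf M ⥤ ModEt X where
  obj i := i.obj
  map {i j} h := cokernel.desc i.g (trans (leOfHom h) ≫ cokernel.π j.g)
    (g_trans hX hY hf haff hcov (leOfHom h))
  map_id i := by
    rw [← cancel_epi (cokernel.π i.g), cokernel.π_desc, trans_eq _ (𝟙 _) (Category.id_comp _),
      (pullModEt hf).map_id, Category.id_comp]
    exact (Category.comp_id _).symm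
  map_comp {i j l} a b := by
    rw [← cancel_epi (cokernel.π i.g), cokernel.π_desc, cokernel.π_desc_assoc, Category.assoc,
      cokernel.π_desc, trans_eq _ ((leOfHom a).choose ≫ (leOfHom b).choose) (by
        rw [Category.assoc, (leOfHom b).choose_spec.1, (leOfHom a).choose_spec.1]),
      (pullModEt hf).map_comp, Category.assoc]

variable (M) in
/-- Its cocone. -/
noncomputable def toModule : diagram hX hY hf haff hcov M ⟶ (Functor.const _).obj M where
  app i := cokernel.desc i.g i.q i.g_q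
  naturality i j h := by
    show cokernel.desc i.g _ _ ≫ cokernel.desc j.g _ _ = cokernel.desc i.g _ _ ≫ 𝟙 M
    rw [Category.comp_id, ← cancel_epi (cokernel.π i.g), cokernel.π_desc_assoc, Category.assoc,
      cokernel.π_desc, cokernel.π_desc, trans_q]

include hY haff hqs hN hcov hM in
theorem exists_preimage (m : Msec M (EtOver.bcObj hf E₁)) :
    ∃ (i : Idx (E₁ := E₁) hf M) (a : Msec i.P (EtOver.bcObj hf E₁)), ap i.q (EtOver.bcObj hf E₁) a = m := by
  haveI := isQuasicoherent_push_of_isAffineMor hf haff M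
  obtain ⟨G, ι, hι, hG, hsG⟩ := exists_coherent_sub hqs hN ((pushModEt hf).obj M) hcov {m}
  obtain ⟨j, hjN, -⟩ := exists_idx hY hf haff hqs hN hcov ι hι hG (fun _ _ => ∅)
    fun _ _ x hx => absurd hx (Finset.notMem_empty x)
  obtain ⟨y, hy⟩ : m ∈ LinearMap.range (ap j.ι E₁) := hjN ▸ hsG m (Finset.mem_singleton_self m)
  exact ⟨j, _, (ap_qmap_unit hf j.ι y).trans hy⟩

include hY haff hqs hN hcov hM in
theorem exists_killing (i : Idx (E₁ := E₁) hf M) (a : Msec i.P (EtOver.bcObj hf E₁))
    (ha : ap i.q (EtOver.bcObj hf E₁) a = 0) :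
    ∃ (j : Idx (E₁ := E₁) hf M) (h : i ≤ j), ap (trans h) (EtOver.bcObj hf E₁) a ∈ j.R := by
  classical
  haveI := i.fp
  obtain ⟨r, hr⟩ := (haveI := i.fp_rel; Module.Finite.fg_top :
    (⊤ : Submodule (A (EtOver.bcObj hf E₁)) (Msec i.rel (EtOver.bcObj hf E₁))).FG)
  obtain ⟨K, hKdef⟩ : ∃ K : (G' : ModEt Y) → (G' ⟶ (pushModEt hf).obj M) →
      Finset (Msec ((pullModEt hf).obj G') (EtOver.bcObj hf E₁)), K = fun G' ι' =>
        if h : ∃ k : i.G ⟶ G', k ≫ ι' = i.ι then
          (insert a (r.image (ap i.g _))).image (fun x => ap ((pullModEt hf).map h.choose) _ x)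
        else ∅ := ⟨_, rfl⟩
  obtain ⟨j, hjN, hjK⟩ := exists_idx hY hf haff hqs hN hcov i.ι i.mono i.fp K fun G' ι' x hx => by
    rw [hKdef] at hx
    by_cases h : ∃ k : i.G ⟶ G', k ≫ ι' = i.ι
    · simp only [dif_pos h] at hx
      obtain ⟨z, hz, rfl⟩ := Finset.mem_image.1 hx
      refine (ap_comp (qmap_comp hf i.ι ι' _ h.choose_spec) _).trans ?_
      rcases Finset.mem_insert.1 hz with rfl | hz
      · exact ha
      · obtain ⟨w, -, rfl⟩ := Finset.mem_image.1 hz
        exact ap_eq_zero_of_comp i.g_q w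
    · simp only [dif_neg h] at hx
      exact absurd hx (Finset.notMem_empty x)
  have e₁ := exists_factor hY hf hcov i haff hM j.ι j.mono j.fp hjN.ge
  have hK : K j.G j.ι = _ := (congrFun (congrFun hKdef j.G) j.ι).trans (dif_pos e₁)
  have hij : i ≤ j := le_of_generators hf e₁.choose e₁.choose_spec r hr fun z hz =>
    hjK _ (hK ▸ Finset.mem_image.2 ⟨_, Finset.mem_insert_of_mem (Finset.mem_image_of_mem _ hz), rfl⟩)
  refine ⟨j, hij, ?_⟩
  rw [trans_eq hij e₁.choose e₁.choose_spec]
  exact hjK _ (hK ▸ Finset.mem_image.2 ⟨a, Finset.mem_insert_self _ _, rfl⟩)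

include hX hY hf haff hqs hN hcov hM in
theorem main : ∃ (J : Type (u + 1)) (_ : SmallCategory J) (_ : IsFiltered J) (D : J ⥤ ModEt X)
    (ι : D ⟶ (Functor.const J).obj M),
    (∀ j, (D.obj j).IsFinitePresentation) ∧ Nonempty (IsColimit (Cocone.mk M ι)) := by
  haveI hE₀ := isAffine_bcObj hf haff E₁
  have hc₀ := covers_bcObj hf hcov
  haveI : Nonempty (Idx (E₁ := E₁) hf M) := ⟨(exists_preimage hY hf haff hqs hN hcov (M := M) 0).choose⟩
  haveI := isDirected hY hf haff hqs hN hcov (M := M)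
  have hqc : ∀ i : Idx (E₁ := E₁) hf M, ((diagram hX hY hf haff hcov M).obj i).IsQuasicoherent := fun i => by
    haveI := i.qc_rel
    haveI : i.P.IsQuasicoherent := haveI := i.fp; QCart.isQuasicoherent_pullModEt hf hY i.G
    exact isQuasicoherent_cokernel i.g
  refine ⟨Idx (E₁ := E₁) hf M, inferInstance, inferInstance, diagram hX hY hf haff hcov M,
    toModule hX hY hf haff hcov M, fun i => ?_, nonempty_isColimit_of_sections hc₀ hX _ _ hqc hM (fun m => ?_)
      fun i a ha => ?_⟩
  · haveI := i.qc_rel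
    haveI : i.P.IsQuasicoherent := haveI := i.fp; QCart.isQuasicoherent_pullModEt hf hY i.G
    haveI : Module.FinitePresentation (A (EtOver.bcObj hf E₁)) (Msec i.P (EtOver.bcObj hf E₁)) :=
      haveI := i.fp; finitePresentation_pull hY hf haff hN i.G
    haveI := i.fp_rel
    haveI := finitePresentation_cokernel (E₀ := EtOver.bcObj hf E₁) i.g
    haveI : (cokernel i.g).IsQuasicoherent := hqc i
    exact isFinitePresentation_of_covering hc₀ (cokernel i.g)
  · obtain ⟨j, a, ha⟩ := exists_preimage hY hf haff hqs hN hcov m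
    exact ⟨j, ap (cokernel.π j.g) (EtOver.bcObj hf E₁) a, (ap_comp (cokernel.π_desc j.g j.q j.g_q) a).trans ha⟩
  · haveI := i.qc_rel
    haveI : i.P.IsQuasicoherent := haveI := i.fp; QCart.isQuasicoherent_pullModEt hf hY i.G
    obtain ⟨a', rfl⟩ := (ap_cokernel (E₀ := EtOver.bcObj hf E₁) i.g).1 a
    obtain ⟨j, hij, hj⟩ := exists_killing hY hf haff hqs hN hcov i a'
      ((ap_comp (cokernel.π_desc i.g i.q i.g_q) a').symm.trans ha)
    obtain ⟨w, hw⟩ := j.range_g.symm.le hj
    refine ⟨j, homOfLE hij, ?_⟩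
    refine (ap_comp (cokernel.π_desc i.g (trans hij ≫ cokernel.π j.g) _) a').trans ?_
    show ap (cokernel.π j.g) (EtOver.bcObj hf E₁) (ap (trans hij) (EtOver.bcObj hf E₁) a') = 0
    rw [← hw]
    exact ap_eq_zero_of_comp (cokernel.condition j.g) w

end Affine

/-- Quasi-coherent modules on a space affine over a Noetherian space. -/
theorem exists_isColimit_fp [QuasiSeparatedSpace ↥S] {X Y : Space S} (f : X ⟶ Y) (haff : IsAffineMor f.hom)
    (hqc : IsQuasiCompactSp Y.obj) (hqs : IsQuasiSeparatedSp Y.obj) (hN : IsLocNoethSp Y.obj) (M : ModEt X.obj)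
    [M.IsQuasicoherent] :
    ∃ (J : Type (u + 1)) (_ : SmallCategory J) (_ : IsFiltered J) (D : J ⥤ ModEt X.obj)
      (ι : D ⟶ (Functor.const J).obj M),
      (∀ j, (D.obj j).IsFinitePresentation) ∧ Nonempty (IsColimit (Cocone.mk M ι)) := by
  have hf : Representable f.hom := AlgSpDec.representable_of_isAffineMor haff
  haveI := isRightAdjoint_pushModEt hf
  obtain ⟨E₁, hE₁, hcov⟩ := AlgSpMor.exists_affine_cover hqc
  haveI := hE₁
  exact main X.property Y.property hf haff hqs hN hcov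

end Groth.Agent.AlgSpQC10.FPColim
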