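import Groth.Agent.AlgSpLib.LocP
import Groth.Agent.AlgSpLib.EtLocalInst
import Groth.Agent.AlgSpLib.Descent2
import Groth.Agent.AlgSpDec.Fibres
import Groth.Agent.AlgSpDec.MonoPoint
import Groth.Agent.AlgSpDec.OnePoint
import Groth.Agent.AlgSpDM.FieldZero
import Groth.Agent.S9911
import Groth.Agent.AlgSpDM.ElemNbhd
import Groth.Agent.AlgSpPts.Univ

/-!
# Locally Noetherian fibres over field-valued points
-/

set_option autoImplicit false
set_option linter.style.haveILetI false
set_option backward.isDefEq.respectTransparency false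
set_option backward.isDefEq.respectTransparency.types false

universe u

open CategoryTheory CategoryTheory.Limits AlgebraicGeometry AlgSp Groth.Agent.AlgSpLib

namespace Groth.Agent.AlgSpQC10

variable {S : Scheme.{u}}

/-- Spaces locally of finite type over a locally Noetherian space are locally Noetherian. -/
theorem isLocNoethSp_of_lft {Q' Q : Sp S} (hQ' : IsAlgSpace Q') (hQ : IsAlgSpace Q) {g : Q' ⟶ Q}
    (hg : LocP @LocallyOfFiniteType g) (hN : IsLocNoethSp Q) : IsLocNoethSp Q' := by
  obtain ⟨V, b, hb, hb'⟩ := hQ.atlas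
  obtain ⟨U, a₀, h, h1, h2, h3⟩ := exists_chart_over hQ' hQ g b
  haveI := AlgSpDec.isLocallyNoetherian_chart hb hN
  haveI : LocallyOfFiniteType h.left := hg (a₀ ≫ pullback.fst g b) b h (repWith_comp h1 (repWith_fst g hb)) hb
    (by rw [Category.assoc, pullback.condition, ← Category.assoc, h3])
  exact ⟨U, a₀ ≫ pullback.fst g b, repWith_comp h1 (repWith_fst g hb), repWith_comp h2 (repWith_fst g hb'),
    LocallyOfFiniteType.isLocallyNoetherian h.left⟩

theorem locP_map_of {T' T : Over S} {m : T' ⟶ T} {P : MorphismProperty Scheme.{u}} [IsEtLocal P] (hm : P m.left) :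
    LocP P ((yon S).map m) :=
  locP_of_chart (a := 𝟙 _) (b := 𝟙 _) (h := m) (repWith_id _ _) (repWith_id _ _) (repWith_id _ _) (by simp) hm

variable {F G : Sp S} {f : F ⟶ G} {T T' : Over S} {t : (yon S).obj T ⟶ G} {t' : (yon S).obj T' ⟶ G}
  (m : T' ⟶ T) (hm : (yon S).map m ≫ t = t') {Q Q' : Sp S} {fst : Q ⟶ F} {snd : Q ⟶ (yon S).obj T}
  {fst' : Q' ⟶ F} {snd' : Q' ⟶ (yon S).obj T'}

include hm in
theorem exists_isPullback_change (sq : IsPullback fst snd f t) (sq' : IsPullback fst' snd' f t') :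
    ∃ k : Q' ⟶ Q, IsPullback k snd' snd ((yon S).map m) := by
  refine ⟨sq.lift fst' (snd' ≫ (yon S).map m) (by rw [sq'.w, Category.assoc, hm]),
    IsPullback.of_right ?_ (sq.lift_snd _ _ _) sq⟩
  rw [IsPullback.lift_fst, hm]
  exact sq'

include hm in
theorem isLocNoethSp_fibre_of_lft (hF : IsAlgSpace F) (hG : IsAlgSpace G) (sq : IsPullback fst snd f t)
    (sq' : IsPullback fst' snd' f t') [LocallyOfFiniteType m.left] (hN : IsLocNoethSp Q) : IsLocNoethSp Q' := by
  obtain ⟨k, hk⟩ := exists_isPullback_change m hm sq sq'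
  have hQ := isAlgSpace_of_isPullback sq hF (IsAlgSpace.yon_obj _) hG
  exact isLocNoethSp_of_lft (isAlgSpace_of_isPullback sq' hF (IsAlgSpace.yon_obj _) hG) hQ
    (locP_of_isPullback hk.flip (IsAlgSpace.yon_obj _) (IsAlgSpace.yon_obj _) hQ
      (locP_map_of (P := @LocallyOfFiniteType) inferInstance)) hN

include hm in
theorem isLocNoethSp_fibre_descend (hF : IsAlgSpace F) (hG : IsAlgSpace G) (sq : IsPullback fst snd f t)
    (sq' : IsPullback fst' snd' f t') [Flat m.left] [Surjective m.left] [UniversallyOpen m.left]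
    (hN : IsLocNoethSp Q') : IsLocNoethSp Q := by
  obtain ⟨k, hk⟩ := exists_isPullback_change m hm sq sq'
  obtain ⟨U, a, ha, ha'⟩ := (isAlgSpace_of_isPullback sq hF (IsAlgSpace.yon_obj _) hG).atlas
  obtain ⟨u, hu⟩ := (yon S).map_surjective (a ≫ snd)
  let U' := Limits.pullback u m
  have hU' : IsPullback ((yon S).map (pullback.fst u m)) ((yon S).map (pullback.snd u m)) (a ≫ snd) ((yon S).map m) :=
    hu ▸ (IsPullback.of_hasPullback u m).map (yon S)
  let a' : (yon S).obj U' ⟶ Q' := hk.lift ((yon S).map (pullback.fst u m) ≫ a) ((yon S).map (pullback.snd u m))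
    (by rw [Category.assoc]; exact hU'.w)
  have h2 : IsPullback ((yon S).map (pullback.fst u m)) a' a k := by
    refine IsPullback.of_bot ?_ (hk.lift_fst _ _ _).symm hk
    rw [IsPullback.lift_snd]
    exact hU'
  haveI := AlgSpDec.isLocallyNoetherian_chart (repWith_of_isPullback h2 ha) hN
  have hp : IsPullback (pullback.fst u m).left (pullback.snd u m).left u.left m.left :=
    (IsPullback.of_hasPullback u m).map (Over.forget S)
  haveI : Flat (pullback.fst u m).left := MorphismProperty.of_isPullback hp.flip inferInstance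
  haveI : Surjective (pullback.fst u m).left := MorphismProperty.of_isPullback hp.flip inferInstance
  haveI : UniversallyOpen (pullback.fst u m).left := MorphismProperty.of_isPullback hp.flip inferInstance
  exact ⟨U, a, ha, ha', isLocallyNoetherian_of_flat (pullback.fst u m).left⟩

omit F G f T T' t t' m hm Q Q' fst snd fst' snd'

theorem flat_surj_univOpen_field {K : Type u} [Field K] {str : Spec (CommRingCat.of K) ⟶ S} {T' : Over S}
    [Nonempty ↥T'.left] (m : T' ⟶ Over.mk str) : Flat m.left ∧ Surjective m.left ∧ UniversallyOpen m.left := by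
  haveI : Subsingleton ↥(Over.mk str).left := inferInstanceAs (Subsingleton (PrimeSpectrum K))
  haveI : AlgebraicGeometry.IsIntegral (Over.mk str).left :=
    inferInstanceAs (AlgebraicGeometry.IsIntegral (Spec (CommRingCat.of K)))
  exact ⟨inferInstance, ⟨fun x => ⟨Classical.arbitrary _, Subsingleton.elim _ _⟩⟩, inferInstance⟩

variable {X Y : Space S} (f : X ⟶ Y)

theorem isLocNoethSp_fibre (hf : LocP @LocallyOfFiniteType f.hom) (p : FieldPt Y.obj)
    {P : Sp S} {fst : P ⟶ X.obj} {snd : P ⟶ (yon S).obj p.pt} (hP : IsPullback fst snd f.hom p.toHom) :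
    IsLocNoethSp P := by
  refine isLocNoethSp_of_lft (isAlgSpace_of_isPullback hP X.property (IsAlgSpace.yon_obj _) Y.property)
    (IsAlgSpace.yon_obj _) (locP_of_isPullback hP X.property Y.property (IsAlgSpace.yon_obj _) hf)
    ⟨p.pt, 𝟙 _, repWith_id _ _, repWith_id _ _, ?_⟩
  exact inferInstanceAs (IsLocallyNoetherian (Spec (CommRingCat.of p.K)))

theorem isLocNoethSp_fibre_chart (p : FieldPt Y.obj)
    (hNoeth : ∀ ⦃P : Sp S⦄ (fst : P ⟶ X.obj) (snd : P ⟶ (yon S).obj p.pt),
      IsPullback fst snd f.hom p.toHom → IsLocNoethSp P)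
    {V : Over S} (b : (yon S).obj V ⟶ Y.obj) (hb : RepWith @Etale b) (v : ↥V.left)
    (hv : Points.ofPt b v = Points.mk p)
    {Q : Sp S} {qfst : Q ⟶ X.obj} {qsnd : Q ⟶ (yon S).obj (FieldPt.ofPt b v).pt}
    (hQ : IsPullback qfst qsnd f.hom (FieldPt.ofPt b v).toHom) : IsLocNoethSp Q := by
  obtain ⟨o, hx, -⟩ := AlgSpPts.exists_lift (hb.rep.isPullback p.toHom) (x := Points.ofScheme V v)
    (t := IsLocalRing.closedPoint p.K) (by
      rw [← Points.ofPt_eq_map_ofScheme, hv, mk_eq_ofPt])
  let T := hb.rep.pullback p.toHom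
  have ho : (hb.rep.fst' p.toHom).left o = v := by
    have h0 := congrArg (Points.toScheme V) hx
    rw [← hb.rep.map_fst' p.toHom, Points.toScheme_ofPt, Points.toScheme_ofScheme] at h0
    exact h0
  haveI : Etale (hb.rep.snd p.toHom).left := hb.property_snd p.toHom
  haveI hsd : Etale ((hb.rep.snd p.toHom).left : T.left ⟶ Spec (CommRingCat.of p.K)) := hb.property_snd p.toHom
  haveI := AlgSpDM.discreteTopology_of_lqf (k := p.K)
    ((hb.rep.snd p.toHom).left : T.left ⟶ Spec (CommRingCat.of p.K))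
  haveI : IsClosedImmersion (T.left.fromSpecResidueField o) :=
    AlgSpDec.isClosedImmersion_fromSpecResidueField (isClosed_discrete _)
  let K' : Over S := Over.mk (T.left.fromSpecResidueField o ≫ T.hom)
  let c : K' ⟶ T := Over.homMk (T.left.fromSpecResidueField o) rfl
  obtain ⟨k', hk'⟩ := AlgSpDM.exists_factor_ptι b (c ≫ hb.rep.fst' p.toHom) v fun z => by
    change (hb.rep.fst' p.toHom).left (T.left.fromSpecResidueField o z) = v
    rw [Scheme.fromSpecResidueField_apply, ho]
  let t' : (yon S).obj K' ⟶ Y.obj := (yon S).map (c ≫ hb.rep.snd p.toHom) ≫ p.toHom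
  have hk : (yon S).map k' ≫ (FieldPt.ofPt b v).toHom = t' := by
    rw [FieldPt.toHom_ofPt]
    refine ((yon S).map_comp_assoc _ _ _).symm.trans ((congrArg (fun g => (yon S).map g ≫ b) hk').trans ?_)
    rw [Functor.map_comp, Category.assoc, hb.rep.map_fst', hb.rep.w]
    simp only [t', Functor.map_comp, Category.assoc]
  haveI : LocallyOfFiniteType (c ≫ hb.rep.snd p.toHom).left :=
    inferInstanceAs (LocallyOfFiniteType (T.left.fromSpecResidueField o ≫ (hb.rep.snd p.toHom).left))
  have hK := isLocNoethSp_fibre_of_lft (c ≫ hb.rep.snd p.toHom) rfl X.property Y.property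
    (IsPullback.of_hasPullback f.hom p.toHom) (IsPullback.of_hasPullback f.hom t')
    (hNoeth _ _ (IsPullback.of_hasPullback f.hom p.toHom))
  haveI : Nonempty ↥K'.left := inferInstanceAs (Nonempty (PrimeSpectrum (T.left.residueField o)))
  obtain ⟨h1, h2, h3⟩ := flat_surj_univOpen_field k'
  exact isLocNoethSp_fibre_descend k' hk X.property Y.property hQ (IsPullback.of_hasPullback f.hom t') hK

theorem isLocNoethSp_fibre_mono (p p₀ : FieldPt Y.obj) (hpp : Points.mk p = Points.mk p₀) [Mono p₀.toHom]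
    (hNoeth : ∀ ⦃P : Sp S⦄ (fst : P ⟶ X.obj) (snd : P ⟶ (yon S).obj p.pt),
      IsPullback fst snd f.hom p.toHom → IsLocNoethSp P)
    {Q : Sp S} {qfst : Q ⟶ X.obj} {qsnd : Q ⟶ (yon S).obj p₀.pt} (hQ : IsPullback qfst qsnd f.hom p₀.toHom) :
    IsLocNoethSp Q := by
  obtain ⟨z, -, -⟩ := exists_point_of_isPullback (IsPullback.of_hasPullback p.toHom p₀.toHom)
    (x := Points.ofScheme p.pt (IsLocalRing.closedPoint p.K))
    (y := Points.ofScheme p₀.pt (IsLocalRing.closedPoint p₀.K)) (by
      rw [← Points.ofPt_eq_map_ofScheme, ← Points.ofPt_eq_map_ofScheme, ← mk_eq_ofPt, ← mk_eq_ofPt, hpp])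
  have := AlgSpDec.isIso_of_mono_field (isAlgSpace_pullback (IsAlgSpace.yon_obj _) (IsAlgSpace.yon_obj _)
    Y.property p.toHom p₀.toHom) (pullback.fst p.toHom p₀.toHom) z
  let m := (yon S).preimage (inv (pullback.fst p.toHom p₀.toHom) ≫ pullback.snd p.toHom p₀.toHom)
  have hm : (yon S).map m ≫ p₀.toHom = p.toHom := by
    rw [Functor.map_preimage, Category.assoc, ← pullback.condition, IsIso.inv_hom_id_assoc]
  haveI : Nonempty ↥p.pt.left := inferInstanceAs (Nonempty (PrimeSpectrum p.K))
  obtain ⟨h1, h2, h3⟩ := flat_surj_univOpen_field m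
  exact isLocNoethSp_fibre_descend m hm X.property Y.property hQ (IsPullback.of_hasPullback f.hom p.toHom)
    (hNoeth _ _ (IsPullback.of_hasPullback f.hom p.toHom))

end Groth.Agent.AlgSpQC10
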