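import Groth.Agent.QCart.Exact
import Mathlib.CategoryTheory.Limits.Shapes.BinaryProducts

/-!
# Mayer-Vietoris sequences of sections for a pair of objects covering the final object
-/

universe w v₁ u₁

set_option autoImplicit false
set_option linter.style.haveILetI false
set_option linter.unusedSectionVars false
set_option backward.isDefEq.respectTransparency false
set_option backward.isDefEq.respectTransparency.types false

open CategoryTheory CategoryTheory.Limits Opposite Groth.Agent.QCart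

namespace Groth.Agent.AlgSpQC10.MV

variable {C : Type u₁} [Category.{v₁} C] [HasBinaryProducts C] {J : GrothendieckTopology C}

/-- A pair of objects of which the first is subterminal, which cover, and whose second separates away from the first. -/
structure Pair (J : GrothendieckTopology C) (U V : C) : Prop where
  subterminal : ∀ (T : C) (a b : T ⟶ U), a = b
  cover : ∀ W : C, Sieve.generate (fun T (_ : T ⟶ W) => Nonempty (T ⟶ U) ∨ Nonempty (T ⟶ V)) ∈ J W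
  dich : ∀ (T : C) (b b' : T ⟶ V),
    Sieve.generate (fun T' (g : T' ⟶ T) => Nonempty (T' ⟶ U) ∨ g ≫ b = g ≫ b') ∈ J T

variable [J.HasSheafCompose (forget₂ CommRingCat.{w} RingCat.{w})]
  [J.HasSheafCompose (CategoryTheory.forget AddCommGrpCat.{w})]
  [HasSheafify J AddCommGrpCat.{w}] [J.WEqualsLocallyBijective AddCommGrpCat.{w}]
  {R : Sheaf J CommRingCat.{w}} (M : SheafOfModules.{w} (RS R)) {U V P : C}

local notation "Γ" => psh (R := R) M

/-- Sections glue along a covering sieve. -/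
theorem exists_glue_sieve {X : C} {T : Presieve X} (hT : Sieve.generate T ∈ J X)
    (x : ∀ ⦃Z : C⦄ (g : Z ⟶ X), T g → (Γ).obj (op Z))
    (hx : ∀ ⦃Z Z' Y : C⦄ (g : Z ⟶ X) (g' : Z' ⟶ X) (h : T g) (h' : T g') (k : Y ⟶ Z) (k' : Y ⟶ Z'),
      k ≫ g = k' ≫ g' → sres Γ k (x g h) = sres Γ k' (x g' h')) :
    ∃ s : (Γ).obj (op X), ∀ ⦃Z : C⦄ (g : Z ⟶ X) (h : T g), sres Γ g s = x g h := by
  let ι := Σ Z : C, { g : Z ⟶ X // T g }
  have hS : Sieve.ofArrows (fun i : ι => i.1) (fun i => i.2.1) ∈ J X :=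
    J.superset_covering ((Sieve.generate_le_iff _ _).2 fun Z g hg =>
      Sieve.le_generate _ _ _ (Presieve.ofArrows.mk (⟨Z, g, hg⟩ : ι))) hT
  obtain ⟨s, hs⟩ := exists_glue_sheaf M hS (fun i => x i.2.1 i.2.2)
    fun Y i j k k' e => hx _ _ i.2.2 j.2.2 k k' e
  exact ⟨s, fun Z g h => hs ⟨Z, g, h⟩⟩

variable (h : Pair J U V)

include h in
theorem ext_of_restrictions {W : C} (s t : (Γ).obj (op W))
    (hU : sres Γ (prod.snd : U ⨯ W ⟶ W) s = sres Γ prod.snd t)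
    (hV : sres Γ (prod.snd : V ⨯ W ⟶ W) s = sres Γ prod.snd t) : s = t := by
  refine sres_ext_of_mem M (h.cover W) s t ?_
  rintro T g ⟨T', k, g', hg', rfl⟩
  rcases hg' with ⟨⟨a⟩⟩ | ⟨⟨a⟩⟩
  · rw [← prod.lift_snd a g', ← Category.assoc, ← sres_sres, hU, sres_sres]
  · rw [← prod.lift_snd a g', ← Category.assoc, ← sres_sres, hV, sres_sres]

variable (p₁ : P ⟶ U) (p₂ : P ⟶ V) (hP : ∀ (T : C) (a : T ⟶ U) (b : T ⟶ V), ∃ c : T ⟶ P, c ≫ p₁ = a ∧ c ≫ p₂ = b)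

/-- The candidates for a glued section along a morphism. -/
def Cand {W T : C} (a : (Γ).obj (op (U ⨯ W))) (b : (Γ).obj (op (V ⨯ W))) (g : T ⟶ W) (x : (Γ).obj (op T)) : Prop :=
  (∃ u : T ⟶ U, x = sres Γ (prod.lift u g) a) ∨ ∃ v : T ⟶ V, x = sres Γ (prod.lift v g) b

include h hP in
theorem exists_of_compatible {W : C} (a : (Γ).obj (op (U ⨯ W))) (b : (Γ).obj (op (V ⨯ W)))
    (hab : sres Γ (prod.map p₁ (𝟙 W)) a = sres Γ (prod.map p₂ (𝟙 W)) b) :
    ∃ s : (Γ).obj (op W), sres Γ prod.snd s = a ∧ sres Γ prod.snd s = b := by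
  have huv : ∀ {T : C} (g : T ⟶ W) (u : T ⟶ U) (v : T ⟶ V),
      sres Γ (prod.lift u g) a = sres Γ (prod.lift v g) b := fun {T} g u v => by
    obtain ⟨c, hc₁, hc₂⟩ := hP T u v
    have := congrArg (sres Γ (prod.lift c g)) hab
    rwa [sres_sres, sres_sres, prod.lift_map, prod.lift_map, Category.comp_id, hc₁, hc₂] at this
  have huniq : ∀ {T : C} (g : T ⟶ W) (x y), Cand M a b g x → Cand M a b g y → x = y := fun {T} g x y hx hy => by
    rcases hx with ⟨u, rfl⟩ | ⟨v, rfl⟩ <;> rcases hy with ⟨u', rfl⟩ | ⟨v', rfl⟩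
    · rw [h.subterminal T u u']
    · exact huv g u v'
    · exact (huv g u' v).symm
    · refine sres_ext_of_mem M (h.dich T v v') _ _ ?_
      rintro T₁ k ⟨T₂, i, k', hk', rfl⟩
      rw [← sres_sres _ k' i, ← sres_sres _ k' i]
      refine congrArg _ ?_
      rw [sres_sres, sres_sres, prod.comp_lift, prod.comp_lift]
      rcases hk' with ⟨⟨u⟩⟩ | e
      · exact (huv _ u _).symm.trans (huv _ u _)
      · rw [e]
  have hres : ∀ {T T' : C} (g : T ⟶ W) (k : T' ⟶ T) (x), Cand M a b g x → Cand M a b (k ≫ g) (sres Γ k x) :=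
    fun {T T'} g k x hx => by
      rcases hx with ⟨u, rfl⟩ | ⟨v, rfl⟩
      · exact .inl ⟨k ≫ u, by rw [sres_sres, prod.comp_lift]⟩
      · exact .inr ⟨k ≫ v, by rw [sres_sres, prod.comp_lift]⟩
  have hex : ∀ ⦃T : C⦄ (g : T ⟶ W), (Nonempty (T ⟶ U) ∨ Nonempty (T ⟶ V)) → ∃ x, Cand M a b g x := fun T g hg => by
    rcases hg with ⟨⟨u⟩⟩ | ⟨⟨v⟩⟩
    · exact ⟨_, .inl ⟨u, rfl⟩⟩
    · exact ⟨_, .inr ⟨v, rfl⟩⟩
  choose x hx using hex
  obtain ⟨s, hs⟩ := exists_glue_sieve M (h.cover W) x fun Z Z' Y g g' hg hg' k k' e =>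
    huniq (k ≫ g) _ _ (hres g k _ (hx g hg)) (e ▸ hres g' k' _ (hx g' hg'))
  exact ⟨s, (hs _ (.inl ⟨prod.fst⟩)).trans (huniq _ _ _ (hx _ _)
      (.inl ⟨prod.fst, by rw [prod.lift_fst_snd, sres_id]⟩)),
    (hs _ (.inr ⟨prod.fst⟩)).trans (huniq _ _ _ (hx _ _)
      (.inr ⟨prod.fst, by rw [prod.lift_fst_snd, sres_id]⟩))⟩

variable (hP' : ∀ (T : C) (c c' : T ⟶ P), c ≫ p₂ = c' ≫ p₂ → c = c')

include h hP hP' in
theorem exists_local_difference {W : C} (c : (Γ).obj (op (P ⨯ W))) :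
    ∃ S ∈ J W, ∀ ⦃T : C⦄ (g : T ⟶ W), S g → ∃ (a : (Γ).obj (op (U ⨯ T))) (b : (Γ).obj (op (V ⨯ T))),
      sres Γ (prod.map p₁ (𝟙 T)) a - sres Γ (prod.map p₂ (𝟙 T)) b = sres Γ (prod.map (𝟙 P) g) c := by
  refine ⟨_, h.cover W, ?_⟩
  rintro T₀ g₀ ⟨T, i, g, hg, rfl⟩
  suffices key : ∃ (a : (Γ).obj (op (U ⨯ T))) (b : (Γ).obj (op (V ⨯ T))),
      sres Γ (prod.map p₁ (𝟙 T)) a - sres Γ (prod.map p₂ (𝟙 T)) b = sres Γ (prod.map (𝟙 P) g) c by
    obtain ⟨a, b, e⟩ := key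
    refine ⟨sres Γ (prod.map (𝟙 U) i) a, sres Γ (prod.map (𝟙 V) i) b, ?_⟩
    have := congrArg (sres Γ (prod.map (𝟙 P) i)) e
    simpa only [map_sub, sres_sres, prod.map_map, Category.comp_id, Category.id_comp] using this
  rcases hg with ⟨⟨u₀⟩⟩ | ⟨⟨σ⟩⟩
  · obtain ⟨k, hk₁, hk₂⟩ := hP (V ⨯ T) (prod.snd ≫ u₀) prod.fst
    refine ⟨0, - sres Γ (prod.lift k (prod.snd ≫ g)) c, ?_⟩
    rw [map_zero, map_neg, zero_sub, neg_neg, sres_sres]
    refine congrArg (fun f => sres Γ f c) (prod.hom_ext ?_ ?_)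
    · rw [prod.map_fst, Category.comp_id, Category.assoc, prod.lift_fst]
      refine hP' _ _ _ ?_
      rw [Category.assoc, hk₂, prod.map_fst]
    · simp
  · obtain ⟨k, hk₁, hk₂⟩ := hP (U ⨯ T) prod.fst (prod.snd ≫ σ)
    let a := sres Γ (prod.lift k (prod.snd ≫ g)) c
    let Cd : ∀ ⦃Z : C⦄ (f : Z ⟶ V ⨯ T), (Γ).obj (op Z) → Prop := fun Z f x =>
      (∃ (u : Z ⟶ U) (q : Z ⟶ P), q ≫ p₂ = f ≫ prod.fst ∧ x = sres Γ (prod.lift u (f ≫ prod.snd)) a -
        sres Γ (prod.lift q (f ≫ prod.snd ≫ g)) c) ∨ (f ≫ prod.fst = f ≫ prod.snd ≫ σ ∧ x = 0)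
    have huniq : ∀ ⦃Z : C⦄ (f : Z ⟶ V ⨯ T) x y, Cd f x → Cd f y → x = y := fun Z f x y hx hy => by
      have h0 : ∀ (u : Z ⟶ U) (q : Z ⟶ P), q ≫ p₂ = f ≫ prod.fst → f ≫ prod.fst = f ≫ prod.snd ≫ σ →
          sres Γ (prod.lift u (f ≫ prod.snd)) a - sres Γ (prod.lift q (f ≫ prod.snd ≫ g)) c = 0 :=
        fun u q hq he => by
          rw [sub_eq_zero, sres_sres, prod.comp_lift, ← Category.assoc _ prod.snd, prod.lift_snd,
            Category.assoc]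
          refine congrArg (fun t => sres Γ (prod.lift t (f ≫ prod.snd ≫ g)) c) (hP' _ _ _ ?_)
          rw [Category.assoc, hk₂, ← Category.assoc, prod.lift_snd, hq, he, Category.assoc]
      rcases hx with ⟨u, q, hq, rfl⟩ | ⟨he, rfl⟩ <;> rcases hy with ⟨u', q', hq', rfl⟩ | ⟨he', rfl⟩
      · rw [h.subterminal Z u u', hP' Z q q' (hq.trans hq'.symm)]
      · exact h0 u q hq he'
      · exact (h0 u' q' hq' he).symm
      · rfl
    have hres : ∀ ⦃Z Z' : C⦄ (f : Z ⟶ V ⨯ T) (e : Z' ⟶ Z) x, Cd f x → Cd (e ≫ f) (sres Γ e x) :=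
      fun Z Z' f e x hx => by
        rcases hx with ⟨u, q, hq, rfl⟩ | ⟨he, rfl⟩
        · exact .inl ⟨e ≫ u, e ≫ q, by rw [Category.assoc, hq, Category.assoc], by
            simp only [map_sub, sres_sres, prod.comp_lift, Category.assoc]⟩
        · exact .inr ⟨by rw [Category.assoc, he, Category.assoc], map_zero _⟩
    have hex : ∀ ⦃Z : C⦄ (f : Z ⟶ V ⨯ T),
        (Nonempty (Z ⟶ U) ∨ f ≫ prod.fst = f ≫ prod.snd ≫ σ) → ∃ x, Cd f x := fun Z f hf => by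
      rcases hf with ⟨⟨u⟩⟩ | he
      · obtain ⟨q, -, hq⟩ := hP Z u (f ≫ prod.fst)
        exact ⟨_, .inl ⟨u, q, hq, rfl⟩⟩
      · exact ⟨_, .inr ⟨he, rfl⟩⟩
    choose x hx using hex
    obtain ⟨b, hb⟩ := exists_glue_sieve M (h.dich _ prod.fst (prod.snd ≫ σ)) x fun Z Z' Y f f' hf hf' e e' he =>
      huniq (e ≫ f) _ _ (hres f e _ (hx f hf)) (he ▸ hres f' e' _ (hx f' hf'))
    refine ⟨a, b, ?_⟩
    rw [hb (prod.map p₂ (𝟙 T)) (.inl ⟨prod.fst ≫ p₁⟩), huniq _ _ _ (hx _ _)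
      (.inl ⟨prod.fst ≫ p₁, prod.fst, (prod.map_fst _ _).symm, rfl⟩)]
    simp only [prod.map_snd, Category.comp_id, prod.map_snd_assoc, Category.id_comp]
    rw [show prod.lift (prod.fst ≫ p₁) prod.snd = prod.map p₁ (𝟙 T) from prod.hom_ext (by simp) (by simp),
      show prod.lift prod.fst (prod.snd ≫ g) = prod.map (𝟙 P) g from prod.hom_ext (by simp) (by simp)]
    exact sub_sub_cancel _ _

end Groth.Agent.AlgSpQC10.MV
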