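import Groth.Agent.QCart.Exact
import Mathlib.Algebra.Homology.ShortComplex.Abelian

/-!
# Short exact sequences with two middle summands, through sections
-/

universe w v₁ u₁

set_option autoImplicit false
set_option linter.style.haveILetI false
set_option linter.unusedSectionVars false
set_option backward.isDefEq.respectTransparency false
set_option backward.isDefEq.respectTransparency.types false

open CategoryTheory CategoryTheory.Limits Opposite Groth.Agent.QCart

namespace Groth.Agent.AlgSpQC10.MV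

variable {C : Type u₁} [Category.{v₁} C] {J : GrothendieckTopology C}
  [J.HasSheafCompose (forget₂ CommRingCat.{w} RingCat.{w})]
  [J.HasSheafCompose (CategoryTheory.forget AddCommGrpCat.{w})]
  [HasSheafify J AddCommGrpCat.{w}] [J.WEqualsLocallyBijective AddCommGrpCat.{w}]
  {R : Sheaf J CommRingCat.{w}}

theorem app_comp' {M N L : SheafOfModules.{w} (RS R)} (f : M ⟶ N) (g : N ⟶ L) {W : C} (s : (psh M).obj (op W)) :
    (phom (f ≫ g)).app (op W) s = (phom g).app (op W) ((phom f).app (op W) s) := rfl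

theorem app_eq_of_eq {M N : SheafOfModules.{w} (RS R)} {f g : M ⟶ N} (h : f = g) {W : C} (s : (psh M).obj (op W)) :
    (phom f).app (op W) s = (phom g).app (op W) s := by rw [h]

theorem hom_ext_sections {M N : SheafOfModules.{w} (RS R)} (f g : M ⟶ N)
    (h : ∀ (W : C) (s : (psh M).obj (op W)), (phom f).app (op W) s = (phom g).app (op W) s) : f = g :=
  SheafOfModules.hom_ext (PresheafOfModules.hom_ext fun V => ModuleCat.hom_ext (LinearMap.ext fun s => h V.unop s))

theorem epi_of_local_preimage {M N : SheafOfModules.{w} (RS R)} (g : M ⟶ N)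
    (h : ∀ (W : C) (t : (psh N).obj (op W)), ∃ S ∈ J W, ∀ ⦃T : C⦄ (i : T ⟶ W), S i →
      ∃ s : (psh M).obj (op T), (phom g).app (op T) s = sres (psh N) i t) : Epi g := by
  refine ⟨fun {L} k k' e => hom_ext_sections k k' fun W t => ?_⟩
  obtain ⟨S, hS, hloc⟩ := h W t
  refine sres_ext_of_mem L hS _ _ fun T i hi => ?_
  obtain ⟨s, hs⟩ := hloc i hi
  rw [← app_sres, ← app_sres, ← hs]
  exact app_eq_of_eq e s

variable {M A B D : SheafOfModules.{w} (RS R)} (α : M ⟶ A) (β : M ⟶ B) (γ : A ⟶ D) (δ : B ⟶ D)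

theorem shortExact_of_sections
    (hw : ∀ (W : C) (s : (psh M).obj (op W)),
      (phom γ).app (op W) ((phom α).app (op W) s) = (phom δ).app (op W) ((phom β).app (op W) s))
    (hinj : ∀ (W : C) (s t : (psh M).obj (op W)), (phom α).app (op W) s = (phom α).app (op W) t →
      (phom β).app (op W) s = (phom β).app (op W) t → s = t)
    (hex : ∀ (W : C) (a : (psh A).obj (op W)) (b : (psh B).obj (op W)), (phom γ).app (op W) a = (phom δ).app (op W) b →
      ∃ s, (phom α).app (op W) s = a ∧ (phom β).app (op W) s = b)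
    (hsurj : ∀ (W : C) (t : (psh D).obj (op W)), ∃ S ∈ J W, ∀ ⦃T : C⦄ (i : T ⟶ W), S i →
      ∃ (a : (psh A).obj (op T)) (b : (psh B).obj (op T)),
        (phom γ).app (op T) a - (phom δ).app (op T) b = sres (psh D) i t) :
    ∃ h : biprod.lift α β ≫ biprod.desc γ (-δ) = 0, (ShortComplex.mk _ _ h).ShortExact := by
  have h : biprod.lift α β ≫ biprod.desc γ (-δ) = 0 := by
    rw [biprod.lift_desc, Preadditive.comp_neg, ← sub_eq_add_neg, sub_eq_zero]
    exact hom_ext_sections _ _ hw
  haveI : Mono (biprod.lift α β) := ⟨fun {L} k k' e => hom_ext_sections k k' fun W s => hinj W _ _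
    (by
      have e1 := congrArg (· ≫ biprod.fst) e
      simp only [Category.assoc, biprod.lift_fst] at e1
      exact app_eq_of_eq e1 s)
    (by
      have e1 := congrArg (· ≫ biprod.snd) e
      simp only [Category.assoc, biprod.lift_snd] at e1
      exact app_eq_of_eq e1 s)⟩
  haveI : Epi (biprod.desc γ (-δ)) := epi_of_local_preimage _ fun W t => by
    obtain ⟨S, hS, hloc⟩ := hsurj W t
    refine ⟨S, hS, fun T i hi => ?_⟩
    obtain ⟨a, b, e⟩ := hloc i hi
    refine ⟨(phom (biprod.inl : A ⟶ A ⊞ B)).app (op T) a + (phom (biprod.inr : B ⟶ A ⊞ B)).app (op T) b, ?_⟩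
    rw [map_add, ← app_comp', ← app_comp', app_eq_of_eq (biprod.inl_desc γ (-δ)), app_eq_of_eq (biprod.inr_desc γ (-δ))]
    exact (sub_eq_add_neg _ _).symm.trans e
  refine ⟨h, ShortComplex.ShortExact.mk ?_⟩
  rw [ShortComplex.exact_iff_epi_kernel_lift]
  refine epi_of_local_preimage _ fun W y => ⟨⊤, J.top_mem W, fun T i _ => ?_⟩
  let K := kernel (biprod.desc γ (-δ))
  let y' := (phom (kernel.ι (biprod.desc γ (-δ)))).app (op T) (sres (psh K) i y)
  have hy : (phom γ).app (op T) ((phom (biprod.fst : A ⊞ B ⟶ A)).app (op T) y') =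
      (phom δ).app (op T) ((phom (biprod.snd : A ⊞ B ⟶ B)).app (op T) y') := by
    have e : kernel.ι (biprod.desc γ (-δ)) ≫ biprod.fst ≫ γ = kernel.ι (biprod.desc γ (-δ)) ≫ biprod.snd ≫ δ := by
      have hd : biprod.desc γ (-δ) = biprod.fst ≫ γ - biprod.snd ≫ δ := by
        rw [biprod.desc_eq, Preadditive.comp_neg, ← sub_eq_add_neg]
      have := (congrArg (kernel.ι (biprod.desc γ (-δ)) ≫ ·) hd).symm.trans (kernel.condition _)
      rw [Preadditive.comp_sub, sub_eq_zero] at this
      exact this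
    exact app_eq_of_eq e (sres (psh K) i y)
  obtain ⟨s, hs₁, hs₂⟩ := hex T _ _ hy
  refine ⟨s, ?_⟩
  refine injective_app_of_mono (kernel.ι (biprod.desc γ (-δ))) T ?_
  refine (app_comp' _ _ s).symm.trans ((app_eq_of_eq (kernel.lift_ι _ _ _) s).trans ?_)
  refine ((app_eq_of_eq (biprod.total (X := A) (Y := B)) y').trans rfl).symm.trans ?_ |>.symm
  exact congrArg₂ (fun a b => (phom (biprod.inl : A ⟶ A ⊞ B)).app (op T) a + (phom (biprod.inr : B ⟶ A ⊞ B)).app (op T) b)
    hs₁.symm hs₂.symm |>.trans (app_eq_of_eq (biprod.lift_eq (f := α) (g := β)) s).symm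

end Groth.Agent.AlgSpQC10.MV
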