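import Groth.Agent.AlgSpQC10.MV
import Groth.Agent.AlgSpQC10.MVSeq

/-!
# Mayer-Vietoris sequences for a covering pair
-/

universe w v₁ u₁

set_option autoImplicit false
set_option linter.style.haveILetI false
set_option linter.unusedSectionVars false
set_option backward.isDefEq.respectTransparency false
set_option backward.isDefEq.respectTransparency.types false

open CategoryTheory CategoryTheory.Limits Opposite Groth.Agent.QCart

namespace Groth.Agent.AlgSpQC10.MV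

variable {C : Type u₁} [Category.{v₁} C] [HasBinaryProducts C] {J : GrothendieckTopology C}
  [J.HasSheafCompose (forget₂ CommRingCat.{w} RingCat.{w})]
  [J.HasSheafCompose (CategoryTheory.forget AddCommGrpCat.{w})]
  [HasSheafify J AddCommGrpCat.{w}] [J.WEqualsLocallyBijective AddCommGrpCat.{w}]
  {R : Sheaf J CommRingCat.{w}} {M A B D : SheafOfModules.{w} (RS R)} {U V P : C}

local notation "Γ" => psh (R := R) M

/-- The Mayer-Vietoris sequence, for modules whose sections are sections of `M` on products. -/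
theorem shortExact_mv (h : Pair J U V) (p₁ : P ⟶ U) (p₂ : P ⟶ V)
    (hP : ∀ (T : C) (a : T ⟶ U) (b : T ⟶ V), ∃ c : T ⟶ P, c ≫ p₁ = a ∧ c ≫ p₂ = b)
    (hP' : ∀ (T : C) (c c' : T ⟶ P), c ≫ p₂ = c' ≫ p₂ → c = c')
    (α : M ⟶ A) (β : M ⟶ B) (γ : A ⟶ D) (δ : B ⟶ D)
    (iA : ∀ W : C, (psh A).obj (op W) ≃ (Γ).obj (op (U ⨯ W)))
    (iB : ∀ W : C, (psh B).obj (op W) ≃ (Γ).obj (op (V ⨯ W)))
    (iD : ∀ W : C, (psh D).obj (op W) ≃+ (Γ).obj (op (P ⨯ W)))
    (hα : ∀ W s, iA W ((phom α).app (op W) s) = sres Γ prod.snd s)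
    (hβ : ∀ W s, iB W ((phom β).app (op W) s) = sres Γ prod.snd s)
    (hγ : ∀ W a, iD W ((phom γ).app (op W) a) = sres Γ (prod.map p₁ (𝟙 W)) (iA W a))
    (hδ : ∀ W b, iD W ((phom δ).app (op W) b) = sres Γ (prod.map p₂ (𝟙 W)) (iB W b))
    (hD : ∀ (W T : C) (g : T ⟶ W) t, iD T (sres (psh D) g t) = sres Γ (prod.map (𝟙 P) g) (iD W t)) :
    ∃ h : biprod.lift α β ≫ biprod.desc γ (-δ) = 0, (ShortComplex.mk _ _ h).ShortExact := by
  refine shortExact_of_sections _ _ _ _ (fun W s => (iD W).injective ?_) (fun W s t e₁ e₂ => ?_)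
    (fun W a b e => ?_) (fun W t => ?_)
  · rw [hγ, hδ, hα, hβ, sres_sres, sres_sres, prod.map_snd, prod.map_snd]
  · exact ext_of_restrictions M h s t (by rw [← hα, ← hα, e₁]) (by rw [← hβ, ← hβ, e₂])
  · obtain ⟨s, h₁, h₂⟩ := exists_of_compatible M h p₁ p₂ hP (iA W a) (iB W b) (by rw [← hγ, ← hδ, e])
    exact ⟨s, (iA W).injective ((hα W s).trans h₁), (iB W).injective ((hβ W s).trans h₂)⟩
  · obtain ⟨T, hT, hloc⟩ := exists_local_difference M h p₁ p₂ hP hP' (iD W t)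
    refine ⟨T, hT, fun W' i hi => ?_⟩
    obtain ⟨a, b, e⟩ := hloc i hi
    refine ⟨(iA W').symm a, (iB W').symm b, (iD W').injective ?_⟩
    rw [map_sub, hγ, hδ, Equiv.apply_symm_apply, Equiv.apply_symm_apply, hD, e]

end Groth.Agent.AlgSpQC10.MV
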