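import Mathlib.CategoryTheory.Adjunction.Mates
import Mathlib.Algebra.Homology.ShortComplex.ShortExact
import Mathlib.CategoryTheory.Abelian.Exact
import Mathlib.CategoryTheory.Preadditive.Injective.Basic

/-!
# Short exact sequences from adjoint short exact sequences
-/

universe v u

set_option autoImplicit false
set_option linter.style.haveILetI false

open CategoryTheory CategoryTheory.Limits

namespace Groth.Agent.AlgSpQC10.MV

variable {A : Type u} [Category.{v} A] [Abelian A] [EnoughInjectives A]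

/-- If `L? ⊣ R?` and the sequence `1 → R₁ ⊞ R₂ → R₃` is short exact then so is `L₃ → L₁ ⊞ L₂ → 1`. -/
theorem shortExact_adjoint {L₁ L₂ L₃ R₁ R₂ R₃ : A ⥤ A} (adj₁ : L₁ ⊣ R₁) (adj₂ : L₂ ⊣ R₂) (adj₃ : L₃ ⊣ R₃)
    (e₁ : 𝟭 A ⟶ R₁) (e₂ : 𝟭 A ⟶ R₂) (r₁ : R₁ ⟶ R₃) (r₂ : R₂ ⟶ R₃)
    (hR : ∀ I : A, ∃ h : biprod.lift (e₁.app I) (e₂.app I) ≫ biprod.desc (r₁.app I) (-(r₂.app I)) = 0,
      (ShortComplex.mk _ _ h).ShortExact)
    (c₁ : L₁ ⟶ 𝟭 A) (c₂ : L₂ ⟶ 𝟭 A)
    (hc₁ : ∀ (F I : A) (φ : F ⟶ I), adj₁.homEquiv F I (c₁.app F ≫ φ) = φ ≫ e₁.app I)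
    (hc₂ : ∀ (F I : A) (φ : F ⟶ I), adj₂.homEquiv F I (c₂.app F ≫ φ) = φ ≫ e₂.app I) (F : A) :
    ∃ h : biprod.lift (((conjugateEquiv adj₁ adj₃).symm r₁).app F) (-(((conjugateEquiv adj₂ adj₃).symm r₂).app F)) ≫
        biprod.desc (c₁.app F) (c₂.app F) = 0,
      (ShortComplex.mk _ _ h).ShortExact := by
  let σ₁ := (conjugateEquiv adj₁ adj₃).symm r₁
  let σ₂ := (conjugateEquiv adj₂ adj₃).symm r₂
  have t₁ : ∀ (I : A) (ψ : L₁.obj F ⟶ I),
      adj₃.homEquiv F I (σ₁.app F ≫ ψ) = adj₁.homEquiv F I ψ ≫ r₁.app I := fun I ψ => by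
    rw [Adjunction.homEquiv_unit, Adjunction.homEquiv_unit, Functor.map_comp, ← Category.assoc,
      ← unit_conjugateEquiv_symm adj₁ adj₃ r₁ F, Category.assoc, Category.assoc, r₁.naturality]
  have t₂ : ∀ (I : A) (ψ : L₂.obj F ⟶ I),
      adj₃.homEquiv F I (σ₂.app F ≫ ψ) = adj₂.homEquiv F I ψ ≫ r₂.app I := fun I ψ => by
    rw [Adjunction.homEquiv_unit, Adjunction.homEquiv_unit, Functor.map_comp, ← Category.assoc,
      ← unit_conjugateEquiv_symm adj₂ adj₃ r₂ F, Category.assoc, Category.assoc, r₂.naturality]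
  have hz : ∀ (I : A) (φ : F ⟶ I), σ₁.app F ≫ c₁.app F ≫ φ = σ₂.app F ≫ c₂.app F ≫ φ := fun I φ => by
    apply (adj₃.homEquiv F I).injective
    rw [t₁, t₂, hc₁, hc₂, Category.assoc, Category.assoc]
    obtain ⟨w, -⟩ := hR I
    rw [biprod.lift_desc, Preadditive.comp_neg, ← sub_eq_add_neg, sub_eq_zero] at w
    rw [w]
  have h : biprod.lift (σ₁.app F) (-(σ₂.app F)) ≫ biprod.desc (c₁.app F) (c₂.app F) = 0 := by
    rw [biprod.lift_desc, Preadditive.neg_comp, ← sub_eq_add_neg, sub_eq_zero]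
    simpa using hz F (𝟙 F)
  refine ⟨h, ?_⟩
  haveI : Mono (biprod.lift (σ₁.app F) (-(σ₂.app F))) := by
    let ι := Injective.ι (L₃.obj F)
    obtain ⟨w, hw⟩ := hR (Injective.under (L₃.obj F))
    haveI : Injective (ShortComplex.mk _ _ w).X₁ := inferInstanceAs (Injective (Injective.under (L₃.obj F)))
    let s := hw.splittingOfInjective
    let θ := adj₃.homEquiv F _ ι ≫ s.s
    let ψ₁ := (adj₁.homEquiv F _).symm (θ ≫ biprod.fst)
    let ψ₂ := (adj₂.homEquiv F _).symm (θ ≫ biprod.snd)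
    have e : biprod.lift (σ₁.app F) (-(σ₂.app F)) ≫ biprod.desc ψ₁ ψ₂ = ι := by
      rw [biprod.lift_desc, Preadditive.neg_comp, ← sub_eq_add_neg]
      rw [sub_eq_iff_eq_add]
      apply (adj₃.homEquiv F _).injective
      rw [t₁, Equiv.apply_symm_apply]
      have hd : biprod.desc (r₁.app (Injective.under (L₃.obj F))) (-(r₂.app _)) =
          biprod.fst ≫ r₁.app _ - biprod.snd ≫ r₂.app _ := by
        rw [biprod.desc_eq, Preadditive.comp_neg, ← sub_eq_add_neg]
      have hs : s.s ≫ biprod.fst ≫ r₁.app (Injective.under (L₃.obj F)) =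
          𝟙 (R₃.obj (Injective.under (L₃.obj F))) + s.s ≫ biprod.snd ≫ r₂.app _ :=
        sub_eq_iff_eq_add.1 ((Preadditive.comp_sub _ _ _).symm.trans ((congrArg (s.s ≫ ·) hd).symm.trans s.s_g))
      have ha : adj₃.homEquiv F _ (ι + σ₂.app F ≫ ψ₂) = adj₃.homEquiv F _ ι + adj₃.homEquiv F _ (σ₂.app F ≫ ψ₂) := by
        simp only [Adjunction.homEquiv_unit]
        haveI : R₃.IsRightAdjoint := ⟨_, ⟨adj₃⟩⟩
        haveI : R₃.Additive := Functor.additive_of_preserves_binary_products _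
        rw [Functor.map_add, Preadditive.comp_add]
      rw [ha, t₂, Equiv.apply_symm_apply, Category.assoc, Category.assoc, hs, Preadditive.comp_add, Category.comp_id]
      simp only [θ, Category.assoc]
    exact mono_of_mono_fac e
  haveI : Epi (biprod.desc (c₁.app F) (c₂.app F)) := by
    refine ⟨fun {L} k k' e => ?_⟩
    rw [← cancel_mono (Injective.ι L)]
    obtain ⟨w, hw⟩ := hR (Injective.under L)
    haveI := hw.mono_f
    rw [← cancel_mono (biprod.lift (e₁.app (Injective.under L)) (e₂.app _))]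
    have e' := congrArg (· ≫ Injective.ι L) e
    refine biprod.hom_ext _ _ ?_ ?_
    · have h1 := congrArg (fun t => biprod.inl ≫ t) e'
      simp only [Category.assoc, biprod.inl_desc_assoc] at h1
      have h2 := congrArg (adj₁.homEquiv F _) h1
      rw [hc₁, hc₁] at h2
      simpa only [Category.assoc, biprod.lift_fst] using h2
    · have h1 := congrArg (fun t => biprod.inr ≫ t) e'
      simp only [Category.assoc, biprod.inr_desc_assoc] at h1
      have h2 := congrArg (adj₂.homEquiv F _) h1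
      rw [hc₂, hc₂] at h2
      simpa only [Category.assoc, biprod.lift_snd] using h2
  refine ShortComplex.ShortExact.mk ?_
  rw [ShortComplex.exact_iff_kernel_ι_comp_cokernel_π_zero]
  let π := cokernel.π (biprod.lift (σ₁.app F) (-(σ₂.app F)))
  rw [← cancel_mono (Injective.ι (cokernel (biprod.lift (σ₁.app F) (-(σ₂.app F))))), zero_comp, Category.assoc]
  let ψ := π ≫ Injective.ι _
  obtain ⟨w, hw⟩ := hR (Injective.under (cokernel (biprod.lift (σ₁.app F) (-(σ₂.app F)))))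
  let θ := biprod.lift (adj₁.homEquiv F _ (biprod.inl ≫ ψ)) (adj₂.homEquiv F _ (biprod.inr ≫ ψ))
  have hθ : θ ≫ biprod.desc (r₁.app _) (-(r₂.app _)) = 0 := by
    rw [biprod.lift_desc, Preadditive.comp_neg, ← sub_eq_add_neg, sub_eq_zero, ← t₁, ← t₂]
    refine congrArg _ ?_
    have hc : biprod.lift (σ₁.app F) (-(σ₂.app F)) ≫ ψ = 0 := by
      rw [← Category.assoc]
      exact (congrArg (· ≫ Injective.ι _) (cokernel.condition _)).trans zero_comp
    have key : ∀ χ : L₁.obj F ⊞ L₂.obj F ⟶ Injective.under (cokernel (biprod.lift (σ₁.app F) (-(σ₂.app F)))),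
        biprod.lift (σ₁.app F) (-(σ₂.app F)) ≫ χ = σ₁.app F ≫ biprod.inl ≫ χ - σ₂.app F ≫ biprod.inr ≫ χ := fun χ => by
      conv_lhs => rw [show χ = biprod.desc (biprod.inl ≫ χ) (biprod.inr ≫ χ) from biprod.hom_ext' _ _ (by simp) (by simp)]
      rw [biprod.lift_desc, Preadditive.neg_comp, ← sub_eq_add_neg]
    exact sub_eq_zero.1 ((key ψ).symm.trans hc)
  haveI := hw.mono_f
  let φ : F ⟶ _ := hw.exact.lift θ hθ
  have hφ : φ ≫ biprod.lift (e₁.app _) (e₂.app _) = θ := hw.exact.lift_f θ hθ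
  have hψ : ψ = biprod.desc (c₁.app F) (c₂.app F) ≫ φ := by
    refine biprod.hom_ext' _ _ ?_ ?_
    · rw [biprod.inl_desc_assoc]
      apply (adj₁.homEquiv F _).injective
      have := congrArg (· ≫ biprod.fst) hφ
      simp only [θ, Category.assoc, biprod.lift_fst] at this
      erw [biprod.lift_fst] at this
      rw [hc₁]
      exact this.symm
    · rw [biprod.inr_desc_assoc]
      apply (adj₂.homEquiv F _).injective
      have := congrArg (· ≫ biprod.snd) hφ
      simp only [θ, Category.assoc, biprod.lift_snd] at this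
      erw [biprod.lift_snd] at this
      rw [hc₂]
      exact this.symm
  exact (congrArg (kernel.ι _ ≫ ·) hψ).trans (by rw [← Category.assoc]; exact (congrArg (· ≫ φ) (kernel.condition _)).trans zero_comp)

end Groth.Agent.AlgSpQC10.MV
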