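import Mathlib.Algebra.Category.Grp.Adjunctions
import Mathlib.Algebra.Category.Grp.Abelian
import Mathlib.Algebra.Homology.Square
import Mathlib.Algebra.Homology.DerivedCategory.Ext.ExactSequences
import Mathlib.CategoryTheory.Adjunction.Whiskering
import Mathlib.CategoryTheory.Sites.Abelian
import Mathlib.CategoryTheory.Sites.Sheafification
import Mathlib.CategoryTheory.Subfunctor.Image

/-!
# Mayer-Vietoris sequences of free abelian sheaves on presheaves of sets
-/

universe w w' v₁ u₁

set_option autoImplicit false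
set_option linter.style.haveILetI false
set_option linter.unusedSectionVars false
set_option backward.isDefEq.respectTransparency false
set_option backward.isDefEq.respectTransparency.types false

open CategoryTheory CategoryTheory.Limits Opposite Abelian

namespace Groth.Agent.AlgSpQC10.MVFree

variable {C : Type u₁} [Category.{v₁} C] {J : GrothendieckTopology C}

section Glue

variable {P H : Cᵒᵖ ⥤ Type w} (A : Subfunctor P) (v : H ⟶ P)

/-- A subfunctor and a morphism which together cover, the morphism being locally injective away from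
the subfunctor. -/
structure Covers (J : GrothendieckTopology C) : Prop where
  cover : ∀ (E : C) (s : P.obj (op E)), ∃ R ∈ J E, ∀ ⦃T : C⦄ (g : T ⟶ E), R.arrows g →
    P.map g.op s ∈ A.obj (op T) ∨ ∃ b, v.app (op T) b = P.map g.op s
  dich : ∀ (T : C) (b b' : H.obj (op T)), v.app (op T) b = v.app (op T) b' →
    ∃ R ∈ J T, ∀ ⦃T' : C⦄ (g : T' ⟶ T), R.arrows g →
      P.map g.op (v.app (op T) b) ∈ A.obj (op T') ∨ H.map g.op b = H.map g.op b'

variable {A v} {F : Cᵒᵖ ⥤ Type w} (α : A.toFunctor ⟶ F) (η : H ⟶ F)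

/-- The possible values of a glued morphism at a section. -/
def IsVal {T : C} (t : P.obj (op T)) (y : F.obj (op T)) : Prop :=
  (∃ h : t ∈ A.obj (op T), y = α.app (op T) ⟨t, h⟩) ∨
    ∃ b, v.app (op T) b = t ∧ y = η.app (op T) b

theorem exists_glue (hc : Covers A v J) (hF : Presieve.IsSheaf J F)
    (h : A.fromPreimage v ≫ α = (A.preimage v).ι ≫ η) :
    ∃ γ : P ⟶ F, A.ι ≫ γ = α ∧ v ≫ γ = η := by
  classical
  have hcomp : ∀ (T : C) (b : H.obj (op T)) (hb : v.app (op T) b ∈ A.obj (op T)),
      α.app (op T) ⟨v.app (op T) b, hb⟩ = η.app (op T) b := fun T b hb =>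
    congrArg (fun k : (A.preimage v).toFunctor ⟶ F => k.app (op T) ⟨b, hb⟩) h
  have huniq : ∀ {T : C} (t : P.obj (op T)) (y y' : F.obj (op T)),
      IsVal (v := v) α η t y → IsVal (v := v) α η t y' → y = y' := by
    intro T t y y' hy hy'
    rcases hy with ⟨ht, rfl⟩ | ⟨b, rfl, rfl⟩
    · rcases hy' with ⟨_, rfl⟩ | ⟨b, rfl, rfl⟩
      · rfl
      · exact hcomp T b ht
    · rcases hy' with ⟨hb, rfl⟩ | ⟨b', hbb, rfl⟩
      · exact (hcomp T b hb).symm
      · obtain ⟨R, hR, hR'⟩ := hc.dich T b b' hbb.symm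
        refine (hF R hR).isSeparatedFor.ext fun T' g hg => ?_
        rw [← NatTrans.naturality_apply η g.op b, ← NatTrans.naturality_apply η g.op b']
        rcases hR' g hg with hA | he
        · have h1 : v.app (op T') (H.map g.op b) ∈ A.obj (op T') := by
            rw [NatTrans.naturality_apply v g.op b]; exact hA
          have h2 : v.app (op T') (H.map g.op b') ∈ A.obj (op T') := by
            rw [NatTrans.naturality_apply v g.op b', hbb]; exact hA
          rw [← hcomp T' _ h1, ← hcomp T' _ h2]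
          refine congrArg _ (Subtype.ext ?_)
          show v.app (op T') (H.map g.op b) = v.app (op T') (H.map g.op b')
          rw [NatTrans.naturality_apply v g.op b, NatTrans.naturality_apply v g.op b', hbb]
        · rw [he]
  have hnat : ∀ {T T' : C} (g : T' ⟶ T) (t : P.obj (op T)) (y : F.obj (op T)),
      IsVal (v := v) α η t y → IsVal (v := v) α η (P.map g.op t) (F.map g.op y) := by
    rintro T T' g t y (⟨ht, rfl⟩ | ⟨b, rfl, rfl⟩)
    · exact .inl ⟨A.map g.op ht, (NatTrans.naturality_apply α g.op ⟨t, ht⟩).symm⟩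
    · exact .inr ⟨H.map g.op b, NatTrans.naturality_apply v g.op b, (NatTrans.naturality_apply η g.op b).symm⟩
  have hex : ∀ (E : C) (s : P.obj (op E)), ∃ z : F.obj (op E), ∀ (T : C) (g : T ⟶ E) (y : F.obj (op T)),
      IsVal (v := v) α η (P.map g.op s) y → F.map g.op z = y := by
    intro E s
    obtain ⟨R, hR, hR'⟩ := hc.cover E s
    have hval : ∀ ⦃T : C⦄ (g : T ⟶ E), R.arrows g → ∃ y, IsVal (v := v) α η (P.map g.op s) y := fun T g hg => by
      rcases hR' g hg with hA | ⟨b, hb⟩
      · exact ⟨_, .inl ⟨hA, rfl⟩⟩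
      · exact ⟨_, .inr ⟨b, hb, rfl⟩⟩
    let x : Presieve.FamilyOfElements F R.arrows := fun T g hg => (hval g hg).choose
    have hx : x.Compatible := by
      rw [Presieve.compatible_iff_sieveCompatible]
      intro T T' g k hg
      refine huniq (P.map (k ≫ g).op s) _ _ (hval (k ≫ g) (R.downward_closed hg k)).choose_spec ?_
      have := hnat k _ _ (hval g hg).choose_spec
      rwa [← Functor.map_comp_apply, ← op_comp] at this
    obtain ⟨z, hz⟩ := ((hF R hR) x hx).exists
    refine ⟨z, fun T g y hy => (hF (R.pullback g) (J.pullback_stable g hR)).isSeparatedFor.ext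
      fun T' k hk => ?_⟩
    refine huniq (P.map (k ≫ g).op s) _ _ ?_ ?_
    · rw [← Functor.map_comp_apply, ← op_comp, hz _ hk]
      exact (hval (k ≫ g) hk).choose_spec
    · have := hnat k _ _ hy
      rwa [← Functor.map_comp_apply, ← op_comp] at this
  choose z hz using hex
  refine ⟨{ app := fun E => TypeCat.ofHom fun s => z E.unop s, naturality := ?_ }, ?_, ?_⟩
  · intro E E' f
    ext s
    show z E'.unop (P.map f s) = F.map f (z E.unop s)
    obtain ⟨R, hR, hR'⟩ := hc.cover E'.unop (P.map f s)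
    refine (hF R hR).isSeparatedFor.ext fun T g hg => ?_
    have hv : ∃ y, IsVal (v := v) α η (P.map g.op (P.map f s)) y := by
      rcases hR' g hg with hA | ⟨b, hb⟩
      · exact ⟨_, .inl ⟨hA, rfl⟩⟩
      · exact ⟨_, .inr ⟨b, hb, rfl⟩⟩
    obtain ⟨y, hy⟩ := hv
    rw [hz _ _ T g y hy, ← Functor.map_comp_apply]
    refine (hz _ _ T (g ≫ f.unop) y ?_).symm
    rwa [op_comp, Quiver.Hom.op_unop, Functor.map_comp_apply]
  · ext E t
    have := hz E.unop t.1 E.unop (𝟙 _) (α.app E t) (by
      rw [op_id, Functor.map_id_apply]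
      exact .inl ⟨t.2, rfl⟩)
    rwa [op_id, Functor.map_id_apply] at this
  · ext E b
    have := hz E.unop (v.app E b) E.unop (𝟙 _) (η.app E b) (by
      rw [op_id, Functor.map_id_apply]
      exact .inr ⟨b, rfl, rfl⟩)
    rwa [op_id, Functor.map_id_apply] at this

theorem glue_ext (hc : Covers A v J) (hF : Presieve.IsSheaf J F) {γ γ' : P ⟶ F}
    (h₁ : A.ι ≫ γ = A.ι ≫ γ') (h₂ : v ≫ γ = v ≫ γ') : γ = γ' := by
  ext E s
  obtain ⟨R, hR, hR'⟩ := hc.cover E.unop s
  refine (hF R hR).isSeparatedFor.ext fun T g hg => ?_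
  show F.map g.op (γ.app (op E.unop) s) = F.map g.op (γ'.app (op E.unop) s)
  rw [← NatTrans.naturality_apply γ g.op s, ← NatTrans.naturality_apply γ' g.op s]
  rcases hR' g hg with hA | ⟨b, hb⟩
  · exact congrArg (fun k : A.toFunctor ⟶ F => k.app (op T) ⟨_, hA⟩) h₁
  · rw [← hb]
    exact congrArg (fun k : H ⟶ F => k.app (op T) b) h₂

end Glue

variable [HasSheafify J AddCommGrpCat.{w}] [J.HasSheafCompose (CategoryTheory.forget AddCommGrpCat.{w})]

variable (J) in
/-- The free abelian sheaf on a presheaf of sets. -/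
noncomputable abbrev freeSh : (Cᵒᵖ ⥤ Type w) ⥤ Sheaf J AddCommGrpCat.{w} :=
  (Functor.whiskeringRight _ _ _).obj AddCommGrpCat.free ⋙ presheafToSheaf J _

variable (J) in
/-- The adjunction of the free abelian sheaf. -/
noncomputable def freeShAdj : freeSh J ⊣ sheafToPresheaf J AddCommGrpCat.{w} ⋙
    (Functor.whiskeringRight _ _ _).obj (CategoryTheory.forget AddCommGrpCat.{w}) :=
  (AddCommGrpCat.adj.whiskerRight Cᵒᵖ).comp (sheafificationAdjunction J _)

theorem isSheaf_forget (G : Sheaf J AddCommGrpCat.{w}) :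
    Presieve.IsSheaf J (G.obj ⋙ CategoryTheory.forget AddCommGrpCat.{w}) :=
  (isSheaf_iff_isSheaf_of_type J _).1 (GrothendieckTopology.HasSheafCompose.isSheaf G.obj G.property)

variable {P H : Cᵒᵖ ⥤ Type w} (A : Subfunctor P) (v : H ⟶ P)

theorem isPushout (hc : Covers A v J) :
    IsPushout ((freeSh J).map (A.fromPreimage v)) ((freeSh J).map (A.preimage v).ι)
      ((freeSh J).map A.ι) ((freeSh J).map v) := by
  have w₀ : A.fromPreimage v ≫ A.ι = (A.preimage v).ι ≫ v := rfl
  have hw : ∀ s : PushoutCocone ((freeSh J).map (A.fromPreimage v)) ((freeSh J).map (A.preimage v).ι),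
      A.fromPreimage v ≫ (freeShAdj J).homEquiv _ _ s.inl = (A.preimage v).ι ≫ (freeShAdj J).homEquiv _ _ s.inr :=
    fun s => by rw [← Adjunction.homEquiv_naturality_left, ← Adjunction.homEquiv_naturality_left, s.condition]
  refine ⟨⟨by rw [← Functor.map_comp, w₀, Functor.map_comp]⟩,
    ⟨PushoutCocone.IsColimit.mk _ (fun s => ((freeShAdj J).homEquiv _ _).symm
      (exists_glue ((freeShAdj J).homEquiv _ _ s.inl) ((freeShAdj J).homEquiv _ _ s.inr) hc
        (isSheaf_forget _) (hw s)).choose) (fun s => ?_) (fun s => ?_) (fun s m h₁ h₂ => ?_)⟩⟩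
  · apply ((freeShAdj J).homEquiv _ _).injective
    rw [Adjunction.homEquiv_naturality_left, Equiv.apply_symm_apply]
    exact (exists_glue _ _ hc (isSheaf_forget _) (hw s)).choose_spec.1
  · apply ((freeShAdj J).homEquiv _ _).injective
    rw [Adjunction.homEquiv_naturality_left, Equiv.apply_symm_apply]
    exact (exists_glue _ _ hc (isSheaf_forget _) (hw s)).choose_spec.2
  · apply ((freeShAdj J).homEquiv _ _).injective
    rw [Equiv.apply_symm_apply]
    refine glue_ext hc (isSheaf_forget _) ?_ ?_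
    · rw [(exists_glue _ _ hc (isSheaf_forget _) (hw s)).choose_spec.1, ← Adjunction.homEquiv_naturality_left, h₁]
    · rw [(exists_glue _ _ hc (isSheaf_forget _) (hw s)).choose_spec.2, ← Adjunction.homEquiv_naturality_left, h₂]

theorem mono_freeSh_map {Q : Cᵒᵖ ⥤ Type w} (f : Q ⟶ P) [Mono f] : Mono ((freeSh J).map f) := by
  infer_instance

variable [HasExt.{w'} (Sheaf J AddCommGrpCat.{w})]

/-- One step of the Mayer-Vietoris sequence. -/
theorem subsingleton_ext (hc : Covers A v J) (G : Sheaf J AddCommGrpCat.{w}) (q : ℕ)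
    (h₁ : Subsingleton (Ext ((freeSh J).obj (A.preimage v).toFunctor) G q))
    (h₂ : Subsingleton (Ext ((freeSh J).obj A.toFunctor) G (q + 1)))
    (h₃ : Subsingleton (Ext ((freeSh J).obj H) G (q + 1))) :
    Subsingleton (Ext ((freeSh J).obj P) G (q + 1)) := by
  let sq : Square (Sheaf J AddCommGrpCat.{w}) := Square.mk ((freeSh J).map (A.fromPreimage v))
    ((freeSh J).map (A.preimage v).ι) ((freeSh J).map A.ι) ((freeSh J).map v) (isPushout A v hc).w
  have hsq : sq.IsPushout := isPushout A v hc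
  let S : ShortComplex (Sheaf J AddCommGrpCat.{w}) :=
    ShortComplex.mk _ _ sq.cokernelCofork.condition
  haveI : Mono S.f := by
    haveI : Mono (S.f ≫ biprod.snd) := by
      show Mono (biprod.lift sq.f₁₂ (-sq.f₁₃) ≫ biprod.snd)
      rw [biprod.lift_snd]
      haveI := mono_freeSh_map (J := J) (A.preimage v).ι
      infer_instance
    exact mono_of_mono _ biprod.snd
  have hg := S.exact_and_epi_g_iff_g_is_cokernel.2 ⟨hsq.isColimitCokernelCofork⟩
  haveI := hg.2
  have hS : S.ShortExact := { exact := hg.1 }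
  refine subsingleton_of_forall_eq 0 fun x => ?_
  obtain ⟨z, rfl⟩ := Ext.contravariant_sequence_exact₃ hS G x
    (Ext.biprod_ext (@Subsingleton.elim _ h₂ _ _) (@Subsingleton.elim _ h₃ _ _)) (by omega : 1 + q = q + 1)
  rw [@Subsingleton.elim _ h₁ z 0, Ext.comp_zero]

end Groth.Agent.AlgSpQC10.MVFree
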