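import Mathlib.Algebra.Category.Grp.AB
import Mathlib.CategoryTheory.Abelian.GrothendieckAxioms.FunctorCategory
import Mathlib.CategoryTheory.Functor.ReflectsIso.Balanced
import Mathlib.Algebra.Category.ModuleCat.Sheaf.Abelian
import Mathlib.Algebra.Category.ModuleCat.Sheaf.Colimits
import Mathlib.Algebra.Category.ModuleCat.Sheaf.Limits
import Mathlib.Algebra.Category.ModuleCat.Presheaf.Generator
import Mathlib.Algebra.Category.ModuleCat.Presheaf.Sheafification
import Mathlib.CategoryTheory.Abelian.GrothendieckCategory.EnoughInjectives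

/-!
# Sheaves of modules on a large site with small morphism types form a Grothendieck abelian category
-/

universe u

set_option autoImplicit false
set_option backward.isDefEq.respectTransparency false
set_option backward.isDefEq.respectTransparency.types false

open CategoryTheory CategoryTheory.Limits Opposite

namespace Groth.Agent.AlgSpQC10

variable {C : Type (u + 1)} [Category.{u} C]

/-- The free presheaf of modules on a representable presheaf. -/
noncomputable abbrev freeRep (R : Cᵒᵖ ⥤ RingCat.{u + 1}) (X : C) : PresheafOfModules.{u + 1} R :=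
  (PresheafOfModules.free R).obj (uliftYoneda.{u + 1}.obj X)

theorem isSeparator_sigma_freeRep (R : Cᵒᵖ ⥤ RingCat.{u + 1}) : IsSeparator (∐ fun X : C => freeRep R X) := by
  rw [isSeparator_def]
  intro M N f g h
  ext ⟨X⟩ m
  let η : uliftYoneda.{u + 1}.obj X ⟶ M.presheaf ⋙ CategoryTheory.forget AddCommGrpCat.{u + 1} :=
    uliftYonedaEquiv.symm m
  classical
  let α : ∀ Y : C, freeRep R Y ⟶ M := fun Y =>
    if hY : Y = X then hY ▸ (PresheafOfModules.freeObjDesc η : freeRep R X ⟶ M) else 0
  have key := congrArg (fun k => Sigma.ι (fun X : C => freeRep R X) X ≫ k) (h (Sigma.desc α))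
  simp only [Sigma.ι_desc_assoc] at key
  rw [show α X = (PresheafOfModules.freeObjDesc η : freeRep R X ⟶ M) from dif_pos rfl] at key
  have e : (PresheafOfModules.freeObjDesc η).app (op X) (ModuleCat.freeMk (ULift.up (𝟙 X))) = m := by
    refine (ModuleCat.freeDesc_apply (M := M.obj (op X)) (η.app (op X)) (ULift.up (𝟙 X))).trans ?_
    exact Equiv.apply_symm_apply (uliftYonedaEquiv.{u + 1} (F := M.presheaf ⋙ CategoryTheory.forget AddCommGrpCat.{u + 1}) (X := X)) m
  have h2 := congrArg (fun k : freeRep R X ⟶ N => k.app (op X) (ModuleCat.freeMk (ULift.up (𝟙 X)))) key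
  rw [← e]
  exact h2

theorem hasExactColimitsOfShape_presheafOfModules (R : Cᵒᵖ ⥤ RingCat.{u + 1}) (K : Type (u + 1))
    [SmallCategory K] [IsFiltered K] : HasExactColimitsOfShape K (PresheafOfModules.{u + 1} R) := by
  have : ReflectsFiniteLimits (PresheafOfModules.toPresheaf.{u + 1} R) :=
    ⟨fun _ _ _ => reflectsLimitsOfShape_of_reflectsIsomorphisms⟩
  exact HasExactColimitsOfShape.domain_of_functor K (PresheafOfModules.toPresheaf.{u + 1} R)

variable {J : GrothendieckTopology C}

/-- Sheaves of modules form a Grothendieck abelian category. -/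
theorem isGrothendieckAbelian_sheafOfModules [HasSheafify J AddCommGrpCat.{u + 1}]
    [J.WEqualsLocallyBijective AddCommGrpCat.{u + 1}] (R : Sheaf J RingCat.{u + 1}) :
    IsGrothendieckAbelian.{u + 1} (SheafOfModules.{u + 1} R) where
  ab5OfSize := ⟨fun K _ _ => by
    have : HasExactColimitsOfShape K (PresheafOfModules.{u + 1} R.obj) :=
      hasExactColimitsOfShape_presheafOfModules R.obj K
    have : ((SheafOfModules.forget R ⋙ PresheafOfModules.restrictScalars (𝟙 R.obj))).Full := inferInstance
    exact (PresheafOfModules.sheafificationAdjunction (𝟙 R.obj)).hasExactColimitsOfShape K⟩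
  hasSeparator := by
    let adj := PresheafOfModules.sheafificationAdjunction (𝟙 R.obj)
    refine ⟨⟨(PresheafOfModules.sheafification (𝟙 R.obj)).obj (∐ fun X : C => freeRep R.obj X), ?_⟩⟩
    rw [isSeparator_def]
    intro X Y f g h
    refine (SheafOfModules.forget R ⋙ PresheafOfModules.restrictScalars (𝟙 R.obj)).map_injective ?_
    refine (isSeparator_def _).1 (isSeparator_sigma_freeRep R.obj) _ _ fun φ => ?_
    obtain ⟨ψ, rfl⟩ := (adj.homEquiv _ _).surjective φ
    rw [← Adjunction.homEquiv_naturality_right, ← Adjunction.homEquiv_naturality_right, h ψ]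

end Groth.Agent.AlgSpQC10
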