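import Groth.Agent.AlgSpQC10.Cartan
import Groth.Agent.AlgSpQC10.ModGroth
import Groth.Agent.EtLC12.FlasqueAcyclic
import Groth.Agent.QCart.Quasi
import Groth.Agent.QCoh.ToSheaf

/-!
# Cartan's criterion for Ext out of the structure sheaf
-/

universe u

set_option autoImplicit false
set_option linter.style.haveILetI false
set_option linter.unusedSectionVars false
set_option backward.isDefEq.respectTransparency false
set_option backward.isDefEq.respectTransparency.types false

open CategoryTheory CategoryTheory.Limits Opposite Abelian Groth.Agent.QCart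
open Groth.Agent.EtLC12.FlasqueAcyclic (cofree)

namespace Groth.Agent.AlgSpQC10

variable {C : Type (u + 1)} [Category.{u} C] {J : GrothendieckTopology C}
  [HasSheafify J AddCommGrpCat.{u + 1}] [J.WEqualsLocallyBijective AddCommGrpCat.{u + 1}]

/-- The cofree presheaf of modules on the values of a presheaf of modules. -/
noncomputable def cofreeMod {R : Cᵒᵖ ⥤ RingCat.{u + 1}} (M : PresheafOfModules.{u + 1} R) :
    PresheafOfModules.{u + 1} R :=
  letI inst : ∀ T : Cᵒᵖ, Module (R.obj T)
      ((cofree.{u + 1, u} fun T₀ : C => AddCommGrpCat.of (M.obj (op T₀))).obj T) := fun T =>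
    @Pi.module C (fun T₀ => (T₀ ⟶ T.unop) → M.obj (op T₀)) (R.obj T) _ _ fun T₀ =>
      @Pi.module (T₀ ⟶ T.unop) (fun _ => M.obj (op T₀)) (R.obj T) _ _ fun h =>
        Module.compHom (M.obj (op T₀)) (R.map h.op).hom
  PresheafOfModules.ofPresheaf (cofree.{u + 1, u} fun T₀ : C => AddCommGrpCat.of (M.obj (op T₀)))
    fun X Y f r x => by
      funext T₀ h
      show (R.map (h ≫ f.unop).op).hom r • x T₀ (h ≫ f.unop) =
        (R.map h.op).hom ((R.map f).hom r) • x T₀ (h ≫ f.unop)
      rw [op_comp, Functor.map_comp]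
      rfl

/-- A presheaf of modules maps into its cofree presheaf. -/
noncomputable def toCofreeMod {R : Cᵒᵖ ⥤ RingCat.{u + 1}} (M : PresheafOfModules.{u + 1} R) :
    M ⟶ cofreeMod M :=
  PresheafOfModules.homMk
    { app := fun T => AddCommGrpCat.ofHom
        { toFun := fun s T₀ h => M.map h.op s
          map_zero' := by funext T₀ h; exact map_zero (M.map h.op).hom
          map_add' := fun a b => by funext T₀ h; exact map_add (M.map h.op).hom a b }
      naturality := fun T T' f => by
        ext s
        funext T₀ h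
        exact (DFunLike.congr_fun (congrArg ModuleCat.Hom.hom (M.map_comp f h.op)) s).symm }
    fun T r s => by
      funext T₀ h
      exact M.map_smul h.op r s

theorem mono_toCofreeMod {R : Cᵒᵖ ⥤ RingCat.{u + 1}} (M : PresheafOfModules.{u + 1} R) :
    Mono (toCofreeMod M) := by
  constructor
  intro N g g' h
  refine PresheafOfModules.hom_ext fun T => ModuleCat.hom_ext (LinearMap.ext fun x => ?_)
  have h1 := congrArg (fun k : N ⟶ cofreeMod M => k.app T x) h
  have h2 : M.map (𝟙 T.unop).op (g.app T x) = M.map (𝟙 T.unop).op (g'.app T x) :=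
    congrFun (congrFun h1 T.unop) (𝟙 _)
  have e : ∀ y : M.obj T, M.map (𝟙 T.unop).op y = y := fun y =>
    DFunLike.congr_fun (congrArg ModuleCat.Hom.hom (M.map_id T)) y
  exact ((e _).symm.trans h2).trans (e _)

variable [HasPullbacks C] [J.HasSheafCompose (CategoryTheory.forget AddCommGrpCat.{u + 1})]
  [J.HasSheafCompose (forget₂ CommRingCat.{u + 1} RingCat.{u + 1})]
  {R : Sheaf J CommRingCat.{u + 1}} {b : AffBasis J R.obj}

instance locallySmall_C : LocallySmall.{u + 1} C := ⟨fun _ _ => inferInstance⟩

/-- The underlying abelian sheaf of an injective sheaf of modules has no higher Čech cohomology. -/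
theorem isCechAcyclic_toSheaf_injective (I : SheafOfModules.{u + 1} (RS R)) [Injective I] :
    IsCechAcyclic b ((SheafOfModules.toSheaf (RS R)).obj I) := by
  intro E _ _ c p
  haveI hI : Injective (psh I) :=
    Injective.injective_of_adjoint (PresheafOfModules.sheafificationAdjunction (𝟙 (RS R).obj)) I
  haveI := mono_toCofreeMod (psh I)
  exact EtLC12.FlasqueAcyclic.isZero_cechH_of_retract.{u + 1, u}
    (fun T₀ : C => AddCommGrpCat.of ((psh I).obj (op T₀))) (cFam c)
    ((PresheafOfModules.toPresheaf _).map (toCofreeMod (psh I)))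
    ((PresheafOfModules.toPresheaf _).map (Injective.factorThru (𝟙 (psh I)) (toCofreeMod (psh I))))
    ((Functor.map_comp _ _ _).symm.trans ((congrArg (PresheafOfModules.toPresheaf _).map
      (Injective.comp_factorThru (𝟙 (psh I)) (toCofreeMod (psh I)))).trans (CategoryTheory.Functor.map_id _ _))) p

variable [HasExt.{u + 1} (SheafOfModules.{u + 1} (RS R))]

/-- A morphism out of the structure sheaf lifts along a short exact sequence with acyclic kernel. -/
theorem exists_lift_unit {S : ShortComplex (SheafOfModules.{u + 1} (RS R))} (hS : S.ShortExact)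
    (h1 : IsCechAcyclic b ((SheafOfModules.toSheaf (RS R)).obj S.X₁)) {T : C} (hT : IsTerminal T)
    (hTa : b.aff T) (φ : SheafOfModules.unit (RS R) ⟶ S.X₃) :
    ∃ ψ : SheafOfModules.unit (RS R) ⟶ S.X₂, ψ ≫ S.g = φ := by
  obtain ⟨y, hy⟩ := sections_surjective (S.map (SheafOfModules.toSheaf (RS R)))
    (hS.map_of_exact (SheafOfModules.toSheaf (RS R))) h1 hTa ((S.X₃.unitHomEquiv φ).val (op T))
  refine ⟨S.X₂.unitHomEquiv.symm (globalSec hT y), ?_⟩
  apply S.X₃.unitHomEquiv.injective
  rw [SheafOfModules.unitHomEquiv_comp_apply, Equiv.apply_symm_apply]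
  refine Subtype.ext (funext fun W => ?_)
  show (phom S.g).app W (sres (psh S.X₂) (hT.from W.unop) y) = _
  refine (app_sres (phom S.g) (hT.from W.unop) y).trans ?_
  refine (congrArg (sres (psh S.X₃) (hT.from W.unop)) hy).trans ?_
  exact (S.X₃.unitHomEquiv φ).property (hT.from W.unop).op

/-- Acyclic modules have no Ext out of the structure sheaf. -/
theorem subsingleton_ext_unit {T : C} (hT : IsTerminal T) (hTa : b.aff T)
    (hiso : ∀ {W W' : C}, (W ≅ W') → b.aff W' → b.aff W) (n : ℕ) (M : SheafOfModules.{u + 1} (RS R))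
    (hM : IsCechAcyclic b ((SheafOfModules.toSheaf (RS R)).obj M)) :
    Subsingleton (Ext.{u + 1} (SheafOfModules.unit (RS R)) M (n + 1)) := by
  haveI := isGrothendieckAbelian_sheafOfModules (RS R)
  induction n generalizing M with
  | zero =>
    let S := ShortComplex.mk (Injective.ι M) (cokernel.π _) (cokernel.condition (Injective.ι M))
    have hS : S.ShortExact := { exact := ShortComplex.exact_of_g_is_cokernel _ (cokernelIsCokernel _) }
    haveI : Injective S.X₂ := inferInstanceAs (Injective (Injective.under M))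
    refine subsingleton_of_forall_eq 0 fun x => ?_
    obtain ⟨z, rfl⟩ := Ext.covariant_sequence_exact₁ _ hS x (Ext.eq_zero_of_injective _) (rfl : 0 + 1 = 1)
    obtain ⟨φ, rfl⟩ := (Ext.mk₀_bijective _ _).2 z
    obtain ⟨ψ, rfl⟩ := exists_lift_unit hS hM hT hTa φ
    rw [← Ext.mk₀_comp_mk₀, Ext.comp_assoc_of_second_deg_zero, hS.comp_extClass, Ext.comp_zero]
  | succ n ih =>
    let S := ShortComplex.mk (Injective.ι M) (cokernel.π _) (cokernel.condition (Injective.ι M))
    have hS : S.ShortExact := { exact := ShortComplex.exact_of_g_is_cokernel _ (cokernelIsCokernel _) }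
    haveI hI : Injective S.X₂ := inferInstanceAs (Injective (Injective.under M))
    refine subsingleton_of_forall_eq 0 fun x => ?_
    obtain ⟨z, rfl⟩ := Ext.covariant_sequence_exact₁ _ hS x (Ext.eq_zero_of_injective _) (rfl : (n + 1) + 1 = _)
    haveI := ih S.X₃ (isCechAcyclic_X₃ (S.map (SheafOfModules.toSheaf (RS R)))
      (hS.map_of_exact (SheafOfModules.toSheaf (RS R))) hiso hM (isCechAcyclic_toSheaf_injective S.X₂))
    rw [Subsingleton.elim z 0, Ext.zero_comp]

end Groth.Agent.AlgSpQC10
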