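import Groth.Agent.AlgSpQC10.ModCartan

/-!
# Sections as morphisms out of free sheaves of modules on representables
-/

universe u

set_option autoImplicit false
set_option linter.style.haveILetI false
set_option linter.unusedSectionVars false
set_option backward.isDefEq.respectTransparency false
set_option backward.isDefEq.respectTransparency.types false

open CategoryTheory CategoryTheory.Limits Opposite Abelian Groth.Agent.QCart

namespace Groth.Agent.AlgSpQC10

variable {C : Type (u + 1)} [Category.{u} C] {J : GrothendieckTopology C}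
  [HasSheafify J AddCommGrpCat.{u + 1}] [J.WEqualsLocallyBijective AddCommGrpCat.{u + 1}]
  [J.HasSheafCompose (CategoryTheory.forget AddCommGrpCat.{u + 1})]
  [J.HasSheafCompose (forget₂ CommRingCat.{u + 1} RingCat.{u + 1})]
  {R : Sheaf J CommRingCat.{u + 1}}

variable (R) in
/-- The free sheaf of modules on a representable. -/
noncomputable def shRep (W : C) : SheafOfModules.{u + 1} (RS R) :=
  (PresheafOfModules.sheafification (𝟙 (RS R).obj)).obj (freeRep (RS R).obj W)

/-- Morphisms out of the free sheaf on a representable are sections. -/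
noncomputable def shRepEquiv (W : C) (M : SheafOfModules.{u + 1} (RS R)) :
    (shRep R W ⟶ M) ≃ (psh M).obj (op W) :=
  ((PresheafOfModules.sheafificationAdjunction (𝟙 (RS R).obj)).homEquiv (freeRep (RS R).obj W) M).trans
    (PresheafOfModules.freeHomEquiv.trans uliftYonedaEquiv.{u + 1})

theorem shRepEquiv_comp {W : C} {M N : SheafOfModules.{u + 1} (RS R)} (φ : shRep R W ⟶ M) (g : M ⟶ N) :
    shRepEquiv W N (φ ≫ g) = (phom g).app (op W) (shRepEquiv W M φ) := by
  refine (congrArg (fun t => uliftYonedaEquiv.{u + 1} (PresheafOfModules.freeHomEquiv t))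
    ((PresheafOfModules.sheafificationAdjunction (𝟙 (RS R).obj)).homEquiv_naturality_right φ g)).trans ?_
  rfl

theorem shRepEquiv_add {W : C} {M : SheafOfModules.{u + 1} (RS R)} (φ ψ : shRep R W ⟶ M) :
    shRepEquiv W M (φ + ψ) = shRepEquiv W M φ + shRepEquiv W M ψ := by
  rw [← Category.id_comp φ, ← Category.id_comp ψ, ← Preadditive.comp_add, shRepEquiv_comp, shRepEquiv_comp,
    shRepEquiv_comp]
  rfl

/-- The map of free sheaves induced by a morphism. -/
noncomputable def shRepMap {V W : C} (f : V ⟶ W) : shRep R V ⟶ shRep R W :=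
  (shRepEquiv V _).symm (sres (psh (shRep R W)) f (shRepEquiv W _ (𝟙 _)))

theorem shRepEquiv_map_comp {V W : C} (f : V ⟶ W) {M : SheafOfModules.{u + 1} (RS R)} (φ : shRep R W ⟶ M) :
    shRepEquiv V M (shRepMap f ≫ φ) = sres (psh M) f (shRepEquiv W M φ) := by
  rw [shRepEquiv_comp, shRepMap, Equiv.apply_symm_apply, app_sres, ← shRepEquiv_comp, Category.id_comp]

variable [HasPullbacks C] {b : AffBasis J R.obj}

/-- A morphism out of the free sheaf on an affine object lifts along a short exact sequence with acyclic kernel. -/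
theorem exists_lift_shRep {S : ShortComplex (SheafOfModules.{u + 1} (RS R))} (hS : S.ShortExact)
    (h1 : IsCechAcyclic b ((SheafOfModules.toSheaf (RS R)).obj S.X₁)) {W : C}
    (hW : b.aff W) (φ : shRep R W ⟶ S.X₃) : ∃ ψ : shRep R W ⟶ S.X₂, ψ ≫ S.g = φ := by
  obtain ⟨y, hy⟩ := sections_surjective (S.map (SheafOfModules.toSheaf (RS R)))
    (hS.map_of_exact (SheafOfModules.toSheaf (RS R))) h1 hW (shRepEquiv W S.X₃ φ)
  refine ⟨(shRepEquiv W S.X₂).symm y, (shRepEquiv W S.X₃).injective ?_⟩
  rw [shRepEquiv_comp, Equiv.apply_symm_apply]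
  exact hy

variable [HasExt.{u + 1} (SheafOfModules.{u + 1} (RS R))]

/-- Acyclic modules have no Ext out of the free sheaf on an affine object. -/
theorem subsingleton_ext_shRep {W : C} (hW : b.aff W)
    (hiso : ∀ {W W' : C}, (W ≅ W') → b.aff W' → b.aff W) (n : ℕ) (M : SheafOfModules.{u + 1} (RS R))
    (hM : IsCechAcyclic b ((SheafOfModules.toSheaf (RS R)).obj M)) :
    Subsingleton (Ext.{u + 1} (shRep R W) M (n + 1)) := by
  haveI := isGrothendieckAbelian_sheafOfModules (RS R)
  induction n generalizing M with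
  | zero =>
    let S := ShortComplex.mk (Injective.ι M) (cokernel.π _) (cokernel.condition (Injective.ι M))
    have hS : S.ShortExact := { exact := ShortComplex.exact_of_g_is_cokernel _ (cokernelIsCokernel _) }
    haveI : Injective S.X₂ := inferInstanceAs (Injective (Injective.under M))
    refine subsingleton_of_forall_eq 0 fun x => ?_
    obtain ⟨z, rfl⟩ := Ext.covariant_sequence_exact₁ _ hS x (Ext.eq_zero_of_injective _) (rfl : 0 + 1 = 1)
    obtain ⟨φ, rfl⟩ := (Ext.mk₀_bijective _ _).2 z
    obtain ⟨ψ, rfl⟩ := exists_lift_shRep hS hM hW φ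
    rw [← Ext.mk₀_comp_mk₀, Ext.comp_assoc_of_second_deg_zero, hS.comp_extClass, Ext.comp_zero]
  | succ n ih =>
    let S := ShortComplex.mk (Injective.ι M) (cokernel.π _) (cokernel.condition (Injective.ι M))
    have hS : S.ShortExact := { exact := ShortComplex.exact_of_g_is_cokernel _ (cokernelIsCokernel _) }
    haveI hI : Injective S.X₂ := inferInstanceAs (Injective (Injective.under M))
    refine subsingleton_of_forall_eq 0 fun x => ?_
    obtain ⟨z, rfl⟩ := Ext.covariant_sequence_exact₁ _ hS x (Ext.eq_zero_of_injective _) (rfl : (n + 1) + 1 = _)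
    haveI := ih S.X₃ (isCechAcyclic_X₃ (S.map (SheafOfModules.toSheaf (RS R)))
      (hS.map_of_exact (SheafOfModules.toSheaf (RS R))) hiso hM (isCechAcyclic_toSheaf_injective S.X₂))
    rw [Subsingleton.elim z 0, Ext.zero_comp]

end Groth.Agent.AlgSpQC10
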