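import Groth.Agent.AlgSpQC10.ModFree
import Groth.Agent.AlgSpQC10.DerDetect
import Mathlib.Algebra.Homology.DerivedCategory.TStructure

/-!
# Countable products of acyclic modules
-/

universe u w

set_option autoImplicit false
set_option linter.style.haveILetI false
set_option linter.unusedSectionVars false
set_option backward.isDefEq.respectTransparency false
set_option backward.isDefEq.respectTransparency.types false

open CategoryTheory CategoryTheory.Limits Opposite Abelian Groth.Agent.QCart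

namespace Groth.Agent.AlgSpQC10

variable {C : Type (u + 1)} [Category.{u} C] [HasPullbacks C] {J : GrothendieckTopology C}
  [HasSheafify J AddCommGrpCat.{u + 1}] [J.WEqualsLocallyBijective AddCommGrpCat.{u + 1}]
  [J.HasSheafCompose (CategoryTheory.forget AddCommGrpCat.{u + 1})]
  [J.HasSheafCompose (forget₂ CommRingCat.{u + 1} RingCat.{u + 1})]
  {R : Sheaf J CommRingCat.{u + 1}} {b : AffBasis J R.obj}
  [HasLimitsOfShape (Discrete ℕ) (SheafOfModules.{u + 1} (RS R))]

/-- The product of short complexes. -/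
noncomputable abbrev piShort (S : ℕ → ShortComplex (SheafOfModules.{u + 1} (RS R))) :
    ShortComplex (SheafOfModules.{u + 1} (RS R)) :=
  ShortComplex.mk (Limits.Pi.map fun n => (S n).f) (Limits.Pi.map fun n => (S n).g)
    (Pi.hom_ext _ _ fun n => by
      rw [Category.assoc, Pi.map_π, Pi.map_π_assoc, (S n).zero, comp_zero, zero_comp])

/-- The projection from the product of short complexes. -/
noncomputable abbrev piShortπ (S : ℕ → ShortComplex (SheafOfModules.{u + 1} (RS R))) (n : ℕ) : piShort S ⟶ S n :=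
  ShortComplex.homMk (Pi.π _ n) (Pi.π _ n) (Pi.π _ n) (Pi.map_π (fun n => (S n).f) n).symm
    (Pi.map_π (fun n => (S n).g) n).symm

omit [HasLimitsOfShape (Discrete ℕ) (SheafOfModules.{u + 1} (RS R))] in
/-- A morphism through which sections over affine objects lift is an epimorphism. -/
theorem epi_of_lift_shRep {X Y : SheafOfModules.{u + 1} (RS R)} (g : X ⟶ Y)
    (h : ∀ W : C, b.aff W → ∀ φ : shRep R W ⟶ Y, ∃ ψ : shRep R W ⟶ X, ψ ≫ g = φ) : Epi g := ⟨fun {N} a a' e => by
  refine SheafOfModules.hom_ext (PresheafOfModules.hom_ext fun V => ModuleCat.hom_ext (LinearMap.ext fun y => ?_))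
  refine sres_ext_of_mem N (b.dense V.unop) _ _ ?_
  rintro W' f ⟨W, i, q, hW, rfl⟩
  rw [← sres_sres, ← sres_sres]
  refine congrArg _ ?_
  refine (app_sres (phom a) q y).symm.trans (Eq.trans ?_ (app_sres (phom a') q y))
  obtain ⟨φ, hφ⟩ := (shRepEquiv W Y).surjective (sres (psh Y) q y)
  rw [← hφ, ← shRepEquiv_comp, ← shRepEquiv_comp]
  obtain ⟨ψ, rfl⟩ := h W hW φ
  rw [Category.assoc, Category.assoc, e]⟩

/-- A countable product of short exact sequences with acyclic kernels is short exact. -/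
theorem shortExact_piShort (S : ℕ → ShortComplex (SheafOfModules.{u + 1} (RS R))) (hS : ∀ n, (S n).ShortExact)
    (h1 : ∀ n, IsCechAcyclic b ((SheafOfModules.toSheaf (RS R)).obj (S n).X₁)) : (piShort S).ShortExact := by
  haveI := fun n => (hS n).mono_f
  haveI : Mono (piShort S).f := ⟨fun a a' h => Pi.hom_ext _ _ fun n => (cancel_mono (S n).f).1 (by
    have := congrArg (· ≫ Pi.π (fun n => (S n).X₂) n) h
    simpa [piShort] using this)⟩
  have hepi : Epi (piShort S).g := epi_of_lift_shRep (b := b) _ fun W hW φ => by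
    choose ψ hψ using fun n => exists_lift_shRep (hS n) (h1 n) hW (φ ≫ Pi.π _ n)
    exact ⟨Pi.lift ψ, Pi.hom_ext _ _ fun n => by rw [Category.assoc, Pi.map_π, Pi.lift_π_assoc, hψ]⟩
  refine { exact := ShortComplex.exact_of_f_is_kernel _ (KernelFork.IsLimit.ofι _ _
    (fun k hk => Pi.lift fun n => (hS n).exact.lift (k ≫ Pi.π _ n) (by
      rw [Category.assoc, ← Pi.map_π (fun n => (S n).g)]
      exact (reassoc_of% hk) _ |>.trans zero_comp))
    (fun k hk => Pi.hom_ext _ _ fun n => by rw [Category.assoc, Pi.map_π, Pi.lift_π_assoc, ShortComplex.Exact.lift_f])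
    (fun k hk m hm => Pi.hom_ext _ _ fun n => (cancel_mono (S n).f).1 (by
      rw [Pi.lift_π, ShortComplex.Exact.lift_f, ← hm, Category.assoc, Category.assoc, Pi.map_π]))) }

variable [HasExt.{u + 1} (SheafOfModules.{u + 1} (RS R))]

theorem ext_sub_comp {X Y Z : SheafOfModules.{u + 1} (RS R)} {a c d : ℕ} (x y : Ext.{u + 1} X Y a)
    (t : Ext.{u + 1} Y Z c) (h : a + c = d) : (x - y).comp t h = x.comp t h - y.comp t h := by
  rw [sub_eq_add_neg, Ext.add_comp, Ext.neg_comp, sub_eq_add_neg]

/-- Ext commutes with countable products of acyclic modules. -/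
theorem bijective_ext_pi (hiso : ∀ {W W' : C}, (W ≅ W') → b.aff W' → b.aff W) (Z : SheafOfModules.{u + 1} (RS R))
    (k : ℕ) (M : ℕ → SheafOfModules.{u + 1} (RS R))
    (hM : ∀ n, IsCechAcyclic b ((SheafOfModules.toSheaf (RS R)).obj (M n))) :
    Function.Bijective fun (x : Ext.{u + 1} Z (∏ᶜ M) k) (n : ℕ) => x.comp (Ext.mk₀ (Pi.π M n)) (add_zero k) := by
  haveI := isGrothendieckAbelian_sheafOfModules (RS R)
  induction k generalizing M with
  | zero =>
    refine ⟨fun x x' h => ?_, fun x => ?_⟩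
    · obtain ⟨f, rfl⟩ := (Ext.mk₀_bijective _ _).2 x
      obtain ⟨f', rfl⟩ := (Ext.mk₀_bijective _ _).2 x'
      refine congrArg _ (Pi.hom_ext _ _ fun n => ?_)
      have := congrFun h n
      dsimp only at this
      rw [Ext.mk₀_comp_mk₀, Ext.mk₀_comp_mk₀] at this
      exact (Ext.mk₀_bijective _ _).1 this
    · choose f hf using fun n => (Ext.mk₀_bijective _ _).2 (x n)
      exact ⟨Ext.mk₀ (Pi.lift f), funext fun n => by
        dsimp only
        rw [Ext.mk₀_comp_mk₀, Pi.lift_π, hf]⟩
  | succ k ih =>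
    let S : ℕ → ShortComplex (SheafOfModules.{u + 1} (RS R)) := fun n =>
      ShortComplex.mk (Injective.ι (M n)) (cokernel.π _) (cokernel.condition (Injective.ι (M n)))
    have hS : ∀ n, (S n).ShortExact := fun n =>
      { exact := ShortComplex.exact_of_g_is_cokernel _ (cokernelIsCokernel _) }
    haveI : ∀ n, Injective (S n).X₂ := fun n => inferInstanceAs (Injective (Injective.under (M n)))
    have hC : ∀ n, IsCechAcyclic b ((SheafOfModules.toSheaf (RS R)).obj (S n).X₃) := fun n =>
      isCechAcyclic_X₃ ((S n).map (SheafOfModules.toSheaf (RS R)))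
        ((hS n).map_of_exact (SheafOfModules.toSheaf (RS R))) hiso (hM n) (isCechAcyclic_toSheaf_injective (S n).X₂)
    have hP := shortExact_piShort S hS hM
    have hnat : ∀ (z : Ext.{u + 1} Z (piShort S).X₃ k) (n : ℕ),
        (z.comp hP.extClass rfl).comp (Ext.mk₀ (Pi.π M n)) (add_zero _) =
          (z.comp (Ext.mk₀ (Pi.π (fun n => (S n).X₃) n)) (add_zero k)).comp (hS n).extClass rfl := fun z n => by
      rw [Ext.comp_assoc_of_third_deg_zero, Ext.comp_assoc_of_second_deg_zero]
      exact congrArg (fun t => z.comp t _) (ShortComplex.ShortExact.extClass_naturality hP (hS n) (piShortπ S n))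
    haveI : Injective (piShort S).X₂ := inferInstanceAs (Injective (∏ᶜ fun n => (S n).X₂))
    refine ⟨fun x x' h => ?_, fun x => ?_⟩
    · obtain ⟨z, rfl⟩ := Ext.covariant_sequence_exact₁ _ hP x (Ext.eq_zero_of_injective _) (rfl : k + 1 = _)
      obtain ⟨z', rfl⟩ := Ext.covariant_sequence_exact₁ _ hP x' (Ext.eq_zero_of_injective _) (rfl : k + 1 = _)
      have hd : ∀ n, ((z - z').comp (Ext.mk₀ (Pi.π (fun n => (S n).X₃) n)) (add_zero k)).comp
          (hS n).extClass rfl = 0 := fun n => by
        rw [← hnat, ext_sub_comp, ext_sub_comp, sub_eq_zero]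
        exact congrFun h n
      choose w hw using fun n => Ext.covariant_sequence_exact₃ _ (hS n) _ (rfl : k + 1 = _) (hd n)
      obtain ⟨W, hW⟩ := (ih (fun n => (S n).X₂) fun n => isCechAcyclic_toSheaf_injective (S n).X₂).2 w
      have e : z - z' = W.comp (Ext.mk₀ (piShort S).g) (add_zero k) := (ih _ hC).1 (funext fun n => by
        dsimp only
        rw [← hw n, ← congrFun hW n, Ext.comp_assoc_of_second_deg_zero, Ext.comp_assoc_of_third_deg_zero,
          Ext.mk₀_comp_mk₀, Ext.mk₀_comp_mk₀, Pi.map_π])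
      rw [← sub_eq_zero, ← ext_sub_comp, e, Ext.comp_assoc_of_second_deg_zero, hP.comp_extClass, Ext.comp_zero]
    · choose z hz using fun n => Ext.covariant_sequence_exact₁ _ (hS n) (x n) (Ext.eq_zero_of_injective _) (rfl : k + 1 = _)
      obtain ⟨z', hz'⟩ := (ih _ hC).2 z
      refine ⟨z'.comp hP.extClass rfl, funext fun n => ?_⟩
      dsimp only
      rw [hnat, show z'.comp (Ext.mk₀ (Pi.π (fun n => (S n).X₃) n)) (add_zero k) = z n from congrFun hz' n, hz]

variable [HasDerivedCategory.{w} (SheafOfModules.{u + 1} (RS R))]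

/-- Countable products of acyclic modules are products in the derived category. -/
theorem isIso_piComparison_single (hiso : ∀ {W W' : C}, (W ≅ W') → b.aff W' → b.aff W)
    (M : ℕ → SheafOfModules.{u + 1} (RS R))
    (hM : ∀ n, IsCechAcyclic b ((SheafOfModules.toSheaf (RS R)).obj (M n)))
    [HasProduct fun n => (DerivedCategory.singleFunctor (SheafOfModules.{u + 1} (RS R)) 0).obj (M n)] :
    IsIso (piComparison (DerivedCategory.singleFunctor (SheafOfModules.{u + 1} (RS R)) 0) M) := by
  let F := DerivedCategory.singleFunctor (SheafOfModules.{u + 1} (RS R)) 0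
  refine isIso_of_bijective_hom_single _ fun k Z => ?_
  have comp : ∀ (f : (DerivedCategory.singleFunctor _ k).obj Z ⟶ F.obj (∏ᶜ M)) (n : ℕ),
      (f ≫ piComparison F M) ≫ Pi.π _ n = f ≫ F.map (Pi.π M n) := fun f n => by
    rw [Category.assoc, piComparison_comp_π]
  rcases lt_or_ge k 0 with hk | hk
  · have hz : ∀ (N : SheafOfModules.{u + 1} (RS R)) (f : (DerivedCategory.singleFunctor _ k).obj Z ⟶ F.obj N),
        f = 0 := fun N f =>
      DerivedCategory.TStructure.t.zero f k 0 hk
    refine ⟨fun f f' _ => (hz _ f).trans (hz _ f').symm, fun g => ⟨0, Pi.hom_ext _ _ fun n => ?_⟩⟩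
    exact (comp 0 n).trans ((zero_comp).trans (hz _ (g ≫ Pi.π (fun n => F.obj (M n)) n)).symm)
  obtain ⟨m, rfl⟩ := Int.eq_ofNat_of_zero_le hk
  let s : F.obj Z ≅ ((DerivedCategory.singleFunctor (SheafOfModules.{u + 1} (RS R)) (m : ℤ)).obj Z)⟦(m : ℤ)⟧ :=
    (((DerivedCategory.singleFunctors _).shiftIso (m : ℤ) 0 (m : ℤ) (by omega)).app Z).symm
  have θ : ∀ N : SheafOfModules.{u + 1} (RS R), ∃ e : ((DerivedCategory.singleFunctor _ (m : ℤ)).obj Z ⟶ F.obj N) ≃
      Ext.{u + 1} Z N m, ∀ f, (e f).hom = s.hom ≫ f⟦(m : ℤ)⟧' := fun N =>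
    ⟨((Functor.FullyFaithful.ofFullyFaithful (shiftFunctor _ (m : ℤ))).homEquiv.trans
      (Iso.homCongr s.symm (Iso.refl _))).trans Ext.homEquiv.symm, fun f =>
      (Ext.homEquiv.apply_symm_apply _).trans (congrArg (s.hom ≫ ·) (Category.comp_id _))⟩
  choose e he using θ
  have key : ∀ (f : (DerivedCategory.singleFunctor _ (m : ℤ)).obj Z ⟶ F.obj (∏ᶜ M)) (n : ℕ),
      e (M n) ((f ≫ piComparison F M) ≫ Pi.π _ n) = (e _ f).comp (Ext.mk₀ (Pi.π M n)) (add_zero m) := fun f n => by
    apply Ext.homEquiv.injective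
    show Ext.hom _ = Ext.hom _
    rw [he, comp, Ext.comp_hom, Ext.mk₀_hom, ShiftedHom.comp_mk₀, he, Functor.map_comp, ← Category.assoc]
  have hb := bijective_ext_pi hiso Z m M hM
  refine ⟨fun f f' h => (e _).injective (hb.1 (funext fun n => ?_)), fun g => ?_⟩
  · dsimp only
    rw [← key, ← key, show f ≫ piComparison F M = f' ≫ piComparison F M from h]
  · obtain ⟨x, hx⟩ := hb.2 fun n => e (M n) (g ≫ Pi.π _ n)
    refine ⟨(e _).symm x, Pi.hom_ext _ _ fun n => (e (M n)).injective ?_⟩
    rw [key, Equiv.apply_symm_apply]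
    exact congrFun hx n

end Groth.Agent.AlgSpQC10
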