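import Groth.Agent.QCart.PullProj
import Groth.Agent.AlgSpQC10.Weak

/-!
# Sections of pullbacks over affine objects
-/

universe u w v₁ u₁

set_option autoImplicit false
set_option linter.style.haveILetI false
set_option linter.unusedSectionVars false
set_option backward.isDefEq.respectTransparency false
set_option backward.isDefEq.respectTransparency.types false

open CategoryTheory CategoryTheory.Limits AlgebraicGeometry Opposite TensorProduct AlgSp

namespace Groth.Agent.QCart

section Free

variable {C : Type u₁} [Category.{v₁} C] {J : GrothendieckTopology C}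
  [J.HasSheafCompose (forget₂ CommRingCat.{w} RingCat.{w})]
  [J.HasSheafCompose (CategoryTheory.forget AddCommGrpCat.{w})]
  [HasSheafify J AddCommGrpCat.{w}] [J.WEqualsLocallyBijective AddCommGrpCat.{w}]
  {R : Sheaf J CommRingCat.{w}} {b : AffBasis J R.obj}

set_option maxHeartbeats 1000000 in
/-- A linear map out of the sections of a free sheaf over an affine object, with prescribed values. -/
theorem AffBasis.exists_freeLift {I : Type w} {E : C} (hE : b.aff E) {N : Type w} [AddCommGroup N]
    [Module (R.obj.obj (op E)) N] (v : I → N) :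
    ∃ ψ : (psh (SheafOfModules.free (R := RS R) I)).obj (op E) →ₗ[R.obj.obj (op E)] N,
      ∀ i, ψ (basisAt E i) = v i := by
  let hcE := isColimitOfPreserves (PresheafOfModules.evaluation (RS R).obj (op E))
    (colimit.isColimit (unitDiag (R := R) I))
  letI : Module ((RS R).obj.obj (op E)) N := inferInstanceAs (Module (R.obj.obj (op E)) N)
  let P : ModuleCat ((RS R).obj.obj (op E)) := ModuleCat.of _ N
  let s : Cocone (unitDiag (R := R) I ⋙ PresheafOfModules.evaluation (RS R).obj (op E)) :=
    { pt := P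
      ι := Discrete.natTrans fun k => ModuleCat.ofHom (Y := P)
        (LinearMap.toSpanSingleton ((RS R).obj.obj (op E)) N (v k.as)) }
  let Ψ : (colimit (unitDiag (R := R) I)).obj (op E) →ₗ[(R.obj.obj (op E))] N := (hcE.desc s).hom
  have hΨ : ∀ k, Ψ ((colimit.ι (unitDiag (R := R) I) ⟨k⟩).app (op E) (1 : (R.obj.obj (op E)))) = v k :=
    fun k => (congrArg (fun t => t.hom (1 : (R.obj.obj (op E)))) (hcE.fac s ⟨k⟩)).trans (one_smul _ _)
  let φ : (colimit (unitDiag (R := R) I)).obj (op E) ≃ₗ[(R.obj.obj (op E))]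
      (psh (SheafOfModules.free (R := RS R) I)).obj (op E) :=
    LinearEquiv.ofBijective (appO (Q := psh (SheafOfModules.free (R := RS R) I)) (freeComp I) E)
      (b.bijective_freeComp hE)
  refine ⟨Ψ.comp φ.symm.toLinearMap, fun i => ?_⟩
  have : φ.symm (basisAt E i) = (colimit.ι (unitDiag (R := R) I) ⟨i⟩).app (op E) (1 : R.obj.obj (op E)) :=
    φ.symm_apply_eq.2 (freeComp_ι E i).symm
  rw [LinearMap.comp_apply, LinearEquiv.coe_coe, this, hΨ]

set_option maxHeartbeats 1000000 in
/-- An epimorphism from a free sheaf to a cartesian one is surjective on affine sections. -/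
theorem AffBasis.surjective_of_epi_free {I : Type w} {M : SheafOfModules.{w} (RS R)} (hM : b.IsCart (psh M))
    (c : SheafOfModules.free (R := RS R) I ⟶ M) [Epi c] {E : C} (hE : b.aff E) :
    Function.Surjective (appO (phom c) E) :=
  (AffBasis.IsCart.kernel (b := b) c (b.isCart_free I) hM).surjective_app
    (S := ShortComplex.mk (kernel.ι c) c (kernel.condition c)) { exact := ShortComplex.exact_kernel c } hE

set_option maxHeartbeats 1000000 in
/-- On affine sections a presentation by free sheaves is exact. -/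
theorem AffBasis.exact_cokernel_free {I K : Type w} (u : SheafOfModules.free (R := RS R) K ⟶ SheafOfModules.free I)
    {E : C} (hE : b.aff E) :
    Function.Surjective (appO (phom (cokernel.π u)) E) ∧
      Function.Exact (appO (phom u) E) (appO (phom (cokernel.π u)) E) := by
  have hN : b.IsCart (psh (cokernel u)) := AffBasis.IsCart.cokernel (b := b) u (b.isCart_free K) (b.isCart_free I)
  refine ⟨b.surjective_of_epi_free hN (cokernel.π u) hE, fun x => ⟨fun hx => ?_, ?_⟩⟩
  · obtain ⟨z, hz⟩ := exists_app_eq_of_exact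
      (ShortComplex.mk (kernel.ι (cokernel.π u)) (cokernel.π u) (kernel.condition _))
      (ShortComplex.exact_kernel _) x hx
    let e := kernel.lift (cokernel.π u) u (cokernel.condition u)
    haveI : Epi e := (ShortComplex.exact_cokernel u).epi_kernelLift
    obtain ⟨y, hy⟩ := b.surjective_of_epi_free
      (AffBasis.IsCart.kernel (b := b) (cokernel.π u) (b.isCart_free I) hN) e hE z
    refine ⟨y, ?_⟩
    rw [← hz, ← hy]
    exact (congrArg (fun k => k.val.app (op E) y) (kernel.lift_ι (cokernel.π u) u (cokernel.condition u)).symm :)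
  · rintro ⟨y, rfl⟩
    exact app_g_f (ShortComplex.mk u (cokernel.π u) (cokernel.condition u)) y

end Free

section Apply

variable {C : Type u₁} [Category.{v₁} C] {J : GrothendieckTopology C} {D : Type u₁} [Category.{v₁} D]
  {K : GrothendieckTopology D} {F : C ⥤ D} {S₀ : Sheaf J RingCat.{w}} {R₀ : Sheaf K RingCat.{w}}
  [F.IsContinuous J K] (φ : S₀ ⟶ (F.sheafPushforwardContinuous RingCat.{w} J K).obj R₀)

theorem comp_app_apply {A M N : SheafOfModules.{w} S₀} {f : A ⟶ M} {g : M ⟶ N} {k : A ⟶ N} (e : f ≫ g = k) (X : Cᵒᵖ)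
    (x : A.val.obj X) : g.val.app X (f.val.app X x) = k.val.app X x := by subst e; rfl

theorem push_map_app_apply {A : SheafOfModules.{w} S₀} {M N : SheafOfModules.{w} R₀}
    {θ : A ⟶ (SheafOfModules.pushforward.{w} φ).obj M} {h : M ⟶ N}
    {k : A ⟶ (SheafOfModules.pushforward.{w} φ).obj N} (e : θ ≫ (SheafOfModules.pushforward.{w} φ).map h = k)
    (X : Cᵒᵖ) (x : A.val.obj X) : h.val.app (F.op.obj X) (θ.val.app X x) = k.val.app X x := by subst e; rfl

end Apply

section Cat

variable {C : Type*} [Category C] [Preadditive C] {D : Type*} [Category D] [Preadditive D] (T : D ⥤ C) [T.Additive]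

theorem exists_desc {K I M : C} {K' I' : D} {θK : K ⟶ T.obj K'} {θI : I ⟶ T.obj I'} {u : K ⟶ I} {u' : K' ⟶ I'}
    [HasCokernel u'] (hu' : θK ≫ T.map u' = u ≫ θI) {π : I ⟶ M} {h0 : u ≫ π = 0}
    (hc : IsColimit (CokernelCofork.ofπ π h0)) : ∃ a, π ≫ a = θI ≫ T.map (cokernel.π u') := by
  have ha : u ≫ θI ≫ T.map (cokernel.π u') = 0 := by
    rw [← Category.assoc, ← hu', Category.assoc, ← T.map_comp, cokernel.condition, T.map_zero, comp_zero]
  exact ⟨hc.desc (CokernelCofork.ofπ _ ha), hc.fac (CokernelCofork.ofπ _ ha) WalkingParallelPair.one⟩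

theorem epi_of_comparison {I M : C} {I' L : D} {θI : I ⟶ T.obj I'} {π : I ⟶ M} [Epi π] {η₀ : M ⟶ T.obj L}
    {c : I' ⟶ L} (hc : θI ≫ T.map c = π ≫ η₀)
    (hinj : ∀ {N : D}, Function.Injective fun k : L ⟶ N => η₀ ≫ T.map k) : Epi c :=
  Preadditive.epi_of_cancel_zero c fun {N} g hg => hinj (by
    show η₀ ≫ T.map g = η₀ ≫ T.map 0
    rw [← cancel_epi π, T.map_zero, comp_zero, comp_zero, ← Category.assoc, ← hc, Category.assoc, ← T.map_comp, hg,
      T.map_zero, comp_zero])

end Cat

section Algebra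

variable {A B : Type*} [CommRing A] [CommRing B] [Algebra A B]
  {M L F₀ G F K N : Type*} [AddCommGroup M] [Module A M] [AddCommGroup L] [Module B L] [Module A L]
  [IsScalarTower A B L] [AddCommGroup F₀] [Module A F₀] [AddCommGroup F] [Module B F]
  [AddCommGroup K] [Module B K] [AddCommGroup N] [Module B N]

/-- Extension of scalars computed from compatible free presentations. -/
theorem bijective_liftBaseChange_of_presentation {ι κ : Type*} (η : M →ₗ[A] L) (π : F₀ →ₗ[A] M)
    (hπ : Function.Surjective π) (v₀ : ι → F₀) (hv₀ : Submodule.span A (Set.range v₀) = ⊤)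
    (θ : F₀ →+ F) (hθ : ∀ (r : A) x, θ (r • x) = algebraMap A B r • θ x)
    (hv : Submodule.span B (Set.range (θ ∘ v₀)) = ⊤)
    (hlift : ∀ w : ι → B ⊗[A] M, ∃ ψ : F →ₗ[B] B ⊗[A] M, ∀ i, ψ (θ (v₀ i)) = w i)
    (u : K →ₗ[B] F) (vK : κ → K) (hvK : Submodule.span B (Set.range vK) = ⊤) (u₀ : κ → F₀)
    (hu : ∀ k, u (vK k) = θ (u₀ k)) (hu₀ : ∀ k, π (u₀ k) = 0)
    (q : F →ₗ[B] N) (hq : Function.Surjective q) (hqu : Function.Exact u q)
    (c : F →ₗ[B] L) (hc : Function.Surjective c) (hcη : ∀ i, c (θ (v₀ i)) = η (π (v₀ i)))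
    (k : L →ₗ[B] N) (hk : ∀ i, k (η (π (v₀ i))) = q (θ (v₀ i))) :
    Function.Bijective (LinearMap.liftBaseChange B η) := by
  obtain ⟨ψ, hψ⟩ := hlift fun i => (1 : B) ⊗ₜ[A] π (v₀ i)
  have hψθ : ∀ x, ψ (θ x) = (1 : B) ⊗ₜ[A] π x := fun x => by
    have hx : x ∈ Submodule.span A (Set.range v₀) := hv₀.ge Submodule.mem_top
    induction hx using Submodule.span_induction with
    | mem y hy => obtain ⟨i, rfl⟩ := hy; exact hψ i
    | zero => simp
    | add y z _ _ hy hz => simp [hy, hz, tmul_add]
    | smul r y _ hy => rw [hθ, map_smul, hy, map_smul, tmul_smul, algebraMap_smul]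
  have hψu : ψ.comp u = 0 := LinearMap.ext_on hvK (by
    rintro _ ⟨j, rfl⟩
    simp [hu, hψθ, hu₀])
  obtain ⟨β, hβ⟩ : ∃ β : N →ₗ[B] B ⊗[A] M, ∀ x, β (q x) = ψ x := by
    have hker : LinearMap.ker q ≤ LinearMap.ker ψ := fun x hx => by
      obtain ⟨y, rfl⟩ := (hqu x).1 hx
      exact LinearMap.congr_fun hψu y
    refine ⟨((LinearMap.ker q).liftQ ψ hker).comp (q.quotKerEquivOfSurjective hq).symm.toLinearMap, fun x => ?_⟩
    show ((LinearMap.ker q).liftQ ψ hker) ((q.quotKerEquivOfSurjective hq).symm (q x)) = _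
    rw [show (q.quotKerEquivOfSurjective hq).symm (q x) = Submodule.Quotient.mk x from
      (LinearEquiv.symm_apply_eq _).2 rfl]
    rfl
  let α := LinearMap.liftBaseChange B η
  have hspan : Submodule.span A (Set.range (π ∘ v₀)) = ⊤ := by
    rw [Set.range_comp, Submodule.span_image, hv₀, Submodule.map_top, LinearMap.range_eq_top.2 hπ]
  have h1 : ∀ x, β (k (η x)) = (1 : B) ⊗ₜ[A] x := fun x => by
    have hx : x ∈ Submodule.span A (Set.range (π ∘ v₀)) := hspan.ge Submodule.mem_top
    induction hx using Submodule.span_induction with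
    | mem y hy =>
      obtain ⟨i, rfl⟩ := hy
      show β (k (η (π (v₀ i)))) = _
      rw [hk, hβ, hψ]
      rfl
    | zero => simp
    | add y z _ _ hy hz => simp [hy, hz, tmul_add]
    | smul r y _ hy =>
      rw [map_smul, ← algebraMap_smul B r (η y), map_smul, map_smul, hy, tmul_smul, algebraMap_smul]
  have hleft : ∀ z, β (k (α z)) = z := fun z => by
    induction z using TensorProduct.induction_on with
    | zero => simp
    | add x y hx hy => simp [hx, hy]
    | tmul r x =>
      show β (k (LinearMap.liftBaseChange B η (r ⊗ₜ x))) = _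
      rw [LinearMap.liftBaseChange_tmul, map_smul, map_smul, h1, smul_tmul', smul_eq_mul, mul_one]
  refine ⟨fun x y h => by rw [← hleft x, ← hleft y]; exact congrArg (fun z => β (k z)) h, fun y => ?_⟩
  obtain ⟨x, rfl⟩ := hc y
  refine ⟨ψ x, LinearMap.congr_fun (LinearMap.ext_on hv ?_ : α.comp ψ = c) x⟩
  rintro _ ⟨i, rfl⟩
  show α (ψ (θ (v₀ i))) = c (θ (v₀ i))
  rw [hψ, hcη, LinearMap.liftBaseChange_tmul, one_smul]

end Algebra

end Groth.Agent.QCart
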