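import Groth.Agent.AlgSpQC10.Push
import Groth.Agent.AlgSpQC10.Vanish

/-!
# Direct images of quasi-coherent modules along affine morphisms are quasi-coherent
-/

universe u v w

set_option autoImplicit false
set_option linter.style.haveILetI false
set_option backward.isDefEq.respectTransparency false
set_option backward.isDefEq.respectTransparency.types false

open CategoryTheory CategoryTheory.Limits AlgebraicGeometry Opposite AlgSp TensorProduct Groth.Agent.QCart

namespace Groth.Agent.AlgSpQC10

/-- Base change along a pushout square of rings. -/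
theorem bijective_liftBaseChange_pushout {A B C D : Type w} [CommRing A] [CommRing B] [CommRing C] [CommRing D]
    [Algebra A B] [Algebra A C] [Algebra A D] [Algebra B D] [Algebra C D] [IsScalarTower A B D]
    [IsScalarTower A C D] [Algebra.IsPushout A B C D] {N N' : Type w} [AddCommGroup N] [AddCommGroup N']
    [Module A N] [Module C N] [IsScalarTower A C N] [Module D N'] [Module C N'] [IsScalarTower C D N']
    (f : N →ₗ[C] N') (hf : IsBaseChange D f) (β : B ⊗[A] N →+ N')
    (hβ : ∀ b x, β (b ⊗ₜ x) = algebraMap B D b • f x) : Function.Bijective β := by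
  let e := Algebra.IsPushout.cancelBaseChange A B C D N
  have key : ∀ y : B ⊗[A] N, β y = hf.equiv (e.symm y) := fun y => by
    induction y using TensorProduct.induction_on with
    | zero => rw [map_zero, map_zero, map_zero]
    | add a b ha hb => rw [map_add, map_add, map_add, ha, hb]
    | tmul b x => rw [hβ, Algebra.IsPushout.cancelBaseChange_symm_tmul, IsBaseChange.equiv_tmul]
  rw [show (β : _ → _) = hf.equiv ∘ e.symm from funext key]
  exact hf.equiv.bijective.comp e.symm.bijective

variable {S : Scheme.{u}} {X Y : Sp S} {f : X ⟶ Y} (hf : Representable f)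

/-- The pullback of functions to a base change. -/
noncomputable abbrev bcR (E : EtOver Y) :
    (OEt Y).obj.obj (op E) →+* (OEt X).obj.obj (op ((EtOver.bc hf).obj E)) :=
  ((bcRingHom hf).hom.app (op E)).hom

theorem isPushout_bcR {E E' : EtOver Y} (g : E' ⟶ E) (hE : IsAffine E.obj.left.left)
    (hE' : IsAffine E'.obj.left.left) (hW : IsAffine ((EtOver.bc hf).obj E).obj.left.left) :
    CategoryTheory.IsPushout ((OEt Y).obj.map g.op) (CommRingCat.ofHom (bcR hf E))
      (CommRingCat.ofHom (bcR hf E')) ((OEt X).obj.map ((EtOver.bc hf).map g).op) := by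
  haveI := hE
  haveI := hE'
  haveI : IsAffine (EtOver.bcObj hf E).obj.left.left := hW
  exact isPushout_upHom (isPushout_appTop_of_isPullback (EtOver.isPullback_bcMap_left hf g)).flip

/-- Direct images of quasi-coherent modules along affine morphisms are cartesian. -/
theorem isCart_pushModEt (haff : IsAffineMor f) (M : ModEt X) [M.IsQuasicoherent] :
    (QCart.etBasis Y).IsCart (QCart.psh (R := OEt Y) ((pushModEt hf).obj M)) := by
  intro E E' hE hE' g
  haveI : IsAffine E.obj.left.left := hE
  haveI : IsAffine E'.obj.left.left := hE'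
  let P := QCart.psh (R := OEt X) M
  let h := (EtOver.bc hf).map g
  have hW := isAffine_bcObj hf haff E
  have hc : Cart h P := isCart M hW (isAffine_bcObj hf haff E') h
  let A := (OEt Y).obj.obj (op E)
  let B := Rg (OEt Y).obj g
  let C := (OEt X).obj.obj (op ((EtOver.bc hf).obj E))
  let D := Rg (OEt X).obj h
  letI : Algebra A C := (bcR hf E).toAlgebra
  letI : Algebra B D := RingHom.toAlgebra (R := B) (S := D) (bcR hf E')
  letI : Algebra A D := RingHom.toAlgebra (S := D) ((algebraMap C D).comp (algebraMap A C))
  haveI : IsScalarTower A C D := IsScalarTower.of_algebraMap_eq fun _ => rfl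
  have hpo := isPushout_bcR hf g hE hE' hW
  haveI : IsScalarTower A B D := IsScalarTower.of_algebraMap_eq fun a =>
    (ConcreteCategory.congr_hom hpo.w a).symm
  haveI : Algebra.IsPushout A B C D := CommRingCat.isPushout_iff_isPushout.1 (show CategoryTheory.IsPushout
    (CommRingCat.ofHom (algebraMap A B)) (CommRingCat.ofHom (algebraMap A C))
    (CommRingCat.ofHom (algebraMap B D)) (CommRingCat.ofHom (algebraMap C D)) from hpo)
  letI : Module A (P.obj (op ((EtOver.bc hf).obj E))) := Module.compHom _ (bcR hf E)
  haveI : IsScalarTower A C (P.obj (op ((EtOver.bc hf).obj E))) := IsScalarTower.of_algebraMap_smul fun _ _ => rfl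
  exact bijective_liftBaseChange_pushout (A := A) (B := B) (C := C) (D := D) (res h P)
    ((cart_iff_isBaseChange h P).1 hc)
    (bcMap g (QCart.psh (R := OEt Y) ((pushModEt hf).obj M))).toAddMonoidHom
    (fun b x => bcMap_tmul g (QCart.psh (R := OEt Y) ((pushModEt hf).obj M)) b x)

/-- Direct images of quasi-coherent modules along affine morphisms are quasi-coherent. -/
theorem isQuasicoherent_pushModEt (haff : IsAffineMor f) (M : ModEt X) [M.IsQuasicoherent] :
    ((pushModEt hf).obj M).IsQuasicoherent :=
  (AffBasis.isQuasicoherent_iff_isCart (R := OEt Y) (QCart.etBasis Y)).2 (isCart_pushModEt hf haff M)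

end Groth.Agent.AlgSpQC10
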