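import Groth.Agent.AlgSpQC10.QCohRF
import Groth.Agent.AlgSpQC10.PushQC
import Groth.Agent.AlgSpQC10.GammaPush

/-!
# The derived direct image along an affine morphism reflects isomorphisms on quasi-coherent cohomology
-/

universe w u v u' v'

set_option autoImplicit false
set_option linter.style.haveILetI false
set_option backward.isDefEq.respectTransparency false
set_option backward.isDefEq.respectTransparency.types false

open Groth.Agent.AlgSpDec Groth.Agent.AlgSpDec.EtStalkElts
open CategoryTheory CategoryTheory.Limits AlgebraicGeometry Opposite DerivedCategory Groth.Agent.QCart AlgSp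

attribute [local instance] HasDerivedCategory.standard

namespace Groth.Agent.AlgSpQC10

section

variable {A : Type (v + 1)} [Category.{v} A] [Abelian A] (hK : HasKInjRes A) {D : Type u'} [Category.{v'} D]
  (G : HomotopyCategory A (ComplexShape.up ℤ) ⥤ D)
  [G.HasRightDerivedFunctor (HomotopyCategory.quasiIso A (ComplexShape.up ℤ))]

include hK in
/-- Right derived functors are computed by K-injective complexes. -/
theorem isIso_totalRightDerivedUnit (I : CochainComplex A ℤ) [I.IsKInjective] :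
    IsIso ((G.totalRightDerivedUnit DerivedCategory.Qh (HomotopyCategory.quasiIso A (ComplexShape.up ℤ))).app
      ((HomotopyCategory.quotient A _).obj I)) := by
  let W := HomotopyCategory.quasiIso A (ComplexShape.up ℤ)
  haveI : (kRes hK ⋙ G).IsRightDerivedFunctor (Functor.whiskerRight (kAdj hK).unit G) W :=
    TriCat.isRightDerivedFunctor_of_adjunction (kAdj hK) W G
  haveI := TriCat.isIso_unit_of_isKInjective (kAdj hK) I
  let e : kRes hK ⋙ G ≅ G.totalRightDerived DerivedCategory.Qh W := Functor.rightDerivedUnique _ _ (Functor.whiskerRight (kAdj hK).unit G)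
    (G.totalRightDerivedUnit DerivedCategory.Qh W) W
  have h : G.map ((kAdj hK).unit.app ((HomotopyCategory.quotient A _).obj I)) ≫ e.hom.app _ = _ :=
    (Functor.rightDerivedNatTrans_app (kRes hK ⋙ G) _ (Functor.whiskerRight (kAdj hK).unit G)
      (G.totalRightDerivedUnit DerivedCategory.Qh W) W (𝟙 _) ((HomotopyCategory.quotient A _).obj I)).trans
      (Category.id_comp _)
  rw [← h]
  infer_instance

end

section

variable {A : Type u} [Category.{v} A] [Abelian A]

theorem isKInjective_mappingCone {I J : CochainComplex A ℤ} [I.IsKInjective] [J.IsKInjective] (φ : I ⟶ J) :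
    (CochainComplex.mappingCone φ).IsKInjective := by
  rw [CochainComplex.isKInjective_iff_rightOrthogonal]
  exact ObjectProperty.ext_of_isTriangulatedClosed₃ _ _ (HomotopyCategory.mappingCone_triangleh_distinguished φ)
    (CochainComplex.IsKInjective.rightOrthogonal I) (CochainComplex.IsKInjective.rightOrthogonal J)

theorem quasiIso_iff_acyclic_mappingCone {I J : CochainComplex A ℤ} (φ : I ⟶ J) :
    QuasiIso φ ↔ (CochainComplex.mappingCone φ).Acyclic := by
  rw [← HomologicalComplex.mem_quasiIso_iff, ← HomotopyCategory.quotient_map_mem_quasiIso_iff,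
    HomotopyCategory.quasiIso_eq_trW_subcategoryAcyclic,
    ← HomotopyCategory.quotient_obj_mem_subcategoryAcyclic_iff_acyclic]
  exact (HomotopyCategory.subcategoryAcyclic _).trW_iff_of_distinguished _
    (HomotopyCategory.mappingCone_triangleh_distinguished φ)

end

section Cls

variable {A : Type u} [Category.{v} A] [Abelian A] [HasDerivedCategory.{w} A]

omit [HasDerivedCategory.{w} A] in
theorem exists_cocycle_of_single {I : CochainComplex A ℤ} {P : A} {m : ℤ}
    (g : (HomologicalComplex.single A (ComplexShape.up ℤ) m).obj P ⟶ I)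
    (ι : P ⟶ ((HomologicalComplex.single A (ComplexShape.up ℤ) m).obj P).homology m) :
    ∃ (z : P ⟶ I.X m) (hz : z ≫ I.d m (m + 1) = 0),
      ι ≫ HomologicalComplex.homologyMap g m = I.liftCycles z (m + 1) (by simp) hz ≫ I.homologyπ m := by
  let ε : P ⟶ P := ι ≫ (HomologicalComplex.singleObjHomologySelfIso (ComplexShape.up ℤ) m P).hom
  have hz₁ : ((HomologicalComplex.singleObjXSelf (ComplexShape.up ℤ) m P).inv ≫ g.f m) ≫ I.d m (m + 1) = 0 := by
    rw [Category.assoc, g.comm, (HomologicalComplex.isZero_single_obj_X (ComplexShape.up ℤ) m P (m + 1)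
      (by omega)).eq_of_tgt (((HomologicalComplex.single A (ComplexShape.up ℤ) m).obj P).d m (m + 1)) 0,
      zero_comp, comp_zero]
  refine ⟨ε ≫ (HomologicalComplex.singleObjXSelf (ComplexShape.up ℤ) m P).inv ≫ g.f m,
    by rw [Category.assoc, hz₁, comp_zero], ?_⟩
  have hl : I.liftCycles (ε ≫ (HomologicalComplex.singleObjXSelf (ComplexShape.up ℤ) m P).inv ≫ g.f m) (m + 1)
      (by simp) (by rw [Category.assoc, hz₁, comp_zero]) =
      ε ≫ (HomologicalComplex.singleObjCyclesSelfIso (ComplexShape.up ℤ) m P).inv ≫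
        HomologicalComplex.cyclesMap g m := by
    rw [← cancel_mono (I.iCycles m), HomologicalComplex.liftCycles_i]
    simp only [Category.assoc, HomologicalComplex.cyclesMap_i,
      HomologicalComplex.singleObjCyclesSelfIso_inv_iCycles_assoc]
  rw [hl]
  simp only [ε, Category.assoc, ← HomologicalComplex.homologyπ_naturality,
    HomologicalComplex.singleObjCyclesSelfIso_inv_homologyπ_assoc, Iso.hom_inv_id_assoc]

/-- A class coming from the derived category into a K-injective complex comes from a cocycle. -/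
theorem exists_cocycle_of_h0m {I : CochainComplex A ℤ} [I.IsKInjective] {P : A} {m : ℤ}
    (x : (DerivedCategory.singleFunctor A m).obj P ⟶ DerivedCategory.Q.obj I) :
    ∃ (z : P ⟶ I.X m) (hz : z ≫ I.d m (m + 1) = 0),
      h0m x ≫ (DerivedCategory.homologyFunctorFactors A m).hom.app I =
        I.liftCycles z (m + 1) (by simp) hz ≫ I.homologyπ m := by
  let K := (HomologicalComplex.single A (ComplexShape.up ℤ) m).obj P
  let e' := (SingleFunctors.evaluation A (DerivedCategory A) m).mapIso
    (DerivedCategory.singleFunctorsPostcompQIso A)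
  obtain ⟨g₀, hg₀⟩ := (CochainComplex.IsKInjective.Qh_map_bijective
    ((HomotopyCategory.quotient A _).obj K) I).2
    ((DerivedCategory.quotientCompQhIso A).hom.app K ≫ e'.inv.app P ≫ x ≫
      (DerivedCategory.quotientCompQhIso A).inv.app I)
  obtain ⟨g, rfl⟩ := (HomotopyCategory.quotient A _).map_surjective g₀
  have hx : x = e'.hom.app P ≫ DerivedCategory.Q.map g := by
    have h := (DerivedCategory.quotientCompQhIso A).hom.naturality g
    rw [Functor.comp_map, hg₀] at h
    simp only [Category.assoc, Iso.inv_hom_id_app, Category.comp_id] at h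
    rw [← (cancel_epi ((DerivedCategory.quotientCompQhIso A).hom.app K)).1 h]
    exact (Iso.hom_inv_id_app_assoc e' P _).symm
  obtain ⟨z, hz, hzι⟩ := exists_cocycle_of_single g
    ((singleFunctorCompHomologyFunctorIso A m).inv.app P ≫
      (DerivedCategory.homologyFunctor A m).map (e'.hom.app P) ≫
      (DerivedCategory.homologyFunctorFactors A m).hom.app K)
  refine ⟨z, hz, Eq.trans ?_ hzι⟩
  rw [hx, h0m, Functor.map_comp]
  simp only [Category.assoc]
  exact congrArg (fun t => _ ≫ _ ≫ t) ((DerivedCategory.homologyFunctorFactors A m).hom.naturality g)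

end Cls

section FiveTerm

/-- The middle term of an exact sequence of five terms is an extension. -/
theorem exists_shortExact_of_exact {A : Type u} [Category.{v} A] [Abelian A] {A₁ A₂ M B₁ B₂ : A} (a : A₁ ⟶ A₂)
    (β : A₂ ⟶ M) (δ : M ⟶ B₁) (a' : B₁ ⟶ B₂) {w₁ : a ≫ β = 0} {w₂ : β ≫ δ = 0} {w₃ : δ ≫ a' = 0}
    (e₁ : (ShortComplex.mk a β w₁).Exact) (e₂ : (ShortComplex.mk β δ w₂).Exact)
    (e₃ : (ShortComplex.mk δ a' w₃).Exact) :
    ∃ C : ShortComplex A, C.ShortExact ∧ Nonempty (C.X₁ ≅ cokernel a) ∧ Nonempty (C.X₃ ≅ kernel a') ∧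
      Nonempty (C.X₂ ≅ M) := by
  let β' := cokernel.desc a β w₁
  let δ' := kernel.lift a' δ w₃
  haveI : Mono β' := e₁.mono_cokernelDesc
  haveI : Epi δ' := e₃.epi_kernelLift
  have hz₁ : β' ≫ δ = 0 := by
    rw [← cancel_epi (cokernel.π a), cokernel.π_desc_assoc, comp_zero, w₂]
  let C : ShortComplex A := ShortComplex.mk β' δ' (by
    rw [← cancel_mono (kernel.ι a'), Category.assoc, kernel.lift_ι, zero_comp, hz₁])
  let φ : ShortComplex.mk β δ w₂ ⟶ ShortComplex.mk β' δ hz₁ :=
    { τ₁ := cokernel.π a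
      τ₂ := 𝟙 _
      τ₃ := 𝟙 _
      comm₁₂ := (cokernel.π_desc _ _ _).trans (Category.comp_id _).symm
      comm₂₃ := (Category.id_comp _).trans (Category.comp_id _).symm }
  let ψ : C ⟶ ShortComplex.mk β' δ hz₁ :=
    { τ₁ := 𝟙 _
      τ₂ := 𝟙 _
      τ₃ := kernel.ι a'
      comm₁₂ := (Category.id_comp _).trans (Category.comp_id _).symm
      comm₂₃ := (Category.id_comp _).trans (kernel.lift_ι _ _ _).symm }
  exact ⟨C, ShortComplex.ShortExact.mk ((ShortComplex.exact_iff_of_epi_of_isIso_of_mono ψ).2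
    ((ShortComplex.exact_iff_of_epi_of_isIso_of_mono φ).1 e₂)), ⟨Iso.refl _⟩, ⟨Iso.refl _⟩, ⟨Iso.refl _⟩⟩

end FiveTerm

section Triangle

open Pretriangulated DerivedCategory

variable {S : Scheme.{u}} {X : AlgSp.Sp S}

/-- Quasi-coherent cohomology passes to cones. -/
theorem isQCohDMod_obj₃ (T : Triangle (AlgSp.DModEt X)) (hT : T ∈ distTriang _)
    (h₁ : DCoh.IsQCohDMod (AlgSp.OEtRing X) T.obj₁) (h₂ : DCoh.IsQCohDMod (AlgSp.OEtRing X) T.obj₂) :
    DCoh.IsQCohDMod (AlgSp.OEtRing X) T.obj₃ := fun m => by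
  let H := DerivedCategory.homologyFunctor (AlgSp.ModEt X)
  let a := (H m).map T.mor₁
  let a' := (H (m + 1)).map T.mor₁
  let β := (H m).map T.mor₂
  let δ := HomologySequence.δ T m (m + 1) rfl
  have hc : ∀ Z : AlgSp.DModEt X, DCoh.IsQCohDMod (AlgSp.OEtRing X) Z → ∀ j,
      (QCart.etBasis X).IsCart (QCart.psh (R := OEt X) ((H j).obj Z)) := fun Z hZ j =>
    haveI := hZ j
    isCart (DCoh.HDMod (AlgSp.OEtRing X) Z j)
  obtain ⟨C, hC, e1, e3, e2⟩ := exists_shortExact_of_exact a β δ a' (HomologySequence.exact₂ T hT m)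
    (HomologySequence.exact₃ T hT m (m + 1) rfl) (HomologySequence.exact₁ T hT m (m + 1) rfl)
  have c1 := QCart.AffBasis.IsCart.cokernel (R := OEt X) a (hc _ h₁ m) (hc _ h₂ m)
  have c3 := QCart.AffBasis.IsCart.kernel (R := OEt X) a' (hc _ h₁ (m + 1)) (hc _ h₂ (m + 1))
  have c2 := QCart.AffBasis.IsCart.extension (R := OEt X) (b := QCart.etBasis X) (S := C) hC
    (c1.of_iso e1.some.symm) (c3.of_iso e3.some.symm)
  exact (QCart.AffBasis.isQuasicoherent_iff_isCart (R := OEt X) (QCart.etBasis X)).2 (c2.of_iso e2.some)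

end Triangle

section Push

theorem shRepEquiv_zero {C : Type (u + 1)} [Category.{u} C] {J : GrothendieckTopology C}
    [HasSheafify J AddCommGrpCat.{u + 1}] [J.WEqualsLocallyBijective AddCommGrpCat.{u + 1}]
    [J.HasSheafCompose (CategoryTheory.forget AddCommGrpCat.{u + 1})]
    [J.HasSheafCompose (forget₂ CommRingCat.{u + 1} RingCat.{u + 1})]
    {R : Sheaf J CommRingCat.{u + 1}} (W : C) (M : SheafOfModules.{u + 1} (RS R)) :
    shRepEquiv W M (0 : shRep R W ⟶ M) = 0 := by
  have h := shRepEquiv_add (W := W) (0 : shRep R W ⟶ M) 0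
  rw [add_zero] at h
  exact left_eq_add.1 h

theorem exists_local_boundary {C : Type (u + 1)} [Category.{u} C] {J : GrothendieckTopology C}
    [HasSheafify J AddCommGrpCat.{u + 1}] [J.WEqualsLocallyBijective AddCommGrpCat.{u + 1}]
    [J.HasSheafCompose (CategoryTheory.forget AddCommGrpCat.{u + 1})]
    [J.HasSheafCompose (forget₂ CommRingCat.{u + 1} RingCat.{u + 1})]
    {R : Sheaf J CommRingCat.{u + 1}} (K : CochainComplex (SheafOfModules.{u + 1} (RS R)) ℤ) (m : ℤ)
    (h : K.ExactAt m) (E : C) (ψ : shRep R E ⟶ K.X m) (hψ : ψ ≫ K.d m (m + 1) = 0) :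
    ∃ T ∈ J E, ∀ ⦃E' : C⦄ (g : E' ⟶ E), T g →
      ∃ η : shRep R E' ⟶ K.X (m - 1), η ≫ K.d (m - 1) m = shRepMap g ≫ ψ := by
  haveI : Epi (K.toCycles (m - 1) m) :=
    Preadditive.epi_of_isZero_cokernel' _ (K.homologyIsCokernel (m - 1) m (by simp)) h.isZero_homology
  obtain ⟨T, hT, hpre⟩ := exists_sieve_preimage_of_epi (K.toCycles (m - 1) m)
    (shRepEquiv E (K.cycles m) (K.liftCycles ψ (m + 1) (by simp) hψ))
  refine ⟨T, hT, fun E' g hg => ?_⟩
  obtain ⟨y, hy⟩ := hpre g hg
  refine ⟨(shRepEquiv E' (K.X (m - 1))).symm y, ?_⟩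
  have h0 : (shRepEquiv E' (K.X (m - 1))).symm y ≫ K.toCycles (m - 1) m =
      shRepMap g ≫ K.liftCycles ψ (m + 1) (by simp) hψ := by
    apply (shRepEquiv E' _).injective
    rw [shRepEquiv_comp, Equiv.apply_symm_apply, shRepEquiv_map_comp]
    exact hy
  rw [← K.toCycles_i (m - 1) m, ← Category.assoc, h0, Category.assoc, HomologicalComplex.liftCycles_i]

variable {S : Scheme.{u}} {X Y : Sp S} {f : X ⟶ Y} (hf : Representable f)

include hf in
theorem exists_bc_affine_cover (hX : IsAlgSpace X) (hY : IsAlgSpace Y) (W : EtOver X) :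
    Sieve.generate (fun W' (_ : W' ⟶ W) => ∃ E : EtOver Y, IsAffine E.obj.left.left ∧
      Nonempty (W' ⟶ (EtOver.bc hf).obj E)) ∈ etTop X W := by
  refine EtPoint.mem_etTop_of_lifts hX _ fun q hq l => ?_
  obtain ⟨U, hU, u, hu⟩ := exists_affine_chart hY (Points.mk (q.map f))
  obtain ⟨m, -⟩ := EtStalkStrict.exists_nbhd hY (show (q.map f).IsGeometric from hq) U.property hu
  let m' : (FieldPt.liftsTo q).obj ((EtOver.bc hf).obj U) :=
    ⟨hf.lift q.toHom m.1 ((FieldPt.toHom_map f q).symm.trans m.2.symm), hf.lift_fst _ _ _⟩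
  let e₁ : EtNbhd q := ⟨W, l⟩
  let e₂ : EtNbhd q := ⟨(EtOver.bc hf).obj U, m'⟩
  obtain ⟨N, a, b, -⟩ := exists_cone_obj q e₁ e₂
  exact ⟨N.1, a.val, Sieve.le_generate _ _ _ ⟨U, hU, ⟨b.val⟩⟩, N.2, a.property⟩

include hf in
/-- A quasi-coherent module vanishing on base changes of affine objects along an affine morphism is zero. -/
theorem isZero_of_sections_bc (hX : IsAlgSpace X) (hY : IsAlgSpace Y) (haff : IsAffineMor f) (M : ModEt X)
    [M.IsQuasicoherent] (h : ∀ E : EtOver Y, IsAffine E.obj.left.left →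
      ∀ x : (psh (R := OEt X) M).obj (op ((EtOver.bc hf).obj E)), x = 0) : IsZero M := by
  refine (IsZero.iff_id_eq_zero M).2 (SheafOfModules.hom_ext (PresheafOfModules.hom_ext fun V =>
    ModuleCat.hom_ext (LinearMap.ext fun y => ?_)))
  change y = 0
  refine sres_ext_of_mem (R := OEt X) M (exists_bc_affine_cover hf hX hY V.unop) _ _ ?_
  rintro W' g ⟨W, i, q, ⟨E, hE, ⟨a⟩⟩, rfl⟩
  refine sres_ext_of_mem (R := OEt X) M ((QCart.etBasis X).dense W') _ _ ?_
  rintro W'' k ⟨A, j, r, hA, rfl⟩
  haveI : IsAffine E.obj.left.left := hE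
  have hA0 : ∀ x : (psh (R := OEt X) M).obj (op A), x = 0 := fun x => by
    obtain ⟨z, hz⟩ := (isCart M (isAffine_bcObj hf haff E) hA (r ≫ i ≫ a)).2 x
    suffices hz0 : z = 0 by rw [← hz, hz0]; exact map_zero _
    clear hz
    induction z using TensorProduct.induction_on with
    | zero => rfl
    | tmul b x => rw [h E hE x]; exact TensorProduct.tmul_zero _ _
    | add b c hb hc => rw [hb, hc, add_zero]
  rw [← sres_sres, ← sres_sres, ← sres_sres, ← sres_sres]
  exact congrArg _ ((hA0 _).trans (hA0 _).symm)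

set_option maxHeartbeats 1600000 in
include hf in
/-- A K-injective complex with quasi-coherent cohomology whose direct image along an affine morphism is exact is exact. -/
theorem isZero_Q_of_push_acyclic (hX : IsAlgSpace X) (hY : IsAlgSpace Y) (haff : IsAffineMor f)
    (C : CochainComplex (ModEt X) ℤ) [C.IsKInjective]
    (hC : DCoh.IsQCohDMod (OEtRing X) (DerivedCategory.Q.obj C))
    (hp : (((pushModEt hf).mapHomologicalComplex (ComplexShape.up ℤ)).obj C).Acyclic) (m : ℤ) :
    IsZero ((DerivedCategory.homologyFunctor (ModEt X) m).obj (DerivedCategory.Q.obj C)) := by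
  let M := (DerivedCategory.homologyFunctor (ModEt X) m).obj (DerivedCategory.Q.obj C)
  haveI : M.IsQuasicoherent := hC m
  refine isZero_of_sections_bc hf hX hY haff M fun E hE e => ?_
  haveI : IsAffine E.obj.left.left := hE
  let W := (EtOver.bc hf).obj E
  obtain ⟨φ, rfl⟩ := (shRepEquiv (R := OEt X) W M).surjective e
  obtain ⟨x, rfl⟩ := (bijective_h0m_of_isQCohDMod _ hC W (isAffine_bcObj hf haff E) m).2 φ
  obtain ⟨z, hz, hzx⟩ := exists_cocycle_of_h0m x
  let K := ((pushModEt hf).mapHomologicalComplex (ComplexShape.up ℤ)).obj C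
  let t : (psh (R := OEt Y) (K.X m)).obj (op E) := shRepEquiv (R := OEt X) W (C.X m) z
  let ψ := (shRepEquiv (R := OEt Y) E (K.X m)).symm t
  have hψ : ψ ≫ K.d m (m + 1) = 0 := by
    apply (shRepEquiv (R := OEt Y) E (K.X (m + 1))).injective
    rw [shRepEquiv_comp, Equiv.apply_symm_apply, shRepEquiv_zero]
    exact ((shRepEquiv_comp z (C.d m (m + 1))).symm.trans (congrArg _ hz)).trans (shRepEquiv_zero _ _)
  obtain ⟨T, hT, hpre⟩ := exists_local_boundary (R := OEt Y) K m (hp m) E ψ hψ
  suffices hs : (show (psh (R := OEt Y) ((pushModEt hf).obj M)).obj (op E) from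
      shRepEquiv (R := OEt X) W M (h0m x)) = 0 from hs
  refine sres_ext_of_mem (R := OEt Y) ((pushModEt hf).obj M) hT _ _ fun E' g hg => ?_
  obtain ⟨η₀, hη₀⟩ := hpre g hg
  let g' := (EtOver.bc hf).map g
  let η : shRep (OEt X) ((EtOver.bc hf).obj E') ⟶ C.X (m - 1) :=
    (shRepEquiv (R := OEt X) _ _).symm (shRepEquiv (R := OEt Y) E' (K.X (m - 1)) η₀)
  have hη : η ≫ C.d (m - 1) m = shRepMap (R := OEt X) g' ≫ z := by
    apply (shRepEquiv (R := OEt X) _ _).injective
    rw [shRepEquiv_comp, Equiv.apply_symm_apply, shRepEquiv_map_comp]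
    have e1 := (shRepEquiv_comp η₀ (K.d (m - 1) m)).symm.trans ((congrArg (shRepEquiv (R := OEt Y) E' (K.X m)) hη₀).trans
      ((shRepEquiv_map_comp g ψ).trans (congrArg (sres (psh (R := OEt Y) (K.X m)) g)
        ((shRepEquiv (R := OEt Y) E (K.X m)).apply_symm_apply t))))
    exact e1
  have hcl : shRepMap (R := OEt X) g' ≫ h0m x = 0 := by
    apply (cancel_mono ((DerivedCategory.homologyFunctorFactors (ModEt X) m).hom.app C)).1
    refine (Category.assoc _ _ _).trans ((congrArg (shRepMap (R := OEt X) g' ≫ ·) hzx).trans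
      (Eq.trans ?_ zero_comp.symm))
    refine ((Category.assoc _ _ _).symm.trans (congrArg (· ≫ C.homologyπ m)
      (HomologicalComplex.comp_liftCycles C z (m + 1) (by simp) hz (shRepMap (R := OEt X) g')))).trans ?_
    exact HomologicalComplex.liftCycles_homologyπ_eq_zero_of_boundary C _ (m + 1) (by simp) η hη.symm
  refine Eq.trans ?_ (map_zero _).symm
  have h2 := ((shRepEquiv_map_comp g' (h0m x)).symm.trans (congrArg _ hcl)).trans (shRepEquiv_zero _ _)
  exact h2

include hf in
/-- The derived direct image along an affine morphism reflects isomorphisms on objects with quasi-coherent cohomology. -/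
theorem isIso_of_isIso_rpush (hX : IsAlgSpace X) (hY : IsAlgSpace Y) (haff : IsAffineMor f) [HasRpushModEtD hf]
    {E F : DModEt X} (hE : DCoh.IsQCohDMod (OEtRing X) E) (hF : DCoh.IsQCohDMod (OEtRing X) F) (α : E ⟶ F)
    (hα : IsIso ((RpushModEtD hf).map α)) : IsIso α := by
  have hK := hasKInjRes_modEt X
  have hrep : ∀ Z : DModEt X, ∃ (I : CochainComplex (ModEt X) ℤ) (_ : I.IsKInjective),
      Nonempty (DerivedCategory.Qh.obj ((HomotopyCategory.quotient _ _).obj I) ≅ Z) := fun Z => by
    let K := DerivedCategory.Q.objPreimage Z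
    obtain ⟨I, g, hI, hg⟩ := hK K
    exact ⟨I, hI, ⟨(DerivedCategory.quotientCompQhIso _).app I ≪≫ (asIso (DerivedCategory.Q.map g)).symm ≪≫
      DerivedCategory.Q.objObjPreimageIso Z⟩⟩
  obtain ⟨I, hI, ⟨eI⟩⟩ := hrep E
  obtain ⟨J, hJ, ⟨eJ⟩⟩ := hrep F
  obtain ⟨φ₀, hφ₀⟩ := (CochainComplex.IsKInjective.Qh_map_bijective _ J).2 (eI.hom ≫ α ≫ eJ.inv)
  obtain ⟨φ, rfl⟩ := (HomotopyCategory.quotient (ModEt X) _).map_surjective φ₀
  let W := HomotopyCategory.quasiIso (ModEt X) (ComplexShape.up ℤ)
  let Φ := (pushModEt hf).mapHomologicalComplex (ComplexShape.up ℤ)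
  have hφ : IsIso ((RpushModEtD hf).map (DerivedCategory.Qh.map ((HomotopyCategory.quotient _ _).map φ))) := by
    rw [hφ₀, Functor.map_comp, Functor.map_comp]
    infer_instance
  have hq : QuasiIso (Φ.map φ) := by
    haveI := isIso_totalRightDerivedUnit hK (pushModEtKh hf) I
    haveI := isIso_totalRightDerivedUnit hK (pushModEtKh hf) J
    haveI : IsIso ((pushModEtKh hf).map ((HomotopyCategory.quotient _ _).map φ)) :=
      haveI : IsIso ((DerivedCategory.Qh ⋙ (pushModEtKh hf).totalRightDerived DerivedCategory.Qh W).map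
          ((HomotopyCategory.quotient _ _).map φ)) := hφ
      IsIso.of_isIso_fac_right (((pushModEtKh hf).totalRightDerivedUnit DerivedCategory.Qh W).naturality
        ((HomotopyCategory.quotient _ _).map φ))
    rw [← DerivedCategory.isIso_Q_map_iff_quasiIso]
    exact ((MorphismProperty.isomorphisms _).arrow_mk_iso_iff (Arrow.isoMk
      (DerivedCategory.Qh.mapIso (((pushModEt hf).mapHomotopyCategoryFactors (ComplexShape.up ℤ)).app I) ≪≫
        (DerivedCategory.quotientCompQhIso _).app _)
      (DerivedCategory.Qh.mapIso (((pushModEt hf).mapHomotopyCategoryFactors (ComplexShape.up ℤ)).app J) ≪≫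
        (DerivedCategory.quotientCompQhIso _).app _)
      ((NatTrans.naturality (((Functor.associator _ _ _).inv ≫ Functor.whiskerRight
        ((pushModEt hf).mapHomotopyCategoryFactors (ComplexShape.up ℤ)).hom DerivedCategory.Qh ≫
        (Functor.associator _ _ _).hom ≫ Functor.whiskerLeft _ (DerivedCategory.quotientCompQhIso _).hom)) φ).symm))).1
      (inferInstanceAs (IsIso ((pushModEtKh hf).map ((HomotopyCategory.quotient _ _).map φ))))
  let C := CochainComplex.mappingCone φ
  haveI := isKInjective_mappingCone φ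
  have hp : (Φ.obj C).Acyclic :=
    fun i => ((quasiIso_iff_acyclic_mappingCone (Φ.map φ)).1 hq i).of_iso
      (CochainComplex.mappingCone.mapHomologicalComplexIso φ (pushModEt hf)).symm
  have hT := DerivedCategory.mappingCone_triangle_distinguished φ
  have hiso : ∀ (L : CochainComplex (ModEt X) ℤ) (Z : DModEt X), DCoh.IsQCohDMod (OEtRing X) Z →
      (DerivedCategory.Qh.obj ((HomotopyCategory.quotient _ _).obj L) ≅ Z) →
      DCoh.IsQCohDMod (OEtRing X) (DerivedCategory.Q.obj L) := fun L Z hZ e i =>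
    (qcohP X).prop_of_iso ((DerivedCategory.homologyFunctor (ModEt X) i).mapIso
      (((DerivedCategory.quotientCompQhIso _).app L).symm ≪≫ e)).symm (hZ i)
  have hC : DCoh.IsQCohDMod (OEtRing X) (DerivedCategory.Q.obj C) :=
    isQCohDMod_obj₃ _ hT (hiso I E hE eI) (hiso J F hF eJ)
  have hφq : QuasiIso φ := (quasiIso_iff_acyclic_mappingCone φ).2 fun m =>
    (C.exactAt_iff_isZero_homology m).2 ((isZero_Q_of_push_acyclic hf hX hY haff C hC hp m).of_iso
      ((DerivedCategory.homologyFunctorFactors (ModEt X) m).app C).symm)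
  haveI : IsIso (DerivedCategory.Qh.map ((HomotopyCategory.quotient _ _).map φ)) :=
    ((MorphismProperty.isomorphisms _).arrow_mk_iso_iff (Arrow.isoMk ((DerivedCategory.quotientCompQhIso _).app I)
      ((DerivedCategory.quotientCompQhIso _).app J)
      ((DerivedCategory.quotientCompQhIso _).hom.naturality φ).symm)).2
      ((DerivedCategory.isIso_Q_map_iff_quasiIso _ φ).2 hφq)
  have : α = eI.inv ≫ DerivedCategory.Qh.map ((HomotopyCategory.quotient _ _).map φ) ≫ eJ.hom := by
    rw [hφ₀]; simp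
  rw [this]
  infer_instance

end Push

end Groth.Agent.AlgSpQC10
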