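import Groth.Agent.AlgSpQC10.ModGroth
import Groth.Agent.AlgSpQC10.Push
import Mathlib.Algebra.Category.ModuleCat.Presheaf.Limits
import Mathlib.Algebra.Category.ModuleCat.Sheaf.Limits
import Mathlib.Algebra.Category.ModuleCat.ChangeOfRings
import Mathlib.CategoryTheory.Adjunction.AdjointFunctorTheorems
import Mathlib.CategoryTheory.Abelian.GrothendieckCategory.EnoughInjectives

/-!
# Inverse images of modules exist
-/

universe u

set_option autoImplicit false
set_option linter.style.haveILetI false
set_option backward.isDefEq.respectTransparency false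
set_option backward.isDefEq.respectTransparency.types false

open CategoryTheory CategoryTheory.Limits AlgebraicGeometry Opposite AlgSp

namespace Groth.Agent.AlgSpQC10

variable {S : Scheme.{u}} {X Y : Sp S} {f : X ⟶ Y} (hf : Representable f)

theorem preservesLimits_pushModEt : PreservesLimitsOfSize.{u + 1, u + 1} (pushModEt hf) := by
  haveI : PreservesLimitsOfSize.{u + 1, u + 1} (pushModEt hf ⋙ SheafOfModules.forget (OEtRing Y)) := by
    refine ⟨fun {J} _ => ⟨fun {K} => ⟨fun {c} hc => ⟨PresheafOfModules.evaluationJointlyReflectsLimits _ _ fun E => ?_⟩⟩⟩⟩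
    exact isLimitOfPreserves (ModuleCat.restrictScalars ((bcRingHom hf).hom.app E).hom)
      (isLimitOfPreserves (PresheafOfModules.evaluation (OEtRing X).obj (op ((EtOver.bc hf).obj E.unop)))
        (isLimitOfPreserves (SheafOfModules.forget (OEtRing X)) hc))
  exact preservesLimits_of_reflects_of_preserves (pushModEt hf) (SheafOfModules.forget (OEtRing Y))

theorem isRightAdjoint_pushModEt :
    (SheafOfModules.pushforward.{u + 1} (bcRingHom hf)).IsRightAdjoint := by
  haveI := isGrothendieckAbelian_sheafOfModules (OEtRing X)
  haveI := preservesLimits_pushModEt hf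
  exact isRightAdjoint_of_preservesLimits_of_isCoseparating.{u + 1} (isCoseparator_coseparator (ModEt X)) _

end Groth.Agent.AlgSpQC10
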