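import Groth.Agent.AlgSpQC10.AffSections
import Groth.Agent.AlgSpQC10.Vanish
import Groth.Agent.TriCat.DerivedProducts
import Groth.Agent.TriCat.KInjRes
import Groth.Prelude.Def_AlgSpD

/-!
# The derived category of quasi-coherent cohomology on a space: sections on affine objects
-/

universe u

set_option autoImplicit false
set_option linter.style.haveILetI false
set_option backward.isDefEq.respectTransparency false
set_option backward.isDefEq.respectTransparency.types false

open CategoryTheory CategoryTheory.Limits AlgebraicGeometry Opposite Abelian Groth.Agent.QCart AlgSp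

attribute [local instance] HasDerivedCategory.standard

namespace Groth.Agent.AlgSpQC10

variable {S : Scheme.{u}} (X : Sp S)

theorem hasExt_modEt : HasExt.{u + 1} (SheafOfModules.{u + 1} (RS.{u + 1, u, u + 1} (OEt X))) :=
  haveI := isGrothendieckAbelian_sheafOfModules (OEtRing X)
  hasExt_of_enoughInjectives.{u + 1} (ModEt X)

theorem hasProductsOfShape_dmodEt : HasLimitsOfShape (Discrete ℕ) (DModEt X) := by
  haveI := isGrothendieckAbelian_sheafOfModules (OEtRing X)
  refine TriCat.hasProductsOfShape_derivedCategory fun K => ?_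
  obtain ⟨I, f, hI, hf, -, -⟩ := TriCat.exists_kInjective_resolution'.{u + 1} K
  exact ⟨I, f, hI, hf⟩

variable {X}

/-- Quasi-coherent modules have no higher extensions out of free modules on affine objects. -/
theorem noExt_of_isQuasicoherent [HasExt.{u + 1} (SheafOfModules.{u + 1} (RS.{u + 1, u, u + 1} (OEt X)))]
    (M : ModEt X) [M.IsQuasicoherent] (W : EtOver X) (hW : (QCart.etBasis X).aff W) :
    NoExt.{u + 1} (shRep (OEt X) W) M := fun j =>
  subsingleton_ext_shRep (R := OEt X) (b := QCart.etBasis X) hW (fun e h => isAff_of_iso e h) j M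
    (isCechAcyclic_of_isQuasicoherent M)

/-- An object with quasi-coherent cohomology is the derived limit of its truncations. -/
theorem isRlimVia_truncTower_of_isQCohDMod (E : DModEt X) (hE : DCoh.IsQCohDMod (OEtRing X) E)
    [HasProduct (CohCx.truncTower E)] :
    CohCx.IsRlimVia (CohCx.truncTower E) (CohCx.truncTowerMap E) E (CohCx.toTruncTower E) :=
  haveI := hasExt_modEt X
  isRlimVia_truncTower (R := OEt X) (QCart.etBasis X) E fun W hW q =>
    haveI := hE q
    noExt_of_isQuasicoherent (DCoh.HDMod (OEtRing X) E q) W hW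

/-- Maps from free modules on affine objects are sections of quasi-coherent cohomology. -/
theorem bijective_h0m_of_isQCohDMod (E : DModEt X) (hE : DCoh.IsQCohDMod (OEtRing X) E) (W : EtOver X)
    (hW : (QCart.etBasis X).aff W) (m : ℤ) :
    Function.Bijective (h0m : ((DerivedCategory.singleFunctor (ModEt X) m).obj (shRep (OEt X) W) ⟶ E) →
      (shRep (OEt X) W ⟶ DCoh.HDMod (OEtRing X) E m)) :=
  haveI := hasExt_modEt X
  haveI := hasProductsOfShape_dmodEt X
  bijective_h0m_shRep (R := OEt X) (QCart.etBasis X) E (fun W hW q =>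
    haveI := hE q
    noExt_of_isQuasicoherent (DCoh.HDMod (OEtRing X) E q) W hW) hW m

/-- An epimorphism of quasi-coherent modules is surjective on affine objects. -/
theorem exists_lift_of_epi {M N : ModEt X} [M.IsQuasicoherent] [N.IsQuasicoherent] (f : M ⟶ N) [Epi f]
    (W : EtOver X) (hW : (QCart.etBasis X).aff W) (φ : shRep (OEt X) W ⟶ N) :
    ∃ ψ : shRep (OEt X) W ⟶ M, ψ ≫ f = φ :=
  exists_lift_shRep (b := QCart.etBasis X) (S := ShortComplex.mk (kernel.ι f) f (kernel.condition f))
    { exact := ShortComplex.exact_kernel f }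
    (isCechAcyclic_of_isCart (fun e h => isAff_of_iso e h) _ (QCart.psh (R := OEt X) (kernel f)) rfl
      (AffBasis.IsCart.kernel (R := OEt X) f (isCart M) (isCart N))) hW φ

end Groth.Agent.AlgSpQC10
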