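import Groth.Agent.AlgSpQC10.DerDetect
import Groth.Agent.TriCat.DerivedOfAdjunction
import Groth.Agent.TriCat.DerivedProducts
import Groth.Agent.TriCat.RightDerivedBridge
import Groth.Agent.DSites.DCat
import Groth.Agent.DSites.Vanish
import Mathlib.Algebra.Category.Grp.Abelian
import Mathlib.Algebra.Homology.ConcreteCategory
import Mathlib.Algebra.Homology.Factorizations.CM5a
import Mathlib.CategoryTheory.Triangulated.Adjunction

/-!
# Unbounded right derived functors of product preserving functors to abelian groups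
-/

universe v v'

set_option autoImplicit false
set_option linter.style.haveILetI false
set_option linter.unusedSectionVars false
set_option backward.isDefEq.respectTransparency false
set_option backward.isDefEq.respectTransparency.types false

open CategoryTheory CategoryTheory.Limits Pretriangulated

attribute [local instance] HasDerivedCategory.standard

namespace Groth.Agent.AlgSpQC10

variable {A : Type (v + 1)} [Category.{v} A] [Abelian A] [HasLimitsOfShape (Discrete ℕ) A]

section KProd

variable (I : ℕ → CochainComplex A ℤ) [∀ n, (I n).IsKInjective]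

theorem isKInjective_pi : (∏ᶜ I).IsKInjective :=
  ⟨fun {K} f hK => ⟨HomotopyCategory.homotopyOfEq _ _ (TriCat.quotient_hom_ext_pi f 0 fun n => by
    rw [zero_comp]
    exact HomotopyCategory.eq_of_homotopy _ _ (CochainComplex.IsKInjective.homotopyZero (f ≫ Pi.π I n) hK))⟩⟩

theorem quotient_pi_bijective (K : CochainComplex A ℤ) :
    Function.Bijective fun (f : (HomotopyCategory.quotient A _).obj K ⟶ (HomotopyCategory.quotient A _).obj (∏ᶜ I))
      (n : ℕ) => f ≫ (HomotopyCategory.quotient A _).map (Pi.π I n) := by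
  refine ⟨fun f g h => ?_, fun g => ?_⟩
  · obtain ⟨f, rfl⟩ := (HomotopyCategory.quotient A _).map_surjective f
    obtain ⟨g, rfl⟩ := (HomotopyCategory.quotient A _).map_surjective g
    exact TriCat.quotient_hom_ext_pi f g fun n => by
      rw [Functor.map_comp, Functor.map_comp]
      exact congrFun h n
  · choose g' hg using fun n => (HomotopyCategory.quotient A _).map_surjective (g n)
    exact ⟨(HomotopyCategory.quotient A _).map (Pi.lift g'), funext fun n => by
      dsimp only
      rw [← Functor.map_comp, Pi.lift_π, hg]⟩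

/-- Products of K-injective complexes are products in the derived category. -/
theorem isIso_qhPiLift [HasProduct fun n => DerivedCategory.Qh.obj ((HomotopyCategory.quotient A _).obj (I n))] :
    IsIso (Pi.lift fun n => DerivedCategory.Qh.map ((HomotopyCategory.quotient A _).map (Pi.π I n)) :
      DerivedCategory.Qh.obj ((HomotopyCategory.quotient A _).obj (∏ᶜ I)) ⟶
        ∏ᶜ fun n => DerivedCategory.Qh.obj ((HomotopyCategory.quotient A _).obj (I n))) := by
  haveI := isKInjective_pi I
  refine isIso_of_yoneda_map_bijective _ fun Y => ?_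
  obtain ⟨K, ⟨e⟩⟩ : ∃ K, Nonempty (DerivedCategory.Qh.obj ((HomotopyCategory.quotient A _).obj K) ≅ Y) :=
    ⟨_, ⟨(DerivedCategory.quotientCompQhIso A).app (DerivedCategory.Q.objPreimage Y) ≪≫
      DerivedCategory.Q.objObjPreimageIso Y⟩⟩
  refine ⟨fun f g h => ?_, fun g => ?_⟩
  · obtain ⟨f', hf'⟩ := (CochainComplex.IsKInjective.Qh_map_bijective _ (∏ᶜ I)).2 (e.hom ≫ f)
    obtain ⟨g', hg'⟩ := (CochainComplex.IsKInjective.Qh_map_bijective _ (∏ᶜ I)).2 (e.hom ≫ g)
    rw [← cancel_epi e.hom, ← hf', ← hg']
    refine congrArg _ ((quotient_pi_bijective I K).1 (funext fun n => ?_))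
    apply (CochainComplex.IsKInjective.Qh_map_bijective _ (I n)).1
    have h2 : (e.hom ≫ f) ≫ DerivedCategory.Qh.map ((HomotopyCategory.quotient A _).map (Pi.π I n)) =
        (e.hom ≫ g) ≫ DerivedCategory.Qh.map ((HomotopyCategory.quotient A _).map (Pi.π I n)) := by
      have h3 := congrArg (fun k => e.hom ≫ k ≫ Pi.π _ n) h
      simpa using h3
    simp only [Functor.map_comp, hf', hg', h2]
  · choose g' hg' using fun n =>
      (CochainComplex.IsKInjective.Qh_map_bijective ((HomotopyCategory.quotient A _).obj K) (I n)).2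
        (e.hom ≫ g ≫ Pi.π _ n)
    obtain ⟨f', hf'⟩ := (quotient_pi_bijective I K).2 g'
    refine ⟨e.inv ≫ DerivedCategory.Qh.map f', Pi.hom_ext _ _ fun n => ?_⟩
    rw [Category.assoc, Category.assoc, Pi.lift_π, ← Functor.map_comp,
      show f' ≫ (HomotopyCategory.quotient A _).map (Pi.π I n) = g' n from congrFun hf' n, hg', Iso.inv_hom_id_assoc]

end KProd

variable (F : A ⥤ AddCommGrpCat.{v'}) [F.Additive]

/-- Homology of a complex of abelian groups commutes with the products preserved by a functor. -/
theorem bijective_homology_map_pi [PreservesLimitsOfShape (Discrete ℕ) F] (I : ℕ → CochainComplex A ℤ) (i : ℤ) :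
    Function.Bijective fun (x : (((F.mapHomologicalComplex (ComplexShape.up ℤ)).obj (∏ᶜ I)).homology i :)) (n : ℕ) =>
      (HomologicalComplex.homologyMap ((F.mapHomologicalComplex (ComplexShape.up ℤ)).map (Pi.π I n)) i) x := by
  let K := (F.mapHomologicalComplex (ComplexShape.up ℤ)).obj (∏ᶜ I)
  let L := fun n => (F.mapHomologicalComplex (ComplexShape.up ℤ)).obj (I n)
  let p := fun n : ℕ => ((F.mapHomologicalComplex (ComplexShape.up ℤ)).map (Pi.π I n) : K ⟶ L n)
  have hX : ∀ (m : ℤ) (x : ∀ n, (L n).X m), ∃! y : K.X m, ∀ n, (p n).f m y = x n := fun m x => by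
    let hl := isLimitFanMkObjOfIsLimit
      (HomologicalComplex.eval A (ComplexShape.up ℤ) m ⋙ F ⋙ CategoryTheory.forget AddCommGrpCat.{v'}) I (Pi.π I)
      (productIsProduct I)
    obtain ⟨y, hy, hu⟩ := (Types.isLimit_iff _).1 ⟨hl⟩ (fun j => x j.as) (fun {j j'} g => by
      obtain rfl : j = j' := Discrete.ext (Discrete.eq_of_hom g)
      simp [show g = 𝟙 j from Subsingleton.elim _ _])
    exact ⟨y, fun n => hy ⟨n⟩, fun y' hy' => hu y' fun j => hy' j.as⟩
  have hnat : ∀ (n : ℕ) (j k : ℤ) (y : K.X j), (p n).f k (K.d j k y) = (L n).d j k ((p n).f j y) := fun n j k y =>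
    (ConcreteCategory.congr_hom ((p n).comm j k) y).symm
  have hc : ∀ (n : ℕ) (z : (K.cycles i :)), HomologicalComplex.homologyMap (p n) i (K.homologyπ i z) =
      (L n).homologyπ i (HomologicalComplex.cyclesMap (p n) i z) := fun n z =>
    ConcreteCategory.congr_hom (HomologicalComplex.homologyπ_naturality (p n) i) z
  have hi : ∀ (n : ℕ) (z : (K.cycles i :)), (L n).iCycles i (HomologicalComplex.cyclesMap (p n) i z) =
      (p n).f i (K.iCycles i z) := fun n z =>
    ConcreteCategory.congr_hom (HomologicalComplex.cyclesMap_i (p n) i) z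
  have hd : ∀ (M : CochainComplex AddCommGrpCat.{v'} ℤ) (z : (M.cycles i :)), M.d i (i + 1) (M.iCycles i z) = 0 :=
    fun M z => ConcreteCategory.congr_hom (M.iCycles_d i (i + 1)) z
  have hex : ∀ (M : CochainComplex AddCommGrpCat.{v'} ℤ) (z : (M.cycles i :)), M.homologyπ i z = 0 →
      ∃ w : M.X (i - 1), M.d (i - 1) i w = M.iCycles i z := fun M z hz => by
    obtain ⟨w, hw⟩ := (ShortComplex.ab_exact_iff _).1
      (ShortComplex.exact_of_g_is_cokernel (ShortComplex.mk (M.toCycles (i - 1) i) (M.homologyπ i) (by simp))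
        (M.homologyIsCokernel (i - 1) i (by simp))) z hz
    exact ⟨w, (ConcreteCategory.congr_hom (M.toCycles_i (i - 1) i) w).symm.trans (congrArg _ hw)⟩
  refine ⟨fun x x' h => sub_eq_zero.1 ?_, fun h => ?_⟩
  · have h0 : ∀ n, HomologicalComplex.homologyMap (p n) i (x - x') = 0 := fun n => by
      rw [map_sub, sub_eq_zero]
      exact congrFun h n
    obtain ⟨z, hz⟩ := (AddCommGrpCat.epi_iff_surjective (K.homologyπ i)).1 inferInstance (x - x')
    rw [← hz] at h0 ⊢
    choose w hw using fun n => hex (L n) _ ((hc n z).symm.trans (h0 n))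
    obtain ⟨y, hy, -⟩ := hX (i - 1) w
    have hzy : K.iCycles i z = K.d (i - 1) i y := (hX i fun n => (p n).f i (K.iCycles i z)).unique
      (fun n => rfl) fun n => by rw [hnat, hy, hw, hi]
    have : z = K.toCycles (i - 1) i y := (AddCommGrpCat.mono_iff_injective (K.iCycles i)).1 inferInstance
      (hzy.trans (ConcreteCategory.congr_hom (K.toCycles_i (i - 1) i) y).symm)
    rw [this]
    exact ConcreteCategory.congr_hom (K.toCycles_comp_homologyπ (i - 1) i) y
  · choose z hz using fun n => (AddCommGrpCat.epi_iff_surjective ((L n).homologyπ i)).1 inferInstance (h n)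
    obtain ⟨y, hy, -⟩ := hX i fun n => (L n).iCycles i (z n)
    have hy0 : K.d i (i + 1) y = 0 := (hX (i + 1) fun _ => 0).unique
      (fun n => by rw [hnat, hy, hd]) fun n => map_zero _
    obtain ⟨zK, hzK⟩ := (ShortComplex.ab_exact_iff _).1
      (ShortComplex.exact_of_f_is_kernel (ShortComplex.mk (K.iCycles i) (K.d i (i + 1)) (K.iCycles_d i (i + 1)))
        (K.cyclesIsKernel i (i + 1) (by simp))) y hy0
    refine ⟨K.homologyπ i zK, funext fun n => ?_⟩
    refine (hc n zK).trans (Eq.trans ?_ (hz n))
    refine congrArg _ ((AddCommGrpCat.mono_iff_injective ((L n).iCycles i)).1 inferInstance ?_)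
    rw [hi]
    exact (congrArg _ hzK).trans (hy n)

/-- The functor inducing the derived functor. -/
noncomputable abbrev rfKh : HomotopyCategory A (ComplexShape.up ℤ) ⥤ DerivedCategory AddCommGrpCat.{v'} :=
  F.mapHomotopyCategory (ComplexShape.up ℤ) ⋙ DerivedCategory.Qh

variable [(rfKh F).HasRightDerivedFunctor (HomotopyCategory.quasiIso A (ComplexShape.up ℤ))]

/-- The total right derived functor. -/
noncomputable abbrev RF : DerivedCategory A ⥤ DerivedCategory AddCommGrpCat.{v'} :=
  (rfKh F).totalRightDerived DerivedCategory.Qh (HomotopyCategory.quasiIso A (ComplexShape.up ℤ))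

/-- Enough K-injective complexes. -/
abbrev HasKInjRes (A : Type (v + 1)) [Category.{v} A] [Abelian A] : Prop :=
  ∀ K : CochainComplex A ℤ, ∃ (I : CochainComplex A ℤ) (f : K ⟶ I), I.IsKInjective ∧ QuasiIso f

variable (hK : HasKInjRes A)

/-- The right adjoint of the localization functor. -/
noncomputable def kRes : DerivedCategory A ⥤ HomotopyCategory A (ComplexShape.up ℤ) :=
  haveI := TriCat.qh_isLeftAdjoint_of_exists_resolution hK
  (DerivedCategory.Qh (C := A)).rightAdjoint

/-- The adjunction of the localization functor. -/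
noncomputable def kAdj : DerivedCategory.Qh ⊣ kRes hK :=
  haveI := TriCat.qh_isLeftAdjoint_of_exists_resolution hK
  Adjunction.ofIsLeftAdjoint _

/-- The derived functor through K-injective resolutions. -/
noncomputable def rfModelIso : kRes hK ⋙ rfKh F ≅ RF F :=
  let W := HomotopyCategory.quasiIso A (ComplexShape.up ℤ)
  haveI : (kRes hK ⋙ rfKh F).IsRightDerivedFunctor (Functor.whiskerRight (kAdj hK).unit (rfKh F)) W :=
    TriCat.isRightDerivedFunctor_of_adjunction (kAdj hK) W (rfKh F)
  Functor.rightDerivedUnique _ _ (Functor.whiskerRight (kAdj hK).unit (rfKh F))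
    ((rfKh F).totalRightDerivedUnit DerivedCategory.Qh W) W

include hK in
/-- The derived functor is computed by K-injective complexes. -/
theorem isIso_rfUnit (I : CochainComplex A ℤ) [I.IsKInjective] :
    IsIso (((rfKh F).totalRightDerivedUnit DerivedCategory.Qh (HomotopyCategory.quasiIso A (ComplexShape.up ℤ))).app
      ((HomotopyCategory.quotient A _).obj I)) := by
  let W := HomotopyCategory.quasiIso A (ComplexShape.up ℤ)
  haveI : (kRes hK ⋙ rfKh F).IsRightDerivedFunctor (Functor.whiskerRight (kAdj hK).unit (rfKh F)) W :=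
    TriCat.isRightDerivedFunctor_of_adjunction (kAdj hK) W (rfKh F)
  haveI := TriCat.isIso_unit_of_isKInjective (kAdj hK) I
  have h : (rfKh F).map ((kAdj hK).unit.app ((HomotopyCategory.quotient A _).obj I)) ≫
      (rfModelIso F hK).hom.app _ = _ :=
    (Functor.rightDerivedNatTrans_app (kRes hK ⋙ rfKh F) (RF F) (Functor.whiskerRight (kAdj hK).unit (rfKh F))
      ((rfKh F).totalRightDerivedUnit DerivedCategory.Qh W) W (𝟙 _) ((HomotopyCategory.quotient A _).obj I)).trans
      (Category.id_comp _)
  rw [← h]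
  infer_instance

/-- The shift commutation of the derived functor. -/
noncomputable abbrev rfCommShift : (RF F).CommShift ℤ :=
  letI := (kAdj hK).rightAdjointCommShift ℤ
  Functor.CommShift.ofIso (rfModelIso F hK) ℤ

theorem isTriangulated_rf : letI := rfCommShift F hK; (RF F).IsTriangulated := by
  letI := (kAdj hK).rightAdjointCommShift ℤ
  haveI := (kAdj hK).commShift_of_leftAdjoint ℤ
  haveI : (kRes hK).IsTriangulated := (kAdj hK).isTriangulated_rightAdjoint
  letI := rfCommShift F hK
  haveI : NatTrans.CommShift (rfModelIso F hK).hom ℤ := Functor.CommShift.ofIso_compatibility _ _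
  haveI : (rfKh F).IsTriangulated :=
    Functor.IsTriangulated.instComp (F.mapHomotopyCategory (ComplexShape.up ℤ)) DerivedCategory.Qh
  haveI : (kRes hK ⋙ rfKh F).IsTriangulated := Functor.IsTriangulated.instComp (kRes hK) (rfKh F)
  exact Functor.isTriangulated_of_iso (rfModelIso F hK)

include hK in
theorem nonempty_rf_kInjective (I : CochainComplex A ℤ) [I.IsKInjective] :
    Nonempty ((RF F).obj (DerivedCategory.Q.obj I) ≅
      DerivedCategory.Q.obj ((F.mapHomologicalComplex (ComplexShape.up ℤ)).obj I)) :=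
  haveI := isIso_rfUnit F hK I
  ⟨(RF F).mapIso ((DerivedCategory.quotientCompQhIso A).app I).symm ≪≫
    (asIso (((rfKh F).totalRightDerivedUnit DerivedCategory.Qh (HomotopyCategory.quasiIso A (ComplexShape.up ℤ))).app
      ((HomotopyCategory.quotient A _).obj I))).symm ≪≫
    DerivedCategory.Qh.mapIso ((F.mapHomotopyCategoryFactors (ComplexShape.up ℤ)).app I) ≪≫
    (DerivedCategory.quotientCompQhIso _).app _⟩

include hK in
/-- Cohomology of the derived functor commutes with countable products. -/
theorem bijective_H_rf_pi [PreservesLimitsOfShape (Discrete ℕ) F] (X : ℕ → DerivedCategory A) [HasProduct X] (i : ℤ) :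
    Function.Bijective fun (x : ((DerivedCategory.homologyFunctor AddCommGrpCat.{v'} i).obj ((RF F).obj (∏ᶜ X)) :)) (n : ℕ) =>
      ((DerivedCategory.homologyFunctor AddCommGrpCat.{v'} i).map ((RF F).map (Pi.π X n))) x := by
  have : ∀ n, ∃ (I : CochainComplex A ℤ) (_ : I.IsKInjective),
      Nonempty (DerivedCategory.Qh.obj ((HomotopyCategory.quotient A _).obj I) ≅ X n) := fun n => by
    let K := DerivedCategory.Q.objPreimage (X n)
    obtain ⟨I, f, hI, hf⟩ := hK K
    exact ⟨I, hI, ⟨(DerivedCategory.quotientCompQhIso A).app I ≪≫ (asIso (DerivedCategory.Q.map f)).symm ≪≫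
      DerivedCategory.Q.objObjPreimageIso (X n)⟩⟩
  choose I hI e using this
  let e' := fun n => (e n).some
  haveI := hI
  haveI := isKInjective_pi I
  let Y := fun n => DerivedCategory.Qh.obj ((HomotopyCategory.quotient A _).obj (I n))
  let d : Discrete.functor Y ≅ Discrete.functor X := Discrete.natIso fun j => e' j.as
  haveI : HasProduct Y := hasLimit_of_iso d.symm
  haveI := isIso_qhPiLift I
  let φ : DerivedCategory.Qh.obj ((HomotopyCategory.quotient A _).obj (∏ᶜ I)) ⟶ ∏ᶜ X :=
    Pi.lift fun n => DerivedCategory.Qh.map ((HomotopyCategory.quotient A _).map (Pi.π I n)) ≫ (e' n).hom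
  haveI : IsIso φ := by
    have : φ = (Pi.lift fun n => DerivedCategory.Qh.map ((HomotopyCategory.quotient A _).map (Pi.π I n))) ≫
        (HasLimit.isoOfNatIso d).hom := Pi.hom_ext _ _ fun n => by
      refine (Pi.lift_π _ n).trans (Eq.trans ?_ (Category.assoc _ _ _).symm)
      refine Eq.trans ?_ (congrArg (_ ≫ ·) (HasLimit.isoOfNatIso_hom_π d ⟨n⟩)).symm
      rw [← Category.assoc]
      exact (congrArg (· ≫ (e' n).hom) (Pi.lift_π _ n)).symm
    rw [this]
    infer_instance
  let G := DerivedCategory.homologyFunctor AddCommGrpCat.{v'} i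
  let Φ := (F.mapHomologicalComplex (ComplexShape.up ℤ))
  haveI := isIso_rfUnit F hK (∏ᶜ I)
  haveI : ∀ n, IsIso (((rfKh F).totalRightDerivedUnit DerivedCategory.Qh (HomotopyCategory.quasiIso A (ComplexShape.up ℤ))).app
      ((HomotopyCategory.quotient A _).obj (I n))) := fun n => isIso_rfUnit F hK (I n)
  let κ := ((HomotopyCategory.homologyFunctorFactors AddCommGrpCat.{v'} (ComplexShape.up ℤ) i).symm ≪≫
    Functor.isoWhiskerLeft _ (DerivedCategory.homologyFunctorFactorsh AddCommGrpCat.{v'} i).symm)
  let β : ∀ J : CochainComplex A ℤ, (Φ.obj J).homology i ⟶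
      G.obj ((RF F).obj (DerivedCategory.Qh.obj ((HomotopyCategory.quotient A _).obj J))) := fun J =>
    κ.hom.app (Φ.obj J) ≫ G.map (DerivedCategory.Qh.map ((F.mapHomotopyCategoryFactors (ComplexShape.up ℤ)).inv.app J) ≫
      ((rfKh F).totalRightDerivedUnit DerivedCategory.Qh (HomotopyCategory.quasiIso A (ComplexShape.up ℤ))).app _)
  have βnat : ∀ {J J' : CochainComplex A ℤ} (f : J ⟶ J'),
      β J ≫ G.map ((RF F).map (DerivedCategory.Qh.map ((HomotopyCategory.quotient A _).map f))) =
        HomologicalComplex.homologyMap (Φ.map f) i ≫ β J' := fun {J J'} f => by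
    have h1 := κ.hom.naturality (Φ.map f)
    have h2 := (F.mapHomotopyCategoryFactors (ComplexShape.up ℤ)).inv.naturality f
    have h3 := ((rfKh F).totalRightDerivedUnit DerivedCategory.Qh
      (HomotopyCategory.quasiIso A (ComplexShape.up ℤ))).naturality ((HomotopyCategory.quotient A _).map f)
    dsimp [β]
    rw [Category.assoc, ← Functor.map_comp, Category.assoc]
    refine (congrArg (fun t => κ.hom.app (Φ.obj J) ≫ G.map (DerivedCategory.Qh.map _ ≫ t)) h3.symm).trans ?_
    refine Eq.trans ?_ ((Category.assoc _ _ _).symm.trans ((congrArg (· ≫ _) h1).trans (Category.assoc _ _ _))).symm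
    refine congrArg (κ.hom.app (Φ.obj J) ≫ ·) ?_
    dsimp [G]
    rw [← Functor.map_comp, ← Category.assoc, ← Category.assoc, ← Functor.map_comp]
    refine congrArg _ (congrArg (· ≫ _) ?_)
    exact (congrArg DerivedCategory.Qh.map h2.symm).trans (DerivedCategory.Qh.map_comp _ _)
  haveI : IsIso (β (∏ᶜ I)) := by dsimp [β]; infer_instance
  haveI : ∀ n, IsIso (β (I n)) := fun n => by dsimp [β]; infer_instance
  let a : (Φ.obj (∏ᶜ I)).homology i ⟶ G.obj ((RF F).obj (∏ᶜ X)) := β _ ≫ G.map ((RF F).map φ)
  let c : ∀ n, (Φ.obj (I n)).homology i ⟶ G.obj ((RF F).obj (X n)) := fun n =>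
    β _ ≫ G.map ((RF F).map (e' n).hom)
  have ha : ∀ n, a ≫ G.map ((RF F).map (Pi.π X n)) = HomologicalComplex.homologyMap (Φ.map (Pi.π I n)) i ≫ c n :=
    fun n => by
      simp only [a, c, Category.assoc, ← Functor.map_comp, φ, Pi.lift_π]
      simp only [Functor.map_comp]
      rw [← Category.assoc, βnat, Category.assoc]
  have hb := bijective_homology_map_pi F I i
  have hab : Function.Bijective a := ConcreteCategory.bijective_of_isIso a
  have hcb : ∀ n, Function.Bijective (c n) := fun n => ConcreteCategory.bijective_of_isIso (c n)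
  refine ⟨fun x x' h => ?_, fun h => ?_⟩
  · obtain ⟨y, rfl⟩ := hab.2 x
    obtain ⟨y', rfl⟩ := hab.2 x'
    refine congrArg _ (hb.1 (funext fun n => (hcb n).1 ?_))
    exact ((ConcreteCategory.congr_hom (ha n) y).symm.trans (congrFun h n)).trans (ConcreteCategory.congr_hom (ha n) y')
  · choose h' hh' using fun n => (hcb n).2 (h n)
    obtain ⟨y, hy⟩ := hb.2 h'
    refine ⟨a y, funext fun n => ?_⟩
    exact (ConcreteCategory.congr_hom (ha n) y).trans ((congrArg (c n) (congrFun hy n)).trans (hh' n))

include hK in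
/-- The derived functor is left t-exact. -/
theorem isGE_rf (X : DerivedCategory A) (n : ℤ) [X.IsGE n] [EnoughInjectives A] : ((RF F).obj X).IsGE n := by
  obtain ⟨M, _, ⟨e⟩⟩ := DerivedCategory.exists_iso_Q_obj_of_isGE X n
  obtain ⟨I, i, _, hI, _⟩ := CochainComplex.Plus.modelCategoryQuillen.exists_quasiIso_injective M n
  haveI := CochainComplex.isKInjective_of_injective I n
  obtain ⟨e'⟩ := nonempty_rf_kInjective F hK I
  haveI : CochainComplex.IsStrictlyGE ((F.mapHomologicalComplex (ComplexShape.up ℤ)).obj I) n :=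
    (CochainComplex.isStrictlyGE_iff _ n).2 fun j hj => F.map_isZero (I.isZero_of_isStrictlyGE n j hj)
  exact DerivedCategory.TStructure.t.isGE_of_iso
    ((RF F).mapIso (e ≪≫ asIso (DerivedCategory.Q.map i)) ≪≫ e').symm n

include hK in
theorem nonempty_H_rf_single [HasInjectiveResolutions A] (M : A) (p : ℕ) :
    Nonempty ((DerivedCategory.homologyFunctor AddCommGrpCat.{v'} (p : ℤ)).obj
      ((RF F).obj ((DerivedCategory.singleFunctor A 0).obj M)) ≅ (F.rightDerived p).obj M) := by
  let R := injectiveResolution M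
  haveI := CochainComplex.isKInjective_of_injective R.cochainComplex 0
  obtain ⟨e⟩ := nonempty_rf_kInjective F hK R.cochainComplex
  haveI : QuasiIso R.ι' := inferInstance
  exact ⟨(DerivedCategory.homologyFunctor _ (p : ℤ)).mapIso
      ((RF F).mapIso (((DerivedCategory.singleFunctorIsoCompQ _ 0).app M) ≪≫
        asIso (DerivedCategory.Q.map R.ι')) ≪≫ e) ≪≫
    (DerivedCategory.homologyFunctorFactors _ (p : ℤ)).app _ ≪≫
    TriCat.homologyResIso F R p ≪≫ (R.isoRightDerivedObj F p).symm⟩

include hK in
/-- The cohomology of the derived functor of a bounded object. -/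
theorem isZero_H_rf [EnoughInjectives A] (P : ObjectProperty A) (N : ℕ)
    (h : ∀ M, P M → ∀ p : ℕ, N ≤ p → IsZero ((F.rightDerived p).obj M))
    (X : DerivedCategory A) (a b : ℤ) [X.IsGE a] [X.IsLE b]
    (hX : ∀ n, P ((DerivedCategory.homologyFunctor A n).obj X)) (q : ℤ) (hq : b + N ≤ q) :
    IsZero ((DerivedCategory.homologyFunctor AddCommGrpCat.{v'} q).obj ((RF F).obj X)) := by
  letI := rfCommShift F hK
  haveI := isTriangulated_rf F hK
  let H := DerivedCategory.homologyFunctor AddCommGrpCat.{v'}
  let Φ : ObjectProperty (DerivedCategory A) := fun Y => IsZero ((H q).obj ((RF F).obj Y))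
  have : Φ.IsClosedUnderIsomorphisms := ⟨fun e hY => hY.of_iso ((H q).mapIso ((RF F).mapIso e.symm))⟩
  refine DSites.devissage_bounded Φ (fun Z hZ => Functor.map_isZero _ ((RF F).map_isZero hZ))
    (fun T hT h₁ h₃ => ((DerivedCategory.HomologySequence.exact₂ _ ((RF F).map_distinguished T hT) q).isZero_of_both_zeros
      (h₁.eq_of_src _ _) (h₃.eq_of_tgt _ _))) X a b fun n han hn => ?_
  let M := (DerivedCategory.homologyFunctor A n).obj X
  let e : (DerivedCategory.singleFunctor A n).obj M ≅ ((DerivedCategory.singleFunctor A 0).obj M)⟦-n⟧ :=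
    (((DerivedCategory.singleFunctors A).shiftIso (-n) n 0 (by omega)).app M).symm
  refine Φ.prop_of_iso e.symm ?_
  refine IsZero.of_iso ?_ ((H q).mapIso (((RF F).commShiftIso (-n)).app _) ≪≫
    ((H 0).shiftIso (-n) q (q - n) (by omega)).app _)
  obtain ⟨p, hp⟩ : ∃ p : ℕ, q - n = p := ⟨(q - n).toNat, by omega⟩
  rw [hp]
  obtain ⟨e'⟩ := nonempty_H_rf_single F hK M p
  exact (h M (hX n) p (by omega)).of_iso e'

include hK in
/-- In high degrees the derived functor only sees the truncations. -/
theorem isIso_H_rf_truncGE [EnoughInjectives A] [PreservesLimitsOfShape (Discrete ℕ) F]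
    (P : ObjectProperty A) [P.IsClosedUnderIsomorphisms] [P.ContainsZero] (N : ℕ)
    (h : ∀ M, P M → ∀ p : ℕ, N ≤ p → IsZero ((F.rightDerived p).obj M))
    (E : DerivedCategory A) (hE : WSerre.cohIn P E) [HasProduct (CohCx.truncTower E)]
    (hlim : CohCx.IsRlimVia (CohCx.truncTower E) (CohCx.truncTowerMap E) E (CohCx.toTruncTower E))
    (c i : ℤ) (hci : c - 1 + N ≤ i) :
    IsIso ((DerivedCategory.homologyFunctor AddCommGrpCat.{v'} i).map
      ((RF F).map ((DerivedCategory.TStructure.t.truncGEπ c).app E))) := by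
  letI := rfCommShift F hK
  haveI := isTriangulated_rf F hK
  let H := DerivedCategory.homologyFunctor AddCommGrpCat.{v'}
  let t := DerivedCategory.TStructure.t (C := A)
  let K := CohCx.truncTower E
  have hz : ∀ (Y : DerivedCategory A) (a b : ℤ), Y.IsGE a → Y.IsLE b → WSerre.cohIn P Y → ∀ q : ℤ, b + N ≤ q →
      IsZero ((H q).obj ((RF F).obj Y)) := fun Y a b _ _ hY q hq => isZero_H_rf F hK P N h Y a b hY q hq
  -- the transition maps far out
  have hstep : ∀ (j : ℤ) (n : ℕ), -(n : ℤ) - 2 + N ≤ j - 1 →
      IsIso ((H j).map ((RF F).map (CohCx.truncTowerMap E n))) := fun j n hn => by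
    obtain ⟨Q, g, d, hQ⟩ := distinguished_cocone_triangle (CohCx.truncTowerMap E n)
    obtain ⟨hge, hh, ⟨eQ⟩⟩ := DSites.truncTowerMap_cone E n g d hQ
    have hle : Q.IsLE (-(n : ℤ) - 2) := (DerivedCategory.isLE_iff _ _).2 fun q hq => hh q (by omega)
    have hQP : WSerre.cohIn P Q := fun q => by
      by_cases hq : q = -(n : ℤ) - 2
      · subst hq; exact P.prop_of_iso eQ.symm (hE _)
      · obtain ⟨Z, hZ, hPZ⟩ := P.exists_prop_of_containsZero
        exact P.prop_of_iso (hZ.iso (hh q hq)) hPZ
    exact DSites.isIso_H_mor₁ _ ((RF F).map_distinguished _ hQ) j (hz Q _ _ hge hle hQP _ (by omega))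
      (hz Q _ _ hge hle hQP _ (by omega))
  obtain ⟨n₀, hn₀, hn₀'⟩ : ∃ n₀ : ℕ, -(n₀ : ℤ) ≤ c ∧ -(n₀ : ℤ) - 2 + N ≤ i - 2 :=
    ⟨((-c).toNat + (N - i).toNat), by omega, by omega⟩
  -- the comparison with a term of the tower
  have hkey : IsIso ((H i).map ((RF F).map (CohCx.toTruncTower E n₀))) := by
    obtain ⟨δ, hδ⟩ := hlim
    have hd := (RF F).map_distinguished _ hδ
    let T := (RF F).mapTriangle.obj (Triangle.mk (Pi.lift (CohCx.toTruncTower E))
      (Pi.lift fun n => Pi.π K n - Pi.π K (n + 1) ≫ CohCx.truncTowerMap E n) δ)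
    let pr : ∀ (j : ℤ) (n : ℕ), (H j).obj ((RF F).obj (∏ᶜ K)) ⟶ (H j).obj ((RF F).obj (K n)) := fun j n =>
      (H j).map ((RF F).map (Pi.π K n))
    let tm : ∀ (j : ℤ) (n : ℕ), (H j).obj ((RF F).obj (K (n + 1))) ⟶ (H j).obj ((RF F).obj (K n)) := fun j n =>
      (H j).map ((RF F).map (CohCx.truncTowerMap E n))
    have hpr : ∀ (n : ℕ) (x : ((H i).obj ((RF F).obj E) :)), pr i n ((H i).map T.mor₁ x) =
        (H i).map ((RF F).map (CohCx.toTruncTower E n)) x := fun n x => by
      refine (ConcreteCategory.comp_apply _ _ x).symm.trans ?_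
      refine ConcreteCategory.congr_hom (Eq.trans ((H i).map_comp _ _).symm (congrArg (H i).map ?_)) x
      exact ((RF F).map_comp _ _).symm.trans (congrArg (RF F).map (Pi.lift_π _ n))
    have hdiff : ∀ (j : ℤ) (n : ℕ) (w : ((H j).obj ((RF F).obj (∏ᶜ K)) :)),
        pr j n ((H j).map T.mor₂ w) = pr j n w - tm j n (pr j (n + 1) w) := fun j n w => by
      have e : (RF F).map (Pi.lift fun n => Pi.π K n - Pi.π K (n + 1) ≫ CohCx.truncTowerMap E n) ≫
          (RF F).map (Pi.π K n) =
            (RF F).map (Pi.π K n) - (RF F).map (Pi.π K (n + 1)) ≫ (RF F).map (CohCx.truncTowerMap E n) := by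
        rw [← Functor.map_comp, Pi.lift_π, Functor.map_sub, Functor.map_comp]
      have e2 := congrArg (fun k => (H j).map k w) e
      simp only [Functor.map_sub, Functor.map_comp] at e2
      exact e2
    have hpi := fun j => bijective_H_rf_pi F hK K j
    rw [ConcreteCategory.isIso_iff_bijective]
    refine ⟨fun x x' hxx => sub_eq_zero.1 ?_, fun s => ?_⟩
    · have h0 : (H i).map ((RF F).map (CohCx.toTruncTower E n₀)) (x - x') = 0 := by
        rw [map_sub, sub_eq_zero]; exact hxx
      have htc : ∀ n, tm i n ((H i).map ((RF F).map (CohCx.toTruncTower E (n + 1))) (x - x')) =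
          (H i).map ((RF F).map (CohCx.toTruncTower E n)) (x - x') := fun n => by
        refine (ConcreteCategory.comp_apply _ _ _).symm.trans (ConcreteCategory.congr_hom ?_ (x - x'))
        exact ((H i).map_comp _ _).symm.trans (congrArg (H i).map (((RF F).map_comp _ _).symm.trans
          (congrArg (RF F).map (DerivedCategory.TStructure.t.π_natTransTruncGEOfLE_app _ _ _ E))))
      have hup : ∀ k, (H i).map ((RF F).map (CohCx.toTruncTower E (n₀ + k))) (x - x') = 0 := fun k => by
        induction k with
        | zero => exact h0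
        | succ k ih =>
          haveI := hstep i (n₀ + k) (by omega)
          refine (ConcreteCategory.bijective_of_isIso (tm i (n₀ + k))).1 ?_
          rw [map_zero]
          exact (htc (n₀ + k)).trans ih
      have hdown : ∀ k n, (H i).map ((RF F).map (CohCx.toTruncTower E (n + k))) (x - x') = 0 →
          (H i).map ((RF F).map (CohCx.toTruncTower E n)) (x - x') = 0 := fun k => by
        induction k with
        | zero => exact fun n hn => hn
        | succ k ih => exact fun n hn => ih n ((htc (n + k)).symm.trans ((congrArg _ hn).trans (map_zero _)))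
      have hm : (H i).map T.mor₁ (x - x') = 0 := (hpi i).1 (funext fun n => by
        refine (hpr n _).trans ((hdown n₀ n ?_).trans (map_zero _).symm)
        rw [Nat.add_comm]; exact hup n)
      obtain ⟨y, hy⟩ := (ShortComplex.ab_exact_iff _).1
        (DerivedCategory.HomologySequence.exact₁ T hd (i - 1) i (by omega)) _ hm
      obtain ⟨w, hw⟩ := Groth.Agent.DLim.limOne_of_eventually_surjective n₀
        (fun n => ((H (i - 1)).obj ((RF F).obj (K n)) :)) (fun n => (tm (i - 1) n).hom) (fun n hn => by
          haveI := hstep (i - 1) n (by omega)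
          exact (ConcreteCategory.bijective_of_isIso (tm (i - 1) n)).2) (fun n => pr (i - 1) n y)
      obtain ⟨W, hW⟩ := (hpi (i - 1)).2 w
      have hyW : y = (H (i - 1)).map T.mor₂ W := (hpi (i - 1)).1 (funext fun n => by
        refine Eq.trans ?_ (hdiff (i - 1) n W).symm
        have a1 : pr (i - 1) n W = w n := congrFun hW n
        have a2 : pr (i - 1) (n + 1) W = w (n + 1) := congrFun hW (n + 1)
        rw [a1, a2]
        exact (hw n).symm)
      rw [← hy, hyW]
      exact ConcreteCategory.congr_hom (DerivedCategory.HomologySequence.comp_δ T hd (i - 1) i (by omega)) W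
    · obtain ⟨x, hx, hx0⟩ := Groth.Agent.DSites.exists_compatible n₀
        (fun n => ((H i).obj ((RF F).obj (K n)) :)) (fun n => tm i n) (fun n hn => by
          haveI := hstep i n (by omega)
          exact (ConcreteCategory.bijective_of_isIso (tm i n)).2) s
      obtain ⟨W, hW⟩ := (hpi i).2 x
      have hm : (H i).map T.mor₂ W = 0 := (hpi i).1 (funext fun n => by
        refine (hdiff i n W).trans ?_
        have a1 : pr i n W = x n := congrFun hW n
        have a2 : pr i (n + 1) W = x (n + 1) := congrFun hW (n + 1)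
        rw [a1, a2, hx, sub_self]
        exact (map_zero _).symm)
      obtain ⟨y, hy⟩ := (ShortComplex.ab_exact_iff _).1
        (DerivedCategory.HomologySequence.exact₂ T hd i) W hm
      exact ⟨y, ((hpr n₀ y).symm.trans ((congrArg _ hy).trans (congrFun hW n₀))).trans hx0⟩
  -- the truncation of a term of the tower
  have hbdd : IsIso ((H i).map ((RF F).map ((t.truncGEπ c).app (K n₀)))) := by
    haveI : (K n₀).IsGE (-(n₀ : ℤ)) := t.isGE_truncGE_obj ..
    have hKP : WSerre.cohIn P (K n₀) := DSites.cohIn_truncGE P hE _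
    have hle : ((t.truncLT c).obj (K n₀)).IsLE (c - 1) := t.isLE_truncLT_obj ..
    exact DSites.isIso_H_mor₂ _ ((RF F).map_distinguished _ (t.triangleLTGE_distinguished c (K n₀))) i
      (hz _ (-(n₀ : ℤ)) (c - 1) inferInstance hle (DSites.cohIn_truncLT P hKP c) _ (by omega))
      (hz _ (-(n₀ : ℤ)) (c - 1) inferInstance hle (DSites.cohIn_truncLT P hKP c) _ (by omega))
  have hπ : IsIso ((t.truncGE c).map (CohCx.toTruncTower E n₀)) := (DerivedCategory.isIso_iff _ _).2 fun q => by
    by_cases hq : c ≤ q
    · have e := congrArg (DerivedCategory.homologyFunctor A q).map ((t.truncGEπ c).naturality (CohCx.toTruncTower E n₀))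
      rw [Functor.map_comp, Functor.map_comp] at e
      haveI := H9Misc.isIso_map_truncGEπ c q hq E
      haveI := H9Misc.isIso_map_truncGEπ c q hq (K n₀)
      haveI : IsIso ((DerivedCategory.homologyFunctor A q).map ((𝟭 (DerivedCategory A)).map (CohCx.toTruncTower E n₀))) :=
        H9Misc.isIso_map_truncGEπ (-(n₀ : ℤ)) q (by omega) E
      exact IsIso.of_isIso_fac_left e.symm
    · haveI : ((t.truncGE c).obj E).IsGE c := t.isGE_truncGE_obj ..
      haveI : ((t.truncGE c).obj (K n₀)).IsGE c := t.isGE_truncGE_obj ..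
      exact IsZero.isIso (DerivedCategory.isZero_of_isGE _ c q (by omega))
        (DerivedCategory.isZero_of_isGE _ c q (by omega)) _
  have e := congrArg (fun k => (H i).map ((RF F).map k)) ((t.truncGEπ c).naturality (CohCx.toTruncTower E n₀))
  simp only [Functor.map_comp, Functor.id_map] at e
  haveI : IsIso ((H i).map ((RF F).map (CohCx.toTruncTower E n₀)) ≫ (H i).map ((RF F).map ((t.truncGEπ c).app (K n₀)))) :=
    IsIso.comp_isIso' hkey hbdd
  haveI := hπ
  exact IsIso.of_isIso_fac_right e.symm

end Groth.Agent.AlgSpQC10
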