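import Groth.Agent.AlgSpQC10.QCohD
import Groth.Agent.AlgSpQC10.RFunctor
import Groth.Agent.QCart.Colim

/-!
# Derived functors of finite cohomological dimension on quasi-coherent cohomology
-/

universe u

set_option autoImplicit false
set_option linter.style.haveILetI false
set_option backward.isDefEq.respectTransparency false
set_option backward.isDefEq.respectTransparency.types false

open CategoryTheory CategoryTheory.Limits AlgebraicGeometry Groth.Agent.QCart AlgSp

attribute [local instance] HasDerivedCategory.standard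

namespace Groth.Agent.AlgSpQC10

variable {S : Scheme.{u}} (X : Sp S)

/-- Quasi-coherent modules. -/
abbrev qcohP : ObjectProperty (ModEt X) := fun M => M.IsQuasicoherent

instance isClosedUnderIsomorphisms_qcohP : (qcohP X).IsClosedUnderIsomorphisms :=
  ⟨fun {M N} e hM =>
    haveI : M.IsQuasicoherent := hM
    (AffBasis.isQuasicoherent_iff_isCart (R := OEt X) (QCart.etBasis X)).2
      (AffBasis.IsCart.of_iso (R := OEt X) (isCart M) e)⟩

instance containsZero_qcohP : (qcohP X).ContainsZero :=
  ⟨⟨kernel (𝟙 (unitModEt X)), (isZero_zero _).of_iso (kernel.ofMono (𝟙 (unitModEt X))),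
    (AffBasis.isQuasicoherent_iff_isCart (R := OEt X) (QCart.etBasis X)).2
      (AffBasis.IsCart.kernel (R := OEt X) _ (QCart.etBasis X).isCart_unit (QCart.etBasis X).isCart_unit)⟩⟩

theorem hasKInjRes_modEt : HasKInjRes (ModEt X) := fun K => by
  haveI := isGrothendieckAbelian_sheafOfModules (OEtRing X)
  obtain ⟨I, f, hI, hf, -, -⟩ := TriCat.exists_kInjective_resolution'.{u + 1} K
  exact ⟨I, f, hI, hf⟩

variable {X} (F : ModEt X ⥤ AddCommGrpCat.{u + 1}) [F.Additive] [PreservesLimitsOfShape (Discrete ℕ) F]
  [EnoughInjectives (ModEt X)] [(rfKh F).HasRightDerivedFunctor (HomotopyCategory.quasiIso (ModEt X) (ComplexShape.up ℤ))]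

/-- A derived functor of finite cohomological dimension on quasi-coherent cohomology only sees truncations. -/
theorem isIso_H_rf_truncGE_of_isQCohDMod (N : ℕ)
    (hF : ∀ G : ModEt X, G.IsQuasicoherent → ∀ p : ℕ, N ≤ p → IsZero ((F.rightDerived p).obj G))
    (E : DModEt X) (hE : DCoh.IsQCohDMod (OEtRing X) E) (c i : ℤ) (hci : c - 1 + N ≤ i) :
    IsIso ((DerivedCategory.homologyFunctor AddCommGrpCat.{u + 1} i).map
      ((RF F).map ((DerivedCategory.TStructure.t.truncGEπ c).app E))) :=
  haveI := hasProductsOfShape_dmodEt X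
  isIso_H_rf_truncGE F (hasKInjRes_modEt X) (qcohP X) N hF E hE (isRlimVia_truncTower_of_isQCohDMod E hE) c i hci

end Groth.Agent.AlgSpQC10
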