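import Groth.Agent.AlgSpQC10.Cartan
import Mathlib.CategoryTheory.Sites.IsSheafFor

/-!
# Sequential limits of Čech acyclic sheaves with surjective transition maps on affine objects
-/

universe w v₁ u₁

set_option autoImplicit false
set_option linter.style.haveILetI false
set_option linter.unusedSectionVars false
set_option backward.isDefEq.respectTransparency false
set_option backward.isDefEq.respectTransparency.types false

open CategoryTheory CategoryTheory.Limits Opposite Groth.Agent.QCart Groth.Agent.EtFound Groth.Agent.EtFound.CechInjGen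

namespace Groth.Agent.AlgSpQC10

variable {C : Type u₁} [Category.{v₁} C] [LocallySmall.{w} C] [HasPullbacks C] {J : GrothendieckTopology C}
  {O : Cᵒᵖ ⥤ CommRingCat.{w}} {b : AffBasis J O}
  [HasSheafify J AddCommGrpCat.{w}] [J.HasSheafCompose (CategoryTheory.forget AddCommGrpCat.{w})]
  [J.WEqualsLocallyBijective AddCommGrpCat.{w}]

section

variable {E : C} [HasFiniteProducts (Over E)] {ι : Type w} (Uf : ι → Over E)

/-- The map of Čech cochains induced by a map of presheaves. -/
noncomputable def mapC {P Q : Cᵒᵖ ⥤ AddCommGrpCat.{w}} (φ : P ⟶ Q) (n : ℕ) :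
    (EtCech.cechComplex Uf P).X n →+ (EtCech.cechComplex Uf Q).X n :=
  (((cechComplexFunctor Uf).map (Functor.whiskerLeft (Over.forget E).op φ)).f n).hom

theorem cev_mapC {P Q : Cᵒᵖ ⥤ AddCommGrpCat.{w}} (φ : P ⟶ Q) (n : ℕ) (i : Fin (n + 1) → ι)
    (x : (EtCech.cechComplex Uf P).X n) :
    cev Uf Q n i (mapC Uf φ n x) = (φ.app _).hom (cev Uf P n i x) :=
  CechSurjGen.cev_map φ n i x

theorem mapC_d {P Q : Cᵒᵖ ⥤ AddCommGrpCat.{w}} (φ : P ⟶ Q) (n : ℕ)
    (x : (EtCech.cechComplex Uf P).X n) :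
    mapC Uf φ (n + 1) (((EtCech.cechComplex Uf P).d n (n + 1)).hom x) =
      ((EtCech.cechComplex Uf Q).d n (n + 1)).hom (mapC Uf φ n x) :=
  (ConcreteCategory.congr_hom
    (((cechComplexFunctor Uf).map (Functor.whiskerLeft (Over.forget E).op φ)).comm n (n + 1)) x).symm

/-- The zero cochain of a section. -/
theorem exists_constCochain (P : Cᵒᵖ ⥤ AddCommGrpCat.{w}) (s : P.obj (op E)) :
    ∃ z : (EtCech.cechComplex Uf P).X 0, (∀ i, cev Uf P 0 i z = (P.map (∏ᶜ fun k => Uf (i k)).hom.op).hom s) ∧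
      ((EtCech.cechComplex Uf P).d 0 1).hom z = 0 := by
  obtain ⟨z, hz⟩ := exists_cev Uf P (n := 0) fun i => (P.map (∏ᶜ fun k => Uf (i k)).hom.op).hom s
  refine ⟨z, hz, cev_ext Uf P fun i => ?_⟩
  rw [cev_d, map_zero, Fin.sum_univ_two, hz, hz]
  have e : ∀ j : Fin 2, (P.map (tmap Uf i j).left.op).hom
      ((P.map (∏ᶜ fun k => Uf ((i ∘ j.succAbove) k)).hom.op).hom s) =
        (P.map (∏ᶜ fun k => Uf (i k)).hom.op).hom s := fun j => by
    refine (ConcreteCategory.congr_hom (P.map_comp _ _) s).symm.trans ?_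
    exact congrArg (fun m => (P.map m.op).hom s) (Over.w (tmap Uf i j))
  rw [e, e]
  simp

end

variable (F : ℕ → Sheaf J AddCommGrpCat.{w}) (t : ∀ m, F (m + 1) ⟶ F m) (L : Sheaf J AddCommGrpCat.{w})
  (π : ∀ m, L ⟶ F m)

include t in
/-- Cocycles lift along a surjection of Čech acyclic sheaves. -/
theorem exists_lift_cocycle (hiso : ∀ {W W' : C}, (W ≅ W') → b.aff W' → b.aff W)
    (hF : ∀ m, IsCechAcyclic b (F m))
    (hsurj : ∀ m W, b.aff W → Function.Surjective ((t m).hom.app (op W)).hom)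
    {E : C} [HasFiniteProducts (Over E)] (hE : b.aff E) (c : Cover J O b.aff E) (m n : ℕ)
    (z : (EtCech.cechComplex (cFam c) (F m).obj).X n)
    (hz : ((EtCech.cechComplex (cFam c) (F m).obj).d n (n + 1)).hom z = 0) :
    ∃ z' : (EtCech.cechComplex (cFam c) (F (m + 1)).obj).X n,
      ((EtCech.cechComplex (cFam c) (F (m + 1)).obj).d n (n + 1)).hom z' = 0 ∧
        mapC (cFam c) (t m).hom n z' = z := by
  have haff : ∀ {q : ℕ} (i : Fin (q + 1) → ULift.{w} (Fin c.n)),
      b.aff (∏ᶜ fun k => cFam c (i k)).left :=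
    fun {q} i => aff_prodOver hE hiso q (fun k => cFam c (i k)) fun k => c.aff_Z _
  match n with
  | 0 =>
    let Uf := cFam c
    let val : ∀ (T : C) (a : Lift Uf T), (F m).obj.obj (op T) := fun T a =>
      toFn z T ⟨fun _ => a, fun _ => rfl⟩
    have hcoc : ∀ (T : C) (a a' : Lift Uf T), a.base = a'.base → val T a = val T a' := fun T a a' h => by
      let p : Tup Uf 1 T := ⟨Fin.cons a (fun _ => a'), fun k => by
        induction k using Fin.cases with
        | zero => rfl
        | succ i => rw [Fin.cons_succ, Fin.cons_zero, h]⟩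
      have h0 := toFn_d z T p
      rw [Fin.sum_univ_two] at h0
      have h1 : toFn (((EtCech.cechComplex Uf (F m).obj).d 0 1).hom z) T p = 0 := by
        show ((F m).obj.map _).hom (cev Uf _ 1 _ _) = 0
        rw [hz, map_zero, map_zero]
      rw [h1] at h0
      simp only [Fin.val_zero, pow_zero, one_zsmul, Fin.val_one, pow_one, neg_one_zsmul] at h0
      have e0 : p.face 0 = ⟨fun _ => a', fun _ => rfl⟩ := Subtype.ext (funext fun k => by
        rw [Subsingleton.elim (α := Fin 1) k 0]; rfl)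
      have e1 : p.face 1 = ⟨fun _ => a, fun _ => rfl⟩ := Subtype.ext (funext fun k => by
        rw [Subsingleton.elim (α := Fin 1) k 0]; rfl)
      rw [e0, e1, ← sub_eq_add_neg, eq_comm, sub_eq_zero] at h0
      exact h0.symm
    have hres : ∀ {T T' : C} (f : T' ⟶ T) (a : Lift Uf T), val T' (a.res f) = ((F m).obj.map f.op).hom (val T a) :=
      fun {T T'} f a => toFn_res z f ⟨fun _ => a, fun _ => rfl⟩
    have hsh : Presieve.IsSheafFor ((F m).obj ⋙ CategoryTheory.forget AddCommGrpCat.{w})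
        (Presieve.ofArrows (fun i => (Uf i).left) fun i => (Uf i).hom) := by
      rw [Presieve.isSheafFor_iff_generate]
      refine (isSheaf_iff_isSheaf_of_type J _).1
        (GrothendieckTopology.HasSheafCompose.isSheaf (F m).obj (F m).property) _ (J.superset_covering ?_ c.mem)
      refine (Sieve.generate_le_iff _ _).2 ?_
      rintro Y f ⟨i⟩
      exact Sieve.le_generate _ _ _ (Presieve.ofArrows.mk (ULift.up i : ULift.{w} (Fin c.n)))
    rw [Presieve.isSheafFor_arrows_iff] at hsh
    obtain ⟨s, hs, -⟩ := hsh (fun i => val (Uf i).left (Lift.mk' i (𝟙 _))) fun i j T gi gj hg => by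
      show ((F m).obj.map gi.op).hom _ = ((F m).obj.map gj.op).hom _
      rw [← hres, ← hres]
      refine hcoc T _ _ ?_
      rw [Lift.base_res, Lift.base_res]
      show gi ≫ (Lift.mk' (Uf := Uf) i (𝟙 _)).hom ≫ _ = gj ≫ (Lift.mk' (Uf := Uf) j (𝟙 _)).hom ≫ _
      rw [Lift.hom_mk', Lift.hom_mk']
      rw [Category.id_comp, Category.id_comp]
      exact hg
    obtain ⟨s', hs'⟩ := hsurj m E hE s
    obtain ⟨z', hz', hdz'⟩ := exists_constCochain Uf (F (m + 1)).obj s'
    refine ⟨z', hdz', cev_ext _ _ fun i => ?_⟩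
    rw [cev_mapC, hz']
    refine (ConcreteCategory.congr_hom ((t m).hom.naturality _) s').trans ?_
    refine (congrArg ((F m).obj.map _).hom hs').trans ?_
    let pr : (∏ᶜ fun k => Uf (i k)).left ⟶ (Uf (i 0)).left := (Pi.π (fun k => Uf (i k)) 0).left
    have e1 : ((F m).obj.map (∏ᶜ fun k => Uf (i k)).hom.op).hom s =
        ((F m).obj.map pr.op).hom (val (Uf (i 0)).left (Lift.mk' (i 0) (𝟙 _))) := by
      rw [← show ((F m).obj.map (Uf (i 0)).hom.op).hom s = val (Uf (i 0)).left (Lift.mk' (i 0) (𝟙 _)) from hs (i 0),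
        ← ConcreteCategory.comp_apply, ← Functor.map_comp, ← op_comp]
      exact congrArg (fun m' => ((F m).obj.map m'.op).hom s) (Over.w (Pi.π (fun k => Uf (i k)) 0)).symm
    rw [e1, ← hres]
    show toFn z _ _ = _
    refine Eq.trans (congrArg (toFn z _) (show (⟨fun _ => Lift.res pr (Lift.mk' (i 0) (𝟙 _)), fun _ => rfl⟩ :
        Tup Uf 0 _) = taut (Uf := Uf) i from Subtype.ext (funext fun k => ?_))) ?_
    · rw [Subsingleton.elim (α := Fin 1) k 0]
      show Lift.mk' (i 0) (pr ≫ (Lift.mk' (Uf := Uf) (i 0) (𝟙 _)).hom) = Lift.mk' (i 0) pr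
      rw [Lift.hom_mk', Category.comp_id]
    · show ((F m).obj.map (taut (Uf := Uf) i).toProd.op).hom _ = _
      rw [toProd_taut]
      exact ConcreteCategory.congr_hom ((F m).obj.map_id _) _
  | q + 1 =>
    have hex := (HomologicalComplex.exactAt_iff_isZero_homology _ _).2 (hF m E hE c q)
    rw [HomologicalComplex.exactAt_iff' _ q (q + 1) (q + 2) (by simp) (by simp),
      ShortComplex.ab_exact_iff] at hex
    obtain ⟨w, rfl⟩ := hex z hz
    choose w' hw' using fun i => hsurj m _ (haff i) (cev (cFam c) (F m).obj q i w)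
    obtain ⟨W, hW⟩ := exists_cev (cFam c) (F (m + 1)).obj (n := q) w'
    refine ⟨((EtCech.cechComplex (cFam c) (F (m + 1)).obj).d q (q + 1)).hom W,
      ConcreteCategory.congr_hom ((EtCech.cechComplex (cFam c) (F (m + 1)).obj).d_comp_d q (q + 1) (q + 2)) W, ?_⟩
    refine (mapC_d (cFam c) (t m).hom q W).trans (congrArg _ (cev_ext _ _ fun i => ?_))
    rw [cev_mapC, hW, hw']

/-- A sequential limit of Čech acyclic sheaves with surjective transition maps on affine objects is
Čech acyclic. -/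
theorem isCechAcyclic_seqLimit (hiso : ∀ {W W' : C}, (W ≅ W') → b.aff W' → b.aff W)
    (hπ : ∀ m, π (m + 1) ≫ t m = π m)
    (hL : ∀ W, b.aff W → ∀ x : ∀ m, (F m).obj.obj (op W), (∀ m, ((t m).hom.app (op W)).hom (x (m + 1)) = x m) →
      ∃! s : L.obj.obj (op W), ∀ m, ((π m).hom.app (op W)).hom s = x m)
    (hF : ∀ m, IsCechAcyclic b (F m))
    (hsurj : ∀ m W, b.aff W → Function.Surjective ((t m).hom.app (op W)).hom) : IsCechAcyclic b L := by
  intro E _ hE c p
  have haff : ∀ {q : ℕ} (i : Fin (q + 1) → ULift.{w} (Fin c.n)),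
      b.aff (∏ᶜ fun k => cFam c (i k)).left :=
    fun {q} i => aff_prodOver hE hiso q (fun k => cFam c (i k)) fun k => c.aff_Z _
  refine (HomologicalComplex.exactAt_iff_isZero_homology _ _).1 ?_
  rw [HomologicalComplex.exactAt_iff' _ p (p + 1) (p + 2) (by simp) (by simp), ShortComplex.ab_exact_iff]
  intro (x : (EtCech.cechComplex (cFam c) L.obj).X (p + 1))
    (hx : ((EtCech.cechComplex (cFam c) L.obj).d (p + 1) (p + 2)).hom x = 0)
  let xm : ∀ m, (EtCech.cechComplex (cFam c) (F m).obj).X (p + 1) := fun m => mapC (cFam c) (π m).hom (p + 1) x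
  have hxm : ∀ m, ((EtCech.cechComplex (cFam c) (F m).obj).d (p + 1) (p + 2)).hom (xm m) = 0 := fun m => by
    rw [← mapC_d, hx, map_zero]
  have htx : ∀ m, mapC (cFam c) (t m).hom (p + 1) (xm (m + 1)) = xm m := fun m => cev_ext _ _ fun i => by
    rw [cev_mapC, cev_mapC, cev_mapC, ← hπ m]
    rfl
  have hbase : ∀ m, ∃ y : (EtCech.cechComplex (cFam c) (F m).obj).X p,
      ((EtCech.cechComplex (cFam c) (F m).obj).d p (p + 1)).hom y = xm m := fun m => by
    have hex := (HomologicalComplex.exactAt_iff_isZero_homology _ _).2 (hF m E hE c p)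
    rw [HomologicalComplex.exactAt_iff' _ p (p + 1) (p + 2) (by simp) (by simp),
      ShortComplex.ab_exact_iff] at hex
    exact hex (xm m) (hxm m)
  have step : ∀ m (y : { y : (EtCech.cechComplex (cFam c) (F m).obj).X p //
      ((EtCech.cechComplex (cFam c) (F m).obj).d p (p + 1)).hom y = xm m }),
      ∃ y' : { y : (EtCech.cechComplex (cFam c) (F (m + 1)).obj).X p //
        ((EtCech.cechComplex (cFam c) (F (m + 1)).obj).d p (p + 1)).hom y = xm (m + 1) },
        mapC (cFam c) (t m).hom p y'.1 = y.1 := fun m y => by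
    obtain ⟨y₁, hy₁⟩ := hbase (m + 1)
    obtain ⟨z', hz', hz''⟩ := exists_lift_cocycle F t hiso hF hsurj hE c m p
      (y.1 - mapC (cFam c) (t m).hom p y₁) (by rw [map_sub, ← mapC_d, hy₁, htx, y.2, sub_self])
    exact ⟨⟨y₁ + z', by rw [map_add, hy₁, hz', add_zero]⟩, by rw [map_add, hz'', add_sub_cancel]⟩
  choose next hnext using step
  let ys : ∀ m, { y : (EtCech.cechComplex (cFam c) (F m).obj).X p //
      ((EtCech.cechComplex (cFam c) (F m).obj).d p (p + 1)).hom y = xm m } := fun m =>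
    Nat.rec ⟨_, (hbase 0).choose_spec⟩ (fun m y => next m y) m
  choose Y hY using fun i : Fin (p + 1) → ULift.{w} (Fin c.n) => (hL _ (haff i)
    (fun m => cev (cFam c) (F m).obj p i (ys m).1) (fun m => by
      rw [← cev_mapC, show mapC (cFam c) (t m).hom p (ys (m + 1)).1 = (ys m).1 from hnext m (ys m)])).exists
  obtain ⟨y, hy⟩ := exists_cev (cFam c) L.obj (n := p) Y
  have hym : ∀ m, mapC (cFam c) (π m).hom p y = (ys m).1 := fun m => cev_ext _ _ fun i => by
    rw [cev_mapC, hy, hY i m]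
  refine ⟨y, cev_ext _ _ fun i => ?_⟩
  refine (hL _ (haff i) (fun m => cev (cFam c) (F m).obj (p + 1) i (xm m)) (fun m => by
    rw [← cev_mapC, htx])).unique (fun m => ?_) (fun m => (cev_mapC (cFam c) (π m).hom (p + 1) i x).symm)
  refine (cev_mapC (cFam c) (π m).hom (p + 1) i _).symm.trans ?_
  refine congrArg (cev (cFam c) (F m).obj (p + 1) i) ?_
  exact (mapC_d (cFam c) (π m).hom p y).trans ((congrArg _ (hym m)).trans (ys m).2)

end Groth.Agent.AlgSpQC10
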