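import Groth.Agent.AlgSpQC10.PiExact
import Mathlib.CategoryTheory.Functor.OfSequence

/-!
# The short exact sequence of a tower of modules
-/

universe u

set_option autoImplicit false
set_option linter.style.haveILetI false
set_option linter.unusedSectionVars false
set_option backward.isDefEq.respectTransparency false
set_option backward.isDefEq.respectTransparency.types false

open CategoryTheory CategoryTheory.Limits Opposite Groth.Agent.QCart

namespace Groth.Agent.AlgSpQC10

section Cone

variable {A : Type*} [Category A] (M : ℕ → A) (t : ∀ n, M (n + 1) ⟶ M n)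

/-- The projection of a cone over a tower. -/
def coneπ (c : Cone (Functor.ofOpSequence t)) (n : ℕ) : c.pt ⟶ M n := c.π.app (op n)

theorem map_succ_cone (c : Cone (Functor.ofOpSequence t)) (n : ℕ) :
    coneπ M t c (n + 1) ≫ t n = coneπ M t c n := by
  show c.π.app (op (n + 1)) ≫ t n = c.π.app (op n)
  rw [← c.w (homOfLE n.le_succ).op, Functor.ofOpSequence_map_homOfLE_succ]

/-- The cone of a compatible family over a tower. -/
def seqCone {K : A} (k : ∀ n, K ⟶ M n) (h : ∀ n, k (n + 1) ≫ t n = k n) : Cone (Functor.ofOpSequence t) where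
  pt := K
  π := NatTrans.ofOpSequence k fun n => by
    rw [Functor.ofOpSequence_map_homOfLE_succ]
    exact (Category.id_comp _).trans (h n).symm

end Cone

section Triangle

open Pretriangulated

variable {A : Type*} [Category A] [Abelian A] [HasDerivedCategory A] (M : ℕ → A) (t : ∀ n, M (n + 1) ⟶ M n)
  [HasProduct M] [HasProduct fun n => (DerivedCategory.singleFunctor A 0).obj (M n)]

/-- If the product is preserved, a short exact sequence of a tower gives a derived limit triangle. -/
theorem distinguished_of_seq {K : A} (p : ∀ n, K ⟶ M n)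
    (w : Pi.lift p ≫ Pi.lift (fun n => Pi.π M n - Pi.π M (n + 1) ≫ t n) = 0)
    (hS : (ShortComplex.mk _ _ w).ShortExact)
    (hiso : IsIso (piComparison (DerivedCategory.singleFunctor A 0) M)) :
    ∃ c : (∏ᶜ fun n => (DerivedCategory.singleFunctor A 0).obj (M n)) ⟶
        ((DerivedCategory.singleFunctor A 0).obj K)⟦(1 : ℤ)⟧,
      Triangle.mk (Pi.lift fun n => (DerivedCategory.singleFunctor A 0).map (p n))
        (Pi.lift fun n => Pi.π (fun n => (DerivedCategory.singleFunctor A 0).obj (M n)) n -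
          Pi.π (fun n => (DerivedCategory.singleFunctor A 0).obj (M n)) (n + 1) ≫
            (DerivedCategory.singleFunctor A 0).map (t n))
        c ∈ distinguishedTriangles := by
  let F := DerivedCategory.singleFunctor A 0
  let Φ : F.obj (∏ᶜ M) ≅ ∏ᶜ fun n => F.obj (M n) := @asIso _ _ _ _ (piComparison F M) hiso
  have hπ : ∀ n, Φ.hom ≫ Pi.π (fun n => F.obj (M n)) n = F.map (Pi.π M n) := fun n => piComparison_comp_π F M n
  refine ⟨Φ.inv ≫ hS.singleδ, isomorphic_distinguished _ hS.singleTriangle_distinguished _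
    (Triangle.isoMk hS.singleTriangle (Triangle.mk (Pi.lift fun n => F.map (p n))
      (Pi.lift fun n => Pi.π (fun n => F.obj (M n)) n - Pi.π (fun n => F.obj (M n)) (n + 1) ≫ F.map (t n))
      (Φ.inv ≫ hS.singleδ)) (Iso.refl _) Φ Φ ?_ ?_ ?_).symm⟩
  · refine Pi.hom_ext _ _ fun n => ?_
    show (F.map (Pi.lift p) ≫ Φ.hom) ≫ Pi.π (fun n => F.obj (M n)) n =
      (𝟙 (F.obj K) ≫ Pi.lift fun n => F.map (p n)) ≫ Pi.π (fun n => F.obj (M n)) n
    rw [Category.assoc, hπ, ← F.map_comp, Category.id_comp, Pi.lift_π, Pi.lift_π]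
  · refine Pi.hom_ext _ _ fun n => ?_
    show (F.map (Pi.lift fun n => Pi.π M n - Pi.π M (n + 1) ≫ t n) ≫ Φ.hom) ≫ Pi.π (fun n => F.obj (M n)) n =
      (Φ.hom ≫ Pi.lift fun n => Pi.π (fun n => F.obj (M n)) n - Pi.π (fun n => F.obj (M n)) (n + 1) ≫ F.map (t n)) ≫
        Pi.π (fun n => F.obj (M n)) n
    rw [Category.assoc, hπ, ← F.map_comp, Category.assoc, Pi.lift_π, Pi.lift_π, Preadditive.comp_sub, hπ,
      ← Category.assoc, hπ, ← F.map_comp, ← F.map_sub]
  · show hS.singleδ ≫ (𝟙 (F.obj K))⟦(1 : ℤ)⟧' = Φ.hom ≫ Φ.inv ≫ hS.singleδ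
    rw [CategoryTheory.Functor.map_id, Category.comp_id, Iso.hom_inv_id_assoc]

end Triangle

variable {C : Type (u + 1)} [Category.{u} C] [HasPullbacks C] {J : GrothendieckTopology C}
  [HasSheafify J AddCommGrpCat.{u + 1}] [J.WEqualsLocallyBijective AddCommGrpCat.{u + 1}]
  [J.HasSheafCompose (CategoryTheory.forget AddCommGrpCat.{u + 1})]
  [J.HasSheafCompose (forget₂ CommRingCat.{u + 1} RingCat.{u + 1})]
  {R : Sheaf J CommRingCat.{u + 1}} (b : AffBasis J R.obj)
  [HasLimitsOfShape (Discrete ℕ) (SheafOfModules.{u + 1} (RS R))]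
  (M : ℕ → SheafOfModules.{u + 1} (RS R)) (t : ∀ n, M (n + 1) ⟶ M n) (c : Cone (Functor.ofOpSequence t))

/-- The sequence of a cone over a tower: the point, the product, identity minus transition. -/
noncomputable abbrev seqShort : ShortComplex (SheafOfModules.{u + 1} (RS R)) :=
  ShortComplex.mk (Pi.lift (f := M) fun n => coneπ M t c n)
    (Pi.lift fun n => Pi.π M n - Pi.π M (n + 1) ≫ t n) (Pi.hom_ext _ _ fun n => by
      rw [Category.assoc, Pi.lift_π, Preadditive.comp_sub, Pi.lift_π_assoc, Pi.lift_π, map_succ_cone, sub_self,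
        zero_comp])

/-- A tower with transition maps surjective on affine objects gives a short exact sequence. -/
theorem shortExact_seqShort (hc : IsLimit c)
    (ht : ∀ (n : ℕ) (W : C), b.aff W → ∀ φ : shRep R W ⟶ M n, ∃ ψ : shRep R W ⟶ M (n + 1), ψ ≫ t n = φ) :
    (seqShort M t c).ShortExact := by
  have hker : IsLimit (KernelFork.ofι (seqShort M t c).f (seqShort M t c).zero) := by
    have hw : ∀ {K : SheafOfModules.{u + 1} (RS R)} (k : K ⟶ ∏ᶜ M), k ≫ (seqShort M t c).g = 0 →
        ∀ n, (k ≫ Pi.π M (n + 1)) ≫ t n = k ≫ Pi.π M n := fun k hk n => by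
      have := congrArg (· ≫ Pi.π M n) hk
      dsimp only at this
      rw [Category.assoc, Pi.lift_π, zero_comp, Preadditive.comp_sub, sub_eq_zero] at this
      rw [Category.assoc]
      exact this.symm
    refine KernelFork.IsLimit.ofι _ _ (fun k hk => hc.lift (seqCone M t (fun n => k ≫ Pi.π M n) (hw k hk)))
      (fun k hk => Pi.hom_ext _ _ fun n => ?_) (fun k hk m hm => hc.hom_ext fun j => ?_)
    · rw [Category.assoc, Pi.lift_π]
      exact hc.fac _ (op n)
    · subst hm
      rw [hc.fac]
      show m ≫ coneπ M t c j.unop = (m ≫ Pi.lift _) ≫ Pi.π M j.unop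
      rw [Category.assoc, Pi.lift_π]
  haveI : Mono (seqShort M t c).f := mono_of_isLimit_fork hker
  haveI : Epi (seqShort M t c).g := epi_of_lift_shRep (b := b) _ fun W hW φ => by
    choose L hL using fun n => ht n W hW
    let ψ : ∀ n, shRep R W ⟶ M n := fun n => Nat.rec 0 (fun k p => L k (p - φ ≫ Pi.π M k)) n
    refine ⟨Pi.lift ψ, Pi.hom_ext _ _ fun n => ?_⟩
    rw [Category.assoc, Pi.lift_π, Preadditive.comp_sub, Pi.lift_π, Pi.lift_π_assoc,
      show ψ (n + 1) ≫ t n = ψ n - φ ≫ Pi.π M n from hL n _, sub_sub_cancel]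
  exact { exact := ShortComplex.exact_of_f_is_kernel _ hker }

end Groth.Agent.AlgSpQC10
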