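import Groth.Agent.AlgSpQC10.StalkFin
import Groth.Agent.AlgSpLib.CartierPoints
import Groth.Agent.AlgSpLib.CartierAvoid
import Groth.Agent.QCart.EtTorsion

/-!
# Supports of quasi-coherent modules on the small etale site
-/

universe u

set_option autoImplicit false
set_option linter.style.haveILetI false
set_option linter.unusedSectionVars false
set_option backward.isDefEq.respectTransparency false
set_option backward.isDefEq.respectTransparency.types false

open CategoryTheory CategoryTheory.Limits AlgebraicGeometry Opposite TensorProduct AlgSp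
open Groth.Agent.AlgSpDec Groth.Agent.AlgSpDec.EtStalkElts

namespace Groth.Agent.AlgSpQC10

variable {S : Scheme.{u}} {X : Sp S}

theorem sectModEt_smul_eq (M : ModEt X) (E : EtOver X) (a : Γ(E.obj.left.left, ⊤)) (s : Msec M E) :
    upΓ E a • (show sectModEt M E from s) = ((ULift.up a : A E) • s) := rfl

theorem mem_annSect_A {M : ModEt X} {E : EtOver X} (a : Γ(E.obj.left.left, ⊤)) (s : Msec M E) :
    a ∈ annSect (show sectModEt M E from s) ↔ (ULift.up a : A E) • s = 0 :=
  mem_annSect_iff (show sectModEt M E from s) a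

theorem mem_zeroLocus_iff {U : Scheme.{u}} (u : U) (I : Ideal Γ(U, ⊤)) :
    u ∈ U.zeroLocus (U := ⊤) (I : Set Γ(U, ⊤)) ↔ I ≤ primeAtPt U u := by
  rw [Scheme.mem_zeroLocus_iff]
  constructor
  · intro h a ha
    show U.presheaf.germ ⊤ u trivial a ∈ IsLocalRing.maximalIdeal _
    by_contra h'
    exact h a ha ((Scheme.mem_basicOpen U a u trivial).2 (IsLocalRing.notMem_maximalIdeal.1 h'))
  · intro h a ha hu
    exact IsLocalRing.notMem_maximalIdeal.2 ((Scheme.mem_basicOpen U a u trivial).1 hu) (h ha)

variable {p : FieldPt X}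

/-- The prime of functions at the base point of a neighbourhood. -/
noncomputable abbrev basePrime (N : EtNbhd p) : Ideal Γ(N.1.obj.left.left, ⊤) :=
  primeAtPt N.1.obj.left.left (base p N)

variable (hX : IsAlgSpace X) (hp : p.IsGeometric)
include hX hp

/-- The germ of a section on an affine neighbourhood vanishes iff its annihilator avoids the point. -/
theorem gm_eq_zero_iff_ann (M : ModEt X) [M.IsQuasicoherent] (N : EtNbhd p)
    [hN : IsAffine N.1.obj.left.left] (s : Msec M N.1) :
    gm M N s = 0 ↔ ¬ annSect (show sectModEt M N.1 from s) ≤ basePrime N := by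
  constructor
  · intro h hle
    obtain ⟨N₁, g₁, h₁⟩ := (gm_eq_zero_iff hX hp M N s).1 h
    obtain ⟨N₂, g₂, hN₂⟩ := exists_aff_to N₁
    let g := g₂ ≫ g₁
    have h2 : rs M g.val s = 0 := by
      show rs M (g₂.val ≫ g₁.val) s = 0
      rw [← rs_rs, h₁, map_zero]
    haveI := QCart.algebraMap_flat X hN hN₂ g.val
    let q : Ideal (QCart.Rg (OEt X).obj g.val) := pt N₂.1 (base p N₂)
    haveI : q.IsPrime := (inferInstance : (pt N₂.1 (base p N₂)).IsPrime)
    refine QCart.tmul_ne_zero_of_prime (A := A N.1) (B := QCart.Rg (OEt X).obj g.val) (x := s) q ?_ ?_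
    · intro a ha
      show a ∈ (pt N₂.1 (base p N₂)).comap ((OEt X).obj.map g.val.op).hom
      rw [comap_pt, show g.val.hom.left.left (base p N₂) = base p N from EtStalkHenz.base_map g]
      exact hle ((mem_annSect_A a.down s).2 ha)
    · refine (isCart M hN hN₂ g.val).1 ?_
      rw [map_zero, QCart.bcMap_tmul, one_smul, QCart.res_apply]
      exact h2
  · intro h
    obtain ⟨a, ha, hau⟩ := SetLike.not_le_iff_exists.1 h
    have hu : base p N ∈ N.1.obj.left.left.basicOpen a :=
      (Scheme.mem_basicOpen _ a _ trivial).2 (IsLocalRing.notMem_maximalIdeal.1 hau)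
    obtain ⟨W, hW, huW, hWle⟩ := exists_isAffineOpen_mem_and_subset hu
    obtain ⟨N', g, e, he⟩ := exists_open p N W huW
    haveI : IsAffine W.toScheme := hW
    haveI : IsAffine N'.1.obj.left.left := IsAffine.of_isIso e.hom
    have hunit : IsUnit (g.val.hom.left.left.appTop.hom a) := by
      by_contra hc
      obtain ⟨m, hm, hle⟩ := Ideal.exists_le_maximal (Ideal.span {g.val.hom.left.left.appTop.hom a})
        (Ideal.span_singleton_eq_top.not.2 hc)
      haveI := hm.isPrime
      obtain ⟨w, rfl⟩ := AlgSpLib.Cartier.exists_primeAtPt_eq m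
      have h1 : a ∈ (primeAtPt _ w).comap g.val.hom.left.left.appTop.hom :=
        hle (Ideal.subset_span rfl)
      rw [comap_primeAtPt] at h1
      refine IsLocalRing.notMem_maximalIdeal.2 ((Scheme.mem_basicOpen _ a _ trivial).1 (hWle ?_)) h1
      rw [← he]
      exact (e.hom w).2
    refine (gm_eq_zero_iff hX hp M N s).2 ⟨N', g, ?_⟩
    have hsmul : (ULift.up (g.val.hom.left.left.appTop.hom a) : A N'.1) • rs M g.val s = 0 := by
      refine Eq.trans (QCart.sres_smul (QCart.psh (R := OEt X) M) g.val (ULift.up a) s).symm ?_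
      rw [(mem_annSect_A a s).1 ha, map_zero]
    exact ((hunit.map (ULift.ringEquiv.{u, u + 1} (R := Γ(N'.1.obj.left.left, ⊤))).symm).smul_eq_zero).1 hsmul

/-- A stalk vanishes as soon as the germs of the sections on one affine neighbourhood vanish. -/
theorem stalk_eq_zero_of_nbhd (M : ModEt X) [M.IsQuasicoherent] (N : EtNbhd p)
    [hN : IsAffine N.1.obj.left.left] (h : ∀ s : Msec M N.1, gm M N s = 0)
    (z : ↥(stalkEt p ((toAbEt X).obj M))) : z = 0 := by
  obtain ⟨N₁, σ, rfl⟩ := exists_gm hX hp M z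
  obtain ⟨N', a, b, hN'⟩ := exists_aff_under hX hp N N₁
  rw [← gm_rs M b σ]
  obtain ⟨w, hw⟩ := (isCart M hN hN' a.val).2 (QCart.toSec a.val (QCart.psh (R := OEt X) M) (rs M b.val σ))
  suffices hk : ∀ w, gm M N' (show Msec M N'.1 from QCart.bcMap a.val (QCart.psh (R := OEt X) M) w) = 0 from
    (congrArg (gm M N') hw).symm.trans (hk w)
  intro w
  induction w using TensorProduct.induction_on with
  | zero => simp only [map_zero]
  | add x y hx hy =>
    rw [map_add]
    exact (map_add (gm M N') _ _).trans (by rw [hx, hy, add_zero])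
  | tmul c x =>
    rw [QCart.bcMap_tmul]
    have h0 : gm M N' (rs M a.val x) = 0 := by rw [gm_rs, h x]
    obtain ⟨N'', k, hk⟩ := (gm_eq_zero_iff hX hp M N' _).1 h0
    refine (gm_eq_zero_iff hX hp M N' _).2 ⟨N'', k, ?_⟩
    show QCart.sres _ k.val ((show A N'.1 from c) • rs M a.val x) = 0
    rw [QCart.sres_smul, show QCart.sres (QCart.psh (R := OEt X) M) k.val (rs M a.val x) = 0 from hk]
    exact smul_zero _

omit hp in
theorem isZero_stalk_of_forall (M : ModEt X)
    (h : ∀ z : ↥(stalkEt p ((toAbEt X).obj M)), z = 0) : IsZero (stalkEt p ((toAbEt X).obj M)) := by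
  rw [AddCommGrpCat.isZero_iff_subsingleton]
  exact subsingleton_of_forall_eq 0 h

omit hp in
theorem eq_zero_of_isZero_stalk {M : ModEt X} (h : IsZero (stalkEt p ((toAbEt X).obj M)))
    (z : ↥(stalkEt p ((toAbEt X).obj M))) : z = 0 :=
  haveI := AddCommGrpCat.subsingleton_of_isZero h
  Subsingleton.elim _ _

omit hp

/-- A section vanishes if its germs at all geometric points do. -/
theorem eq_zero_of_gm (M : ModEt X) {E : EtOver X} (s : Msec M E)
    (h : ∀ q : FieldPt X, q.IsGeometric → ∀ l : (FieldPt.liftsTo q).obj E, gm M ⟨E, l⟩ s = 0) : s = 0 := by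
  let T : Sieve E :=
    { arrows := fun Y f => rs M f s = 0
      downward_closed := fun {Y Z} f hf g => by
        show rs M (g ≫ f) s = 0
        rw [← rs_rs, hf, map_zero] }
  suffices hT : T ∈ etTop X E from QCart.sres_ext_of_mem M hT s 0 fun W f hf => hf.trans (map_zero _).symm
  refine EtPoint.mem_etTop_of_lifts hX T fun q hq l => ?_
  obtain ⟨N', g, hg⟩ := (gm_eq_zero_iff hX hq M ⟨E, l⟩ s).1 (h q hq l)
  exact ⟨N'.1, g.val, hg, N'.2, g.property⟩

/-- Some geometric point lies over each point of an object of the site. -/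
theorem exists_lift_at (E : EtOver X) (v : E.obj.left.left) :
    ∃ (q : FieldPt X) (_ : q.IsGeometric) (l : (FieldPt.liftsTo q).obj E),
      base q (⟨E, l⟩ : EtNbhd q) = v := by
  obtain ⟨q, hq, hqv⟩ := EtStalkProps.exists_geometric (Points.ofPt E.obj.hom v)
  obtain ⟨l, hl⟩ := EtStalkStrict.exists_nbhd hX hq E.property hqv.symm
  exact ⟨q, hq, l, hl⟩

omit hX

/-- The trace of a closed subspace on an affine object is the zero locus of its ideal. -/
theorem ofPt_mem_range_iff {Z : Sp S} {i : Z ⟶ X} {I : IdealEt X} (hZ : IsCutOutBy I i) (E : EtOver X)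
    [hE : IsAffine E.obj.left.left] (v : E.obj.left.left) :
    Points.ofPt E.obj.hom v ∈ Set.range (Points.map i) ↔ I.ideal E hE ≤ primeAtPt E.obj.left.left v := by
  obtain ⟨hi, hIi⟩ := hZ
  rw [← AlgSpLib.Cartier.range_snd_cutIdeal hi E.obj.hom v, ← mem_zeroLocus_iff,
    ← AlgSpLib.Cartier.cutIdeal_ideal_top hi hIi E hE, ← SetLike.mem_coe]
  have := Scheme.IdealSheafData.coe_support_inter (AlgSpLib.Cartier.cutIdeal hi E.obj.hom) ⟨⊤, isAffineOpen_top _⟩
  simp only [TopologicalSpace.Opens.coe_top, Set.inter_univ] at this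
  rw [this]

end Groth.Agent.AlgSpQC10
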