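import Groth.Agent.AlgSpQC10.Support
import Groth.Agent.AlgSpDM.AffChart

/-!
# A coherent module supported on a closed subspace is killed by a power of the ideal
-/

universe u

set_option autoImplicit false
set_option linter.style.haveILetI false
set_option linter.unusedSectionVars false
set_option backward.isDefEq.respectTransparency false
set_option backward.isDefEq.respectTransparency.types false

open CategoryTheory CategoryTheory.Limits AlgebraicGeometry Opposite TensorProduct AlgSp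
open Groth.Agent.AlgSpDec Groth.Agent.AlgSpDec.EtStalkElts

namespace Groth.Agent.AlgSpQC10

theorem smul_smul_rs_eq_zero {S : Scheme.{u}} {X : Sp S} (M : ModEt X) {E E' : EtOver X} (g : E' ⟶ E) (a : A E)
    (r : A E') (x : Msec M E) (h : a • x = 0) : ((OEt X).obj.map g.op).hom a • r • rs M g x = 0 := by
  rw [← mul_smul, mul_comm, mul_smul, ← QCart.sres_smul, h, map_zero, smul_zero]

variable {S : Scheme.{u}} {X : Sp S} (hX : IsAlgSpace X) {Z : Sp S} {i : Z ⟶ X} {I : IdealEt X}
  (hZ : IsCutOutBy I i) (M : ModEt X) [M.IsQuasicoherent]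

include hX hZ

theorem isZero_stalk_of_pow {n : ℕ}
    (h : ∀ (E : EtOver X) (hE : IsAffine E.obj.left.left) (s : sectModEt M E), (I ^ n).ideal E hE ≤ annSect s)
    (x : FieldPt X) (hx : x.IsGeometric) (hxZ : Points.mk x ∉ Set.range (Points.map i)) :
    IsZero (stalkEt x ((toAbEt X).obj M)) := by
  obtain ⟨N₀⟩ := exists_etNbhd x hX hx
  obtain ⟨N, -, hN⟩ := exists_aff_to N₀
  haveI := hN
  refine isZero_stalk_of_forall hX M (stalk_eq_zero_of_nbhd hX hx M N fun s => ?_)
  refine (gm_eq_zero_iff_ann hX hx M N s).2 fun hle => hxZ ?_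
  rw [← ofPt_base x N, ofPt_mem_range_iff hZ]
  exact Ideal.IsPrime.le_of_pow_le ((h N.1 hN s).trans hle)

theorem exists_pow_le (hqc : IsQuasiCompactSp X) (hN : IsLocNoethSp X) [M.IsFiniteType] (hI : I.IsQCoh)
    (h : ∀ x : FieldPt X, x.IsGeometric → Points.mk x ∉ Set.range (Points.map i) →
      IsZero (stalkEt x ((toAbEt X).obj M))) :
    ∃ n : ℕ, ∀ (E : EtOver X) (hE : IsAffine E.obj.left.left) (s : sectModEt M E),
      (I ^ n).ideal E hE ≤ annSect s := by
  obtain ⟨E₀, hU, hsurj⟩ : ∃ (E₀ : EtOver X) (_ : IsAffine E₀.obj.left.left),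
      Function.Surjective (Points.ofPt E₀.obj.hom) := by
    obtain ⟨U, a, hU, ha, has⟩ := AlgSpDM.exists_affine_chart hqc
    exact ⟨EtOver.mk a ha, hU, AlgSpLib.surjective_ofPt has⟩
  haveI : IsNoetherianRing (A E₀) := isNoetherianRing_A hN E₀
  haveI : IsNoetherianRing Γ(E₀.obj.left.left, ⊤) :=
    isNoetherianRing_of_ringEquiv (A E₀) (ULift.ringEquiv.{u, u + 1} (R := Γ(E₀.obj.left.left, ⊤)))
  obtain ⟨t, ht⟩ := (finite_Msec M E₀).fg_top
  have hs : ∀ s : Msec M E₀, ∃ n, I.ideal E₀ hU ^ n ≤ annSect (show sectModEt M E₀ from s) := fun s => by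
    refine Ideal.exists_pow_le_of_le_radical_of_fg ?_ (IsNoetherian.noetherian _)
    rw [Ideal.radical_eq_sInf]
    refine le_sInf fun P hP => ?_
    haveI := hP.2
    obtain ⟨v, rfl⟩ := AlgSpLib.Cartier.exists_primeAtPt_eq P
    by_contra hv
    obtain ⟨q, hq, l, hl⟩ := exists_lift_at hX E₀ v
    haveI : IsAffine (⟨E₀, l⟩ : EtNbhd q).1.obj.left.left := hU
    refine (gm_eq_zero_iff_ann hX hq M ⟨E₀, l⟩ s).1
      (eq_zero_of_isZero_stalk hX (h q hq fun hm => hv ?_) _) ?_
    · rw [← ofPt_mem_range_iff hZ E₀, ← hl]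
      exact (ofPt_base q (⟨E₀, l⟩ : EtNbhd q)).symm ▸ hm
    · show annSect _ ≤ primeAtPt _ (base q (⟨E₀, l⟩ : EtNbhd q))
      rw [hl]
      exact hP.1
  choose n hn using hs
  refine ⟨t.sup n, fun E hE s c hc => ?_⟩
  haveI := hE
  refine (mem_annSect_A c s).2 (eq_zero_of_gm hX M _ fun q hq l => ?_)
  have hmem : Points.mk q ∈ Set.range (Points.ofPt E₀.obj.hom) := hsurj _
  obtain ⟨l₀, -⟩ := exists_nbhd_over hX hq hmem
  obtain ⟨N', g, g₀, hN'⟩ := exists_aff_under hX hq (⟨E, l⟩ : EtNbhd q) ⟨E₀, l₀⟩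
  haveI := hN'
  rw [← gm_rs M g]
  suffices h0 : ∀ y : Msec M N'.1, (ULift.up (g.val.hom.left.left.appTop.hom c) : A N'.1) • y = 0 by
    refine Eq.trans (congrArg (gm M N') ?_) (map_zero _)
    exact (QCart.sres_smul (QCart.psh (R := OEt X) M) g.val (ULift.up c) s).trans (h0 _)
  intro y
  obtain ⟨w, hw⟩ := (isCart M hU hN' g₀.val).2 (QCart.toSec g₀.val (QCart.psh (R := OEt X) M) y)
  have hc' : g.val.hom.left.left.appTop.hom c ∈
      (I.ideal E₀ hU ^ t.sup n).map g₀.val.hom.left.left.appTop.hom := by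
    rw [Ideal.map_pow]
    refine Ideal.pow_right_mono (hI g₀.val hU hN') _ ?_
    exact ((I ^ t.sup n).map_le g.val hE hN') (Ideal.mem_map_of_mem _ hc)
  revert hc'
  generalize g.val.hom.left.left.appTop.hom c = d
  intro hd
  rw [show y = (show Msec M N'.1 from QCart.bcMap g₀.val (QCart.psh (R := OEt X) M) w) from hw.symm]
  clear hw
  let K : Ideal Γ(N'.1.obj.left.left, ⊤) :=
    annSect (show sectModEt M N'.1 from QCart.bcMap g₀.val (QCart.psh (R := OEt X) M) w)
  refine (mem_annSect_A d _).1 ((show _ ≤ K from ?_) hd)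
  rw [Ideal.map_le_iff_le_comap]
  intro b hb
  rw [Ideal.mem_comap]
  refine (mem_annSect_A _ _).2 ?_
  have hkill : ∀ x : Msec M E₀, (ULift.up b : A E₀) • x = 0 := by
    intro x
    let β : A E₀ := ULift.up b
    show β • x = 0
    have hxs : x ∈ Submodule.span (A E₀) (t : Set (Msec M E₀)) := ht ▸ Submodule.mem_top
    induction hxs using Submodule.span_induction with
    | mem z hz =>
      have h1 : n z ≤ t.sup n := Finset.le_sup (Finset.mem_coe.1 hz)
      have h2 : b ∈ I.ideal E₀ hU ^ n z := Ideal.pow_le_pow_right (I := I.ideal E₀ hU) h1 hb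
      exact (mem_annSect_A b z).1 (hn z h2)
    | zero => exact smul_zero _
    | add x z _ _ hx hz => rw [smul_add, hx, hz, add_zero]
    | smul r x _ hx => rw [smul_comm, hx, smul_zero]
  clear hd
  induction w using TensorProduct.induction_on with
  | zero => simp only [map_zero]; exact smul_zero _
  | add x z hx hz =>
    rw [map_add]
    exact (smul_add _ _ _).trans (by rw [hx, hz, add_zero])
  | tmul r x =>
    rw [QCart.bcMap_tmul]
    exact smul_smul_rs_eq_zero M g₀.val (ULift.up b) r x (hkill x)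

end Groth.Agent.AlgSpQC10
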