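import Groth.Agent.AlgSpQC10.Support
import Groth.Agent.AlgSpQC10.FP

/-!
# Splitting a coherent module along its support
-/

universe u

set_option autoImplicit false
set_option linter.style.haveILetI false
set_option linter.unusedSectionVars false
set_option backward.isDefEq.respectTransparency false
set_option backward.isDefEq.respectTransparency.types false

open CategoryTheory CategoryTheory.Limits AlgebraicGeometry Opposite TensorProduct AlgSp
open Groth.Agent.AlgSpDec Groth.Agent.AlgSpDec.EtStalkElts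

namespace Groth.Agent.AlgSpQC10

variable {S : Scheme.{u}} {X : Sp S} (F : ModEt X) (T : Set (Points X))

theorem gm_map {q : FieldPt X} {E E' : EtOver X} (f : E' ⟶ E) (y : (FieldPt.liftsTo q).obj E') (x : Msec F E) :
    gm F (⟨E', y⟩ : EtNbhd q) (rs F f x) = gm F (⟨E, (FieldPt.liftsTo q).map f y⟩ : EtNbhd q) x :=
  let e₁ : EtNbhd q := ⟨E', y⟩
  let e₂ : EtNbhd q := ⟨E, (FieldPt.liftsTo q).map f y⟩
  gm_rs F (CategoryOfElements.homMk e₁ e₂ f rfl) x

/-- The sections with germs vanishing outside a set of points. -/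
noncomputable def suppData (hX : IsAlgSpace X) : QCart.SubData (R := OEt X) F (QCart.etBasis X) where
  A E _ :=
    { carrier := {s | ∀ (q : FieldPt X), q.IsGeometric → ∀ l : (FieldPt.liftsTo q).obj E,
        Points.mk q ∉ T → gm F ⟨E, l⟩ s = 0}
      add_mem' := fun {x y} hx hy q hq l hT => by rw [map_add, hx q hq l hT, hy q hq l hT, add_zero]
      zero_mem' := fun q _ l _ => map_zero _
      smul_mem' := fun a x hx q hq l hT => by
        obtain ⟨N', g, hg⟩ := (gm_eq_zero_iff hX hq F ⟨E, l⟩ x).1 (hx q hq l hT)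
        refine (gm_eq_zero_iff hX hq F ⟨E, l⟩ _).2 ⟨N', g, ?_⟩
        refine (QCart.sres_smul (QCart.psh (R := OEt X) F) g.val a x).trans ?_
        rw [show QCart.sres (QCart.psh (R := OEt X) F) g.val x = 0 from hg]
        exact smul_zero _ }
  res_mem := fun E E' _ _ g x hx q hq l hT => (gm_map F g l x).trans (hx q hq _ hT)
  local_mem := fun E _ c x hx q hq l hT => by
    obtain ⟨Y, f, hf, y, hy⟩ := EtPoint.jointly_surjective hq _ c.mem l
    obtain ⟨i, k, hk⟩ := (Sieve.mem_ofArrows_iff _ _ _).1 hf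
    have h1 : gm F ⟨Y, y⟩ (rs F k (rs F (c.m i) x)) = 0 :=
      (gm_map F k y _).trans (hx i q hq _ hT)
    rw [rs_rs, ← hk, gm_map F f y x, hy] at h1
    exact h1

variable {F T} (hX : IsAlgSpace X) (hN : IsLocNoethSp X) (hT : IsClosed T) [F.IsQuasicoherent]

include hX hN hT

theorem exists_ideal_closed (E : EtOver X) [IsAffine E.obj.left.left] :
    ∃ J : Ideal Γ(E.obj.left.left, ⊤), J.FG ∧
      ∀ v, J ≤ primeAtPt E.obj.left.left v ↔ Points.ofPt E.obj.hom v ∈ T := by
  haveI : IsLocallyNoetherian E.obj.left.left := AlgSpDec.isLocallyNoetherian_chart E.property hN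
  haveI : IsNoetherian E.obj.left.left := ⟨⟩
  let U : E.obj.left.left.Opens :=
    ⟨(Points.ofPt E.obj.hom ⁻¹' T)ᶜ, (hT.preimage (Points.continuous_ofPt E.obj.hom)).isOpen_compl⟩
  obtain ⟨J, hJ, he⟩ := QCart.exists_fg_zeroLocus_eq U (TopologicalSpace.NoetherianSpace.isCompact _)
  refine ⟨J, hJ, fun v => ?_⟩
  rw [← mem_zeroLocus_iff, he]
  show v ∈ (Points.ofPt E.obj.hom ⁻¹' T)ᶜᶜ ↔ _
  rw [compl_compl]
  exact Iff.rfl

theorem isCart_suppData :
    (QCart.etBasis X).IsCart (QCart.psh (R := OEt X) (suppData F T hX).shf) := by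
  refine QCart.SubData.isCart (suppData F T hX) (isCart F) fun E E' hE hE' g z hz => ?_
  haveI : IsAffine E.obj.left.left := hE
  haveI : IsAffine E'.obj.left.left := hE'
  obtain ⟨J, hJ, hJv⟩ := exists_ideal_closed hX hN hT E
  let y : Msec F E' := QCart.toSec g (QCart.psh (R := OEt X) F) (QCart.bcMap g (QCart.psh (R := OEt X) F) z)
  have hy : ∀ (q : FieldPt X), q.IsGeometric → ∀ l : (FieldPt.liftsTo q).obj E',
      Points.mk q ∉ T → gm F ⟨E', l⟩ y = 0 := hz
  obtain ⟨m, hm⟩ : ∃ m : ℕ,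
      (J.map g.hom.left.left.appTop.hom) ^ m ≤ annSect (show sectModEt F E' from y) := by
    refine Ideal.exists_pow_le_of_le_radical_of_fg ?_ (hJ.map _)
    rw [Ideal.radical_eq_sInf]
    refine le_sInf fun P hP => ?_
    haveI := hP.2
    obtain ⟨v, rfl⟩ := AlgSpLib.Cartier.exists_primeAtPt_eq P
    rw [Ideal.map_le_iff_le_comap, comap_primeAtPt, hJv]
    by_contra hv
    obtain ⟨q, hq, l, hl⟩ := exists_lift_at hX E' v
    haveI : IsAffine (⟨E', l⟩ : EtNbhd q).1.obj.left.left := hE'
    refine (gm_eq_zero_iff_ann hX hq F ⟨E', l⟩ y).1 (hy q hq l fun hqT => hv ?_) ?_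
    · rw [← AlgSpLib.ofPt_comp, EtOver.w g, ← hl]
      exact (ofPt_base q (⟨E', l⟩ : EtNbhd q)).symm ▸ hqT
    · show annSect _ ≤ primeAtPt _ (base q (⟨E', l⟩ : EtNbhd q))
      rw [hl]
      exact hP.1
  refine QCart.mem_range_killed F hE hE' g (isCart F) (hJ.pow (n := m)) ((suppData F T hX).A E hE) ?_ z ?_
  · intro s hs q hq l hqT
    haveI : IsAffine (⟨E, l⟩ : EtNbhd q).1.obj.left.left := hE
    refine (gm_eq_zero_iff_ann hX hq F ⟨E, l⟩ s).2 fun hle => hqT ?_
    rw [← ofPt_base q (⟨E, l⟩ : EtNbhd q), ← hJv]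
    refine Ideal.IsPrime.le_of_pow_le (n := m) (le_trans ?_ hle)
    exact fun a ha => (mem_annSect_A a s).2 (hs a ha)
  · intro a ha
    exact (mem_annSect_A _ y).1 (hm (by rw [← Ideal.map_pow]; exact Ideal.mem_map_of_mem _ ha))

/-- The submodule of sections supported in a closed set, and its properties. -/
theorem exists_supported_sub [F.IsFiniteType] (T' : Set (Points X)) (hT' : IsClosed T')
    (hsupp : ∀ x : FieldPt X, x.IsGeometric → Points.mk x ∉ T ∪ T' →
      IsZero (stalkEt x ((toAbEt X).obj F))) :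
    ∃ (G : ModEt X) (a : G ⟶ F), Mono a ∧ G.IsFinitePresentation ∧
      (cokernel a).IsFinitePresentation ∧
        (∀ x : FieldPt X, x.IsGeometric → Points.mk x ∉ T → IsZero (stalkEt x ((toAbEt X).obj G))) ∧
        (∀ x : FieldPt X, x.IsGeometric → Points.mk x ∉ T' →
          IsZero (stalkEt x ((toAbEt X).obj (cokernel a)))) := by
  let D := suppData F T hX
  let G : ModEt X := D.shf
  let a : G ⟶ F := D.ι
  have hGc : (QCart.etBasis X).IsCart (QCart.psh (R := OEt X) G) := isCart_suppData hX hN hT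
  haveI : G.IsQuasicoherent := (QCart.isQuasicoherent_iff X G).2 hGc
  have hmono : Mono a := inferInstanceAs (Mono D.ι)
  have hinj : ∀ E, Function.Injective (ap a E) := fun E => QCart.injective_app_of_mono (R := OEt X) a E
  have hG : G.IsFinitePresentation := isFinitePresentation_of_finite hN G fun E hE => by
    haveI := hE
    haveI : IsNoetherianRing (A E) := isNoetherianRing_A hN E
    haveI := finite_Msec F E
    exact Module.Finite.of_injective (ap a E) (hinj E)
  have hQ : (QCart.etBasis X).IsCart (QCart.psh (R := OEt X) (cokernel a)) := hGc.cokernel a (isCart F)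
  let C := ShortComplex.mk a (cokernel.π a) (cokernel.condition a)
  have hC : C.ShortExact :=
    { exact := ShortComplex.exact_cokernel a
      mono_f := hmono
      epi_g := inferInstanceAs (Epi (cokernel.π a)) }
  have hπ : ∀ E : EtOver X, IsAffine E.obj.left.left → Function.Surjective (ap (cokernel.π a) E) :=
    fun E hE => (hGc : (QCart.etBasis X).IsCart (QCart.psh (R := OEt X) C.X₁)).surjective_app hC hE
  have hzero : ∀ (E : EtOver X) (t : Msec G E), ap (cokernel.π a) E (ap a E t) = 0 := fun E t =>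
    congrArg (fun k : G ⟶ cokernel a => ap k E t) (cokernel.condition a)
  haveI : (cokernel a).IsQuasicoherent := (QCart.isQuasicoherent_iff X _).2 hQ
  refine ⟨G, a, hmono, hG, ?_, ?_, ?_⟩
  · refine isFinitePresentation_of_finite hN _ fun E hE => ?_
    haveI := hE
    haveI := finite_Msec F E
    exact Module.Finite.of_surjective (ap (cokernel.π a) E) (hπ E hE)
  · intro x hx hxT
    refine isZero_stalk_of_forall hX G fun z => ?_
    obtain ⟨N₁, σ, rfl⟩ := exists_gm hX hx G z
    obtain ⟨N, g, hN'⟩ := exists_aff_to N₁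
    rw [← gm_rs G g σ]
    have h0 : gm F N (ap a N.1 (rs G g.val σ)) = 0 :=
      (D.mem_sec_iff hN' _).1 (rs G g.val σ).2 x hx N.2 hxT
    obtain ⟨N', k, hk⟩ := (gm_eq_zero_iff hX hx F N _).1 h0
    rw [← ap_rs, ← map_zero (ap a N'.1)] at hk
    exact (gm_eq_zero_iff hX hx G N _).2 ⟨N', k, hinj _ hk⟩
  · intro x hx hxT
    refine isZero_stalk_of_forall hX _ fun z => ?_
    obtain ⟨N₁, σ, rfl⟩ := exists_gm hX hx (cokernel a) z
    let W : N₁.1.obj.left.left.Opens :=
      ⟨(Points.ofPt N₁.1.obj.hom ⁻¹' T')ᶜ, (hT'.preimage (Points.continuous_ofPt _)).isOpen_compl⟩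
    have hW : base x N₁ ∈ W := fun h => hxT (by rw [← ofPt_base x N₁]; exact h)
    obtain ⟨N₂, g₁, e, he⟩ := exists_open x N₁ W hW
    obtain ⟨N, g₂, hN'⟩ := exists_aff_to N₂
    obtain ⟨s, hs⟩ := hπ N.1 hN' (rs (cokernel a) g₂.val (rs (cokernel a) g₁.val σ))
    refine ((gm_rs (cokernel a) g₂ (rs (cokernel a) g₁.val σ)).trans (gm_rs (cokernel a) g₁ σ)).symm.trans ?_
    refine (congrArg (gm (cokernel a) N) hs.symm).trans ?_
    have hmem : s ∈ D.A N.1 hN' := by
      intro q hq l hqT
      refine eq_zero_of_isZero_stalk hX (hsupp q hq ?_) _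
      rintro (h | h)
      · exact hqT h
      · let v := base q (⟨N.1, l⟩ : EtNbhd q)
        have hv : g₁.val.hom.left.left (g₂.val.hom.left.left v) ∈ W := by
          rw [← he]
          exact (e.hom _).2
        refine hv ?_
        show Points.ofPt N₁.1.obj.hom _ ∈ T'
        rw [← AlgSpLib.ofPt_comp, EtOver.w, ← AlgSpLib.ofPt_comp, EtOver.w]
        exact (ofPt_base q (⟨N.1, l⟩ : EtNbhd q)).symm ▸ h
    obtain ⟨t, ht⟩ : ∃ t, ap a N.1 t = s := (D.range_ι hN').ge hmem
    have h0 : ap (cokernel.π a) N.1 s = 0 := (congrArg (ap (cokernel.π a) N.1) ht.symm).trans (hzero N.1 t)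
    exact (congrArg (gm (cokernel a) N) h0).trans (map_zero _)

end Groth.Agent.AlgSpQC10
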