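import Groth.Agent.AlgSpQC10.PullSec
import Groth.Agent.AlgSpQC10.Push

/-!
# Weakly associated points of pullbacks along finite flat morphisms
-/

universe u

set_option autoImplicit false
set_option linter.style.haveILetI false
set_option backward.isDefEq.respectTransparency false
set_option backward.isDefEq.respectTransparency.types false

open CategoryTheory CategoryTheory.Limits AlgebraicGeometry Opposite TensorProduct AlgSp

namespace Groth.Agent.AlgSpQC10

variable {S : Scheme.{u}} {X Y : Sp S} {f : X ⟶ Y} (hf : Representable f)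

theorem flat_finite_φ (hfin : IsFiniteMor f) (hflat : LocP @Flat f) (E : EtOver Y) [hE : IsAffine E.obj.left.left] :
    letI : Algebra (A E) (A (EtOver.bcObj hf E)) := (φ hf E).hom.toAlgebra
    Module.Finite (A E) (A (EtOver.bcObj hf E)) ∧ Module.Flat (A E) (A (EtOver.bcObj hf E)) := by
  obtain ⟨hW, hπ⟩ := isFinite_bcπ hf hfin E
  have hfl : Flat (EtOver.bcπ hf E).left :=
    hflat (EtOver.bcObj hf E).obj.hom E.obj.hom (EtOver.bcπ hf E) (EtOver.bcObj hf E).property E.property
      (EtOver.isPullback_bcObj hf E).w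
  have h0 : (EtOver.bcπ hf E).left.appTop.hom.Finite :=
    ((HasAffineProperty.iff_of_isAffine (P := @IsFinite)).1 hπ).2
  have h1 : (EtOver.bcπ hf E).left.appTop.hom.Flat :=
    HasRingHomProperty.appTop (P := @Flat) (EtOver.bcπ hf E).left hfl
  constructor
  · exact ((RingHom.Finite.of_surjective
      (ULift.ringEquiv.{u, u + 1} (R := Γ((EtOver.bcObj hf E).obj.left.left, ⊤))).symm.toRingHom
      (ULift.ringEquiv.{u, u + 1} (R := Γ((EtOver.bcObj hf E).obj.left.left, ⊤))).symm.surjective).comp h0).comp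
      (RingHom.Finite.of_surjective (ULift.ringEquiv.{u, u + 1} (R := Γ(E.obj.left.left, ⊤))).toRingHom
        (ULift.ringEquiv.{u, u + 1} (R := Γ(E.obj.left.left, ⊤))).surjective)
  · exact RingHom.Flat.comp (RingHom.Flat.comp (RingHom.Flat.of_bijective
        (f := (ULift.ringEquiv.{u, u + 1} (R := Γ(E.obj.left.left, ⊤))).toRingHom) ULift.ringEquiv.bijective) h1)
      (RingHom.Flat.of_bijective
        (f := (ULift.ringEquiv.{u, u + 1} (R := Γ((EtOver.bcObj hf E).obj.left.left, ⊤))).symm.toRingHom)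
        ULift.ringEquiv.symm.bijective)

variable [(SheafOfModules.pushforward.{u + 1} (bcRingHom hf)).IsRightAdjoint]

theorem pt_mem_weakAss_pull_iff (hfin : IsFiniteMor f) (hflat : LocP @Flat f) (G : ModEt Y) [G.IsQuasicoherent]
    (E : EtOver Y) [hE : IsAffine E.obj.left.left] (z : (EtOver.bcObj hf E).obj.left.left) :
    pt (EtOver.bcObj hf E) z ∈ FlatCA.weakAss (A (EtOver.bcObj hf E))
        (Msec ((pullModEt hf).obj G) (EtOver.bcObj hf E)) ↔
      pt E ((EtOver.bcπ hf E).left z) ∈ FlatCA.weakAss (A E) (Msec G E) := by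
  obtain ⟨hW, -⟩ := isFinite_bcπ hf hfin E
  obtain ⟨h1, h2⟩ := flat_finite_φ hf hfin hflat E
  obtain ⟨e⟩ := QCart.exists_pullSec_equiv hf G (E := E) hE hW
  letI : Algebra (A E) (A (EtOver.bcObj hf E)) := (φ hf E).hom.toAlgebra
  haveI := h1
  haveI := h2
  haveI : (pt (EtOver.bcObj hf E) z).LiesOver (pt E ((EtOver.bcπ hf E).left z)) := ⟨(comap_φ_pt hf E z).symm⟩
  have key : pt (EtOver.bcObj hf E) z ∈ FlatCA.weakAss (A (EtOver.bcObj hf E))
        (A (EtOver.bcObj hf E) ⊗[A E] Msec G E) ↔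
      pt (EtOver.bcObj hf E) z ∈ FlatCA.weakAss (A (EtOver.bcObj hf E))
        (Msec ((pullModEt hf).obj G) (EtOver.bcObj hf E)) :=
    ⟨fun h => WeakAss.weakAss_subset_of_injective e.toLinearMap e.injective h,
      fun h => WeakAss.weakAss_subset_of_injective e.symm.toLinearMap e.symm.injective h⟩
  rw [← key]
  exact ⟨fun h => Triage.WeakAssFin.mem_weakAss_of_finite (B := A (EtOver.bcObj hf E)) (M := Msec G E) _ h,
    fun h => Triage.WeakAssFin.mem_weakAss_of_flat (B := A (EtOver.bcObj hf E)) (M := Msec G E) _ h⟩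

/-- Weakly associated points of the pullback along a finite flat morphism. -/
theorem mem_weakAssEt_pull_iff (hX : IsAlgSpace X) (hY : IsAlgSpace Y) (hfin : IsFiniteMor f)
    (hflat : LocP @Flat f) (G : ModEt Y) [G.IsQuasicoherent] [((pullModEt hf).obj G).IsQuasicoherent]
    (x : Points X) : x ∈ WeakAssEt ((pullModEt hf).obj G) ↔ Points.map f x ∈ WeakAssEt G := by
  obtain ⟨E, hE, w, hw⟩ := exists_affine_chart hY (Points.map f x)
  obtain ⟨hW, -⟩ := isFinite_bcπ hf hfin E
  obtain ⟨z₀, hz₁, hz₂⟩ := AlgSpLib.exists_point_of_isPullback (EtOver.isPullback_bcObj hf E)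
    (x := x) (y := Points.ofScheme E.obj.left w) (by rw [← hw, Points.ofPt_eq_map_ofScheme])
  obtain ⟨z, rfl⟩ : ∃ z, Points.ofScheme (EtOver.bcObj hf E).obj.left z = z₀ :=
    ⟨Points.toScheme _ z₀, Points.ofScheme_toScheme _ z₀⟩
  rw [← Points.ofPt_eq_map_ofScheme] at hz₁
  subst hz₁
  rw [mem_weakAssEt_iff _ z, map_ofPt_bcObj, mem_weakAssEt_iff, isWeakAssOn_iff, isWeakAssOn_iff]
  exact pt_mem_weakAss_pull_iff hf hfin hflat G E z

end Groth.Agent.AlgSpQC10
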